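import Mathlib

/-!
Arithmetic of the orders `(3^m - 1)/2`.
-/

set_option autoImplicit false
set_option linter.style.haveILetI false

namespace CfsgLib.Walter.Three

/-- The order of the torus. -/
abbrev torusOrder (m : ℕ) : ℕ := (3 ^ m - 1) / 2

theorem two_mul_torus (m : ℕ) : 2 * torusOrder m = 3 ^ m - 1 := by
  have h : 3 ^ m % 2 = 1 := by simp [Nat.pow_mod]
  unfold torusOrder
  omega

theorem torus_pos {m : ℕ} (hm : 0 < m) : 0 < torusOrder m := by
  have : 3 ^ 1 ≤ 3 ^ m := Nat.pow_le_pow_right (by norm_num) hm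
  unfold torusOrder
  omega

theorem torus_odd {m : ℕ} (hm : Odd m) : Odd (torusOrder m) := by
  obtain ⟨i, rfl⟩ := hm
  have h : 3 ^ (2 * i + 1) % 4 = 3 := by
    induction i with
    | zero => norm_num
    | succ n ih =>
      have e : 3 ^ (2 * (n + 1) + 1) = 9 * 3 ^ (2 * n + 1) := by
        rw [show 2 * (n + 1) + 1 = (2 * n + 1) + 2 by omega, pow_add]; ring
      omega
  rw [Nat.odd_iff]
  unfold torusOrder
  generalize 3 ^ (2 * i + 1) = b at h ⊢
  omega

theorem torus_not_three {m : ℕ} (hm : 0 < m) : ¬ 3 ∣ torusOrder m := by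
  intro h
  have h' := h.mul_left 2
  rw [two_mul_torus] at h'
  have h3 : 3 ∣ 3 ^ m := dvd_pow_self 3 (by omega)
  have : 0 < 3 ^ m := pow_pos (by norm_num) m
  omega

theorem torus_dvd {g m : ℕ} (hg : g ∣ m) : torusOrder g ∣ torusOrder m := by
  have h := Nat.pow_sub_one_dvd_pow_sub_one 3 hg
  rw [← two_mul_torus g, ← two_mul_torus m] at h
  exact (Nat.mul_dvd_mul_iff_left (by norm_num)).mp h

theorem dvd_three_pow_gcd {n g m : ℕ} (h1 : n ∣ 3 ^ g - 1) (h2 : n ∣ 3 ^ m - 1) : n ∣ 3 ^ Nat.gcd g m - 1 := by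
  rw [← Nat.pow_sub_one_gcd_pow_sub_one]
  exact Nat.dvd_gcd h1 h2

/-- The quotient of two tori divides any cofactor. -/
theorem quot_dvd {g m j : ℕ} (hm : Odd m) (hg : g ∣ m) (h : torusOrder m ∣ (3 ^ g - 1) * j) :
    torusOrder m / torusOrder g ∣ j := by
  have hgpos : 0 < g := Nat.pos_of_dvd_of_pos hg hm.pos
  rw [← two_mul_torus g, mul_assoc] at h
  have h2 : Nat.Coprime (torusOrder m) 2 := (torus_odd hm).coprime_two_right
  have h3 := h2.dvd_of_dvd_mul_left h
  obtain ⟨c, hc⟩ := torus_dvd hg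
  rw [hc] at h3 ⊢
  rw [Nat.mul_div_cancel_left _ (torus_pos hgpos)]
  exact (Nat.mul_dvd_mul_iff_left (torus_pos hgpos)).mp h3

/-- Size of the quotient of two tori. -/
theorem le_quot {g m : ℕ} (hg : g ∣ m) (hgpos : 0 < g) (hle : g ≤ m) :
    3 ^ (m - g) ≤ torusOrder m / torusOrder g := by
  rw [Nat.le_div_iff_mul_le (torus_pos hgpos)]
  have h1 := two_mul_torus g
  have h2 := two_mul_torus m
  have h3 : 3 ^ (m - g) * 3 ^ g = 3 ^ m := by rw [← pow_add, Nat.sub_add_cancel hle]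
  have h4 : 0 < 3 ^ (m - g) := pow_pos (by norm_num) _
  have h5 : 3 ^ (m - g) * (2 * torusOrder g + 1) = 3 ^ m := by
    rw [h1, Nat.sub_add_cancel (Nat.one_le_pow _ _ (by norm_num)), h3]
  rw [Nat.mul_add, mul_one, Nat.mul_left_comm] at h5
  omega

theorem sub_le_of_proper {g m : ℕ} (hm : Odd m) (hg : g ∣ m) (hlt : g < m) : 2 * m ≤ 3 * (m - g) := by
  obtain ⟨r, rfl⟩ := hg
  have hr := (Nat.odd_mul.mp hm).2
  rw [Nat.odd_iff] at hr
  have h3 : 3 ≤ r := by
    by_contra hh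
    obtain rfl : r = 1 := by omega
    omega
  have : g * 3 ≤ g * r := Nat.mul_le_mul_left g h3
  omega

/-- `h^j` lies in no proper subfield. -/
def NoSubfield (m j : ℕ) : Prop := ∀ g, g ∣ m → g < m → ¬ torusOrder m ∣ (3 ^ g - 1) * j

theorem noSubfield_of_lt {m j : ℕ} (hm : Odd m) (hj : 0 < j) (h : ∀ g, g ∣ m → g < m → j < 3 ^ (m - g)) :
    NoSubfield m j := fun g hg hlt hd => by
  have h1 := Nat.le_of_dvd hj (quot_dvd hm hg hd)
  have h2 := le_quot hg (Nat.pos_of_dvd_of_pos hg hm.pos) hlt.le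
  have h3 := h g hg hlt
  omega

theorem three_i_lt (i : ℕ) : 3 * i + 3 < 9 ^ (i + 1) := by
  induction i with
  | zero => norm_num
  | succ n ih =>
    have e : 9 ^ (n + 1 + 1) = 9 * 9 ^ (n + 1) := by rw [pow_succ]; ring
    omega

theorem noSubfield_small {m j : ℕ} (hm : Odd m) (h3 : 3 ∣ m) (hj : 0 < j) (hjm : j ≤ m) : NoSubfield m j := by
  refine noSubfield_of_lt hm hj fun g hg hlt => ?_
  obtain ⟨i, rfl⟩ := h3
  obtain ⟨i, rfl⟩ : ∃ i', i = i' + 1 := ⟨i - 1, by have := hm.pos; omega⟩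
  have h := sub_le_of_proper hm hg hlt
  have h9 : 9 ^ (i + 1) ≤ 3 ^ (3 * (i + 1) - g) := by
    rw [show (9 : ℕ) = 3 ^ 2 by norm_num, ← pow_mul]
    exact Nat.pow_le_pow_right (by norm_num) (by omega)
  have := three_i_lt i
  omega

theorem sq_lt (i : ℕ) : 225 * ((i + 3) * (i + 3)) < 4 * 9 ^ (i + 3) := by
  induction i with
  | zero => norm_num
  | succ n ih =>
    have e : 9 ^ (n + 1 + 3) = 9 * 9 ^ (n + 3) := by rw [show n + 1 + 3 = (n + 3) + 1 by omega, pow_succ]; ring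
    have e2 : (n + 1 + 3) * (n + 1 + 3) ≤ 9 * ((n + 3) * (n + 3)) := by nlinarith
    omega

/-- Exponents bounded by the square of `5m/2`. -/
theorem noSubfield_square {m j : ℕ} (hm : Odd m) (h3 : 3 ∣ m) (h9 : m ≠ 3) (hj : 0 < j)
    (hjm : 4 * j ≤ 25 * (m * m)) : NoSubfield m j := by
  refine noSubfield_of_lt hm hj fun g hg hlt => ?_
  obtain ⟨i, rfl⟩ := h3
  rw [Nat.odd_iff] at hm
  obtain ⟨i, rfl⟩ : ∃ i', i = i' + 3 := ⟨i - 3, by omega⟩
  have h := sub_le_of_proper (Nat.odd_iff.mpr hm) hg hlt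
  have hp : 9 ^ (i + 3) ≤ 3 ^ (3 * (i + 3) - g) := by
    rw [show (9 : ℕ) = 3 ^ 2 by norm_num, ← pow_mul]
    exact Nat.pow_le_pow_right (by norm_num) (by omega)
  have := sq_lt i
  have e : 25 * (3 * (i + 3) * (3 * (i + 3))) = 225 * ((i + 3) * (i + 3)) := by ring
  omega

theorem sum_one_add {R : Type*} [CommRing R] {a : R} (ha : a * a = 0) (n : ℕ) :
    ∑ i ∈ Finset.range n, (1 + a) ^ i = (n : R) + (n.choose 2 : R) * a := by
  have hp : ∀ i : ℕ, (1 + a) ^ i = 1 + (i : R) * a := by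
    intro i
    induction i with
    | zero => simp
    | succ i ih =>
      rw [pow_succ, ih]
      push_cast
      linear_combination (i : R) * ha
  induction n with
  | zero => simp
  | succ n ih =>
    rw [Finset.sum_range_succ, ih, hp, Nat.choose_succ_succ', Nat.choose_one_right]
    push_cast
    ring

theorem lt_three_pow (n : ℕ) : n + 5 < 3 ^ (n + 5 - 1) := by
  induction n with
  | zero => norm_num
  | succ n ih =>
    rw [show n + 1 + 5 - 1 = (n + 5 - 1) + 1 by omega, pow_succ]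
    omega

/-- A field automorphism of prime order `l ≥ 5` moves the torus by more than an `l`-element. -/
theorem not_power {g l i : ℕ} (hl : l.Prime) (h5 : 5 ≤ l) (hm : Odd (g * l)) :
    ¬ torusOrder (g * l) ∣ (3 ^ g - 1) * l ^ i := by
  haveI : Fact l.Prime := ⟨hl⟩
  intro hd
  have hg : g ∣ g * l := dvd_mul_right g l
  have hgpos : 0 < g := Nat.pos_of_dvd_of_pos hg hm.pos
  have hgl : g ≤ g * l := Nat.le_mul_of_pos_right g hl.pos
  set N := torusOrder (g * l) / torusOrder g with hN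
  have hNi : N ∣ l ^ i := quot_dvd hm hg hd
  have hlow : 3 ^ (g * l - g) ≤ N := le_quot hg hgpos hgl
  have hbig : l < N := by
    refine lt_of_lt_of_le ?_ hlow
    have h1 : l - 1 ≤ g * l - g := by
      obtain ⟨g', rfl⟩ : ∃ g', g = g' + 1 := ⟨g - 1, by omega⟩
      rw [Nat.add_mul, one_mul]
      have : g' ≤ g' * l := Nat.le_mul_of_pos_right g' hl.pos
      omega
    refine lt_of_lt_of_le ?_ (Nat.pow_le_pow_right (by norm_num) h1)
    obtain ⟨l', rfl⟩ : ∃ l', l = l' + 5 := ⟨l - 5, by omega⟩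
    exact lt_three_pow l'
  have hgeom : N = ∑ j ∈ Finset.range l, (3 ^ g) ^ j := by
    have h := geom_sum_mul_of_one_le (x := 3 ^ g) (Nat.one_le_pow _ _ (by norm_num)) l
    rw [← pow_mul, ← two_mul_torus (g * l), ← two_mul_torus g, Nat.mul_left_comm] at h
    rw [hN, ← Nat.eq_of_mul_eq_mul_left (by norm_num : 0 < 2) h, Nat.mul_div_cancel _ (torus_pos hgpos)]
  obtain ⟨e, -, he⟩ := (Nat.dvd_prime_pow hl).mp hNi
  have he2 : 2 ≤ e := by
    by_contra hh
    interval_cases e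
    · simp only [pow_zero] at he; omega
    · simp only [pow_one] at he; omega
  have hl2 : l ^ 2 ∣ N := he ▸ Nat.pow_dvd_pow l he2
  by_cases hX : ((3 : ZMod l)) ^ g = 1
  · -- the sum is `l` modulo `l ^ 2`
    obtain ⟨c, hc⟩ : ∃ c, 3 ^ g = 1 + l * c := by
      have h0 : ((3 ^ g - 1 : ℕ) : ZMod l) = 0 := by
        rw [Nat.cast_sub (Nat.one_le_pow _ _ (by norm_num))]; push_cast; rw [hX, sub_self]
      obtain ⟨c, hc⟩ := (ZMod.natCast_eq_zero_iff _ _).mp h0
      exact ⟨c, by have := Nat.one_le_pow g 3 (by norm_num); omega⟩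
    have hl0 : ((l : ZMod (l ^ 2))) * l = 0 := by
      rw [← Nat.cast_mul, ← pow_two]; exact ZMod.natCast_self _
    have h0 : (N : ZMod (l ^ 2)) = 0 := (ZMod.natCast_eq_zero_iff _ _).mpr hl2
    rw [hgeom, hc] at h0
    push_cast at h0
    rw [sum_one_add (by linear_combination (c : ZMod (l ^ 2)) * c * hl0)] at h0
    obtain ⟨d, hd2⟩ : l ∣ l.choose 2 := hl.dvd_choose_self (by norm_num) (by omega)
    rw [hd2] at h0
    push_cast at h0
    rw [show (l : ZMod (l ^ 2)) + l * d * (l * c) = l by linear_combination (d : ZMod (l ^ 2)) * c * hl0] at h0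
    have := Nat.le_of_dvd hl.pos ((ZMod.natCast_eq_zero_iff _ _).mp h0)
    nlinarith
  · -- the sum is `1` modulo `l`
    have h0 : (N : ZMod l) = 0 :=
      (ZMod.natCast_eq_zero_iff _ _).mpr ((dvd_pow_self l (by omega : 2 ≠ 0)).trans hl2)
    rw [hgeom] at h0
    push_cast at h0
    have h := geom_sum_mul ((3 : ZMod l) ^ g) l
    rw [h0, zero_mul, ZMod.pow_card] at h
    exact hX (sub_eq_zero.mp h.symm)

/-- A prime with respect to which `3` has order `3^k`. -/
theorem exists_prime (k : ℕ) : ∃ s : ℕ, s.Prime ∧ 5 ≤ s ∧ orderOf (3 : ZMod s) = 3 ^ (k + 1) := by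
  set X := 3 ^ 3 ^ k with hX
  obtain ⟨s, hs, hsd⟩ := Nat.exists_prime_and_dvd (show X * X + X + 1 ≠ 1 by
    have : 0 < X := pow_pos (by norm_num) _
    omega)
  haveI : Fact s.Prime := ⟨hs⟩
  have h3X : 3 ∣ X := dvd_pow_self 3 (pow_ne_zero _ (by norm_num))
  have hs3 : s ≠ 3 := fun e => by
    subst e
    have := (Nat.dvd_add_right (dvd_add (h3X.mul_left X) h3X)).mp hsd
    omega
  have hs2 : s ≠ 2 := fun e => by
    subst e
    have heven : Even (X * (X + 1)) := Nat.even_mul_succ_self X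
    rw [Nat.mul_add, mul_one, Nat.even_iff] at heven
    omega
  have hx : ((3 : ZMod s) ^ 3 ^ k) * (3 : ZMod s) ^ 3 ^ k + (3 : ZMod s) ^ 3 ^ k + 1 = 0 := by
    have := (ZMod.natCast_eq_zero_iff _ _).mpr hsd
    rw [hX] at this
    push_cast at this
    exact this
  refine ⟨s, hs, ?_, orderOf_eq_prime_pow ?_ ?_⟩
  · have := hs.two_le
    have : s ≠ 4 := fun e => by subst e; norm_num at hs
    omega
  · intro h
    rw [h] at hx
    have : ((3 : ℕ) : ZMod s) = 0 := by push_cast; linear_combination hx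
    exact hs3 ((Nat.prime_dvd_prime_iff_eq hs Nat.prime_three).mp ((ZMod.natCast_eq_zero_iff _ _).mp this))
  · rw [pow_succ 3 k, pow_mul]
    linear_combination ((3 : ZMod s) ^ 3 ^ k - 1) * hx

end CfsgLib.Walter.Three
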