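import Cfsg.Agent.Lib.Walter.Field
import Cfsg.Agent.Lib.PSL2.BorelUnique
import Cfsg.Agent.Lib.Walter.Three.Arith

/-!
The Borel subgroup of `PSL₂(3^n)`, `n` odd.
-/

set_option autoImplicit false
set_option linter.unusedSectionVars false
set_option linter.style.haveILetI false
set_option linter.unusedSimpArgs false

namespace CfsgLib.Walter.Three

open Matrix CfsgLib.PSL2

variable {F : Type} [Field F] [Fintype F]

local notation "PSL" => Matrix.ProjectiveSpecialLinearGroup (Fin 2) F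
local notation "UR" => MonoidHom.range (uHom : Multiplicative F →* Matrix.ProjectiveSpecialLinearGroup (Fin 2) F)

/-- The normaliser of the upper unitriangular group. -/
noncomputable def borel (F : Type) [Field F] : Subgroup (Matrix.ProjectiveSpecialLinearGroup (Fin 2) F) :=
  Subgroup.normalizer ((uHom : Multiplicative F →* Matrix.ProjectiveSpecialLinearGroup (Fin 2) F).range :
    Set (Matrix.ProjectiveSpecialLinearGroup (Fin 2) F))

theorem uu_mem_borel (s : F) : uu s ∈ borel F := Subgroup.le_normalizer ⟨_, rfl⟩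

theorem upper_of_inverts (g : Matrix.SpecialLinearGroup (Fin 2) F) {s : F} (hs : s ≠ 0)
    (h : mk g * uu s * (mk g)⁻¹ ∈ UR) : g.1 1 0 = 0 := by
  rw [uu_eq, ← map_inv, ← map_mul, ← map_mul, mem_uRange_iff] at h
  obtain ⟨h, -, -⟩ := h
  simp [coe_uSL, SpecialLinearGroup.coe_inv, Matrix.adjugate_fin_two, Matrix.mul_apply, Fin.sum_univ_two] at h
  by_contra hc
  have h1 : g.1 1 0 * g.1 1 0 * s = 0 := by linear_combination (-1 : F) * h
  exact mul_ne_zero (mul_ne_zero hc hc) hs h1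

theorem exists_upper {x : PSL} (hx : x ∈ borel F) :
    ∃ g : Matrix.SpecialLinearGroup (Fin 2) F, mk g = x ∧ g.1 1 0 = 0 := by
  obtain ⟨g, rfl⟩ := QuotientGroup.mk'_surjective _ x
  exact ⟨g, rfl, upper_of_normalizes g ((Subgroup.mem_normalizer_iff.mp hx (uu 1)).mp ⟨_, rfl⟩)⟩

theorem upper_det {g : Matrix.SpecialLinearGroup (Fin 2) F} (h : g.1 1 0 = 0) : g.1 0 0 * g.1 1 1 = 1 := by
  have hdet := g.2
  rwa [Matrix.det_fin_two, h, mul_zero, sub_zero] at hdet

/-- An upper triangular element with square `±1` on the diagonal is unipotent. -/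
theorem mem_uRange_of_sq {g : Matrix.SpecialLinearGroup (Fin 2) F} (h : g.1 1 0 = 0) (ha : g.1 0 0 ^ 2 = 1) :
    mk g ∈ UR := by
  rw [mem_uRange_iff]
  have hd := upper_det h
  rcases sq_eq_one_iff.mp ha with e | e <;> rw [e] at hd ⊢ <;> refine ⟨h, ?_, by simp⟩
  · rw [one_mul] at hd; exact hd.symm
  · linear_combination hd

theorem fieldAut_borel (e : F ≃+* F) {x : PSL} (hx : x ∈ borel F) : fieldAut e x ∈ borel F := by
  obtain ⟨g, rfl, hg⟩ := exists_upper hx
  rw [fieldAut_apply]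
  exact upper_mem_normalizer _ (by show e (g.1 1 0) = 0; rw [hg, map_zero])

theorem sq_ne_neg_one (hq : Fintype.card F % 4 = 3) (a : F) : a ^ 2 ≠ -1 := fun h =>
  FiniteField.isSquare_neg_one_iff.mp ⟨a, by rw [← h]; ring⟩ hq

theorem involution_borel (hq : Fintype.card F % 4 = 3) {x : PSL} (hx : x ∈ borel F) (h2 : x * x = 1) :
    x ∈ UR := by
  obtain ⟨g, rfl, hg⟩ := exists_upper hx
  refine mem_uRange_of_sq hg ?_
  rw [← map_mul, ← map_one (mk : _ →* PSL), PSL2.mk_eq_mk] at h2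
  have e : (g * g).1 0 0 = g.1 0 0 ^ 2 := by
    simp [SpecialLinearGroup.coe_mul, Matrix.mul_apply, Fin.sum_univ_two, hg, pow_two]
  rcases h2 with h | h
  · rw [← e, ← h]; simp
  · exfalso
    refine sq_ne_neg_one hq (g.1 0 0) ?_
    have := congrFun (congrFun h 0) 0
    simp [SpecialLinearGroup.coe_mul, Matrix.mul_apply, Fin.sum_univ_two, hg] at this
    linear_combination this

theorem uu_zero : uu (0 : F) = 1 := map_one _

theorem uu_neg (s : F) : (uu s)⁻¹ = uu (-s) := by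
  show (uHom (Multiplicative.ofAdd s))⁻¹ = uHom (Multiplicative.ofAdd (-s))
  rw [← map_inv]
  rfl

theorem uRange_pow_three [CharP F 3] {x : PSL} (hx : x ∈ UR) : x ^ 3 = 1 := by
  obtain ⟨s, rfl⟩ := hx
  rw [← map_pow, show s ^ 3 = 1 from Multiplicative.toAdd.injective (by
    simp only [toAdd_pow, toAdd_one, nsmul_eq_mul]
    rw [show ((3 : ℕ) : F) = 0 from CharP.cast_eq_zero F 3, zero_mul]), map_one]

theorem odd_card_borel [CharP F 3] (hq : Fintype.card F % 4 = 3) : Odd (Nat.card (borel F)) := by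
  by_contra hodd
  rw [Nat.not_odd_iff_even, even_iff_two_dvd] at hodd
  haveI : Fact (Nat.Prime 2) := ⟨Nat.prime_two⟩
  obtain ⟨x, hx⟩ := exists_prime_orderOf_dvd_card' 2 hodd
  have h2 : (x : PSL) * x = 1 := by
    have := congrArg Subtype.val (pow_orderOf_eq_one x)
    rwa [hx, pow_two] at this
  have h3 := uRange_pow_three (involution_borel hq x.2 h2)
  have h1 : (x : PSL) = 1 := by rw [← h3, pow_succ, pow_two, h2, one_mul]
  rw [show x = 1 from Subtype.ext h1, orderOf_one] at hx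
  omega

/-- No involution inverts a non-trivial element of order a power of three. -/
theorem no_inverted [CharP F 3] (hq : Fintype.card F % 4 = 3) {v x : PSL} (hv : v * v = 1) (hv1 : v ≠ 1)
    {k : ℕ} (hx : x ^ 3 ^ k = 1) (hx1 : x ≠ 1) (hinv : v * x * v⁻¹ = x⁻¹) : False := by
  haveI : Fact (Nat.Prime 3) := ⟨Nat.prime_three⟩
  haveI : Finite PSL := Quotient.finite _
  obtain ⟨j, -, hj⟩ := (Nat.dvd_prime_pow Nat.prime_three).mp (orderOf_dvd_of_pow_eq_one hx)
  have hp : IsPGroup 3 (Subgroup.zpowers x) := IsPGroup.of_card (n := j) (by rw [Nat.card_zpowers, hj])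
  obtain ⟨P, hP⟩ := hp.exists_le_sylow
  obtain ⟨w, hw⟩ := MulAction.exists_smul_eq PSL (uSylow (F := F) 3) P
  have hxP := hP (Subgroup.mem_zpowers x)
  rw [← hw, Sylow.coe_subgroup_smul] at hxP
  obtain ⟨u, hu, hux⟩ := hxP
  obtain ⟨s, rfl⟩ := hu
  change w * uu s.toAdd * w⁻¹ = x at hux
  have hs : s.toAdd ≠ 0 := fun e => hx1 (by rw [← hux, e, uu_zero, mul_one, mul_inv_cancel])
  have hconj : w⁻¹ * v * w * uu s.toAdd * (w⁻¹ * v * w)⁻¹ = uu (-s.toAdd) := by
    rw [← hux] at hinv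
    rw [← uu_neg]
    calc w⁻¹ * v * w * uu s.toAdd * (w⁻¹ * v * w)⁻¹ = w⁻¹ * (v * (w * uu s.toAdd * w⁻¹) * v⁻¹) * w := by group
      _ = _ := by rw [hinv]; group
  obtain ⟨g, hg⟩ := QuotientGroup.mk'_surjective _ (w⁻¹ * v * w)
  have hg0 : g.1 1 0 = 0 := upper_of_inverts g hs (by
    show mk g * uu s.toAdd * (mk g)⁻¹ ∈ UR
    rw [show mk g = w⁻¹ * v * w from hg, hconj]
    exact ⟨_, rfl⟩)
  have h2 : (w⁻¹ * v * w) * (w⁻¹ * v * w) = 1 := by
    rw [show (w⁻¹ * v * w) * (w⁻¹ * v * w) = w⁻¹ * (v * v) * w by group, hv]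
    group
  have hb : w⁻¹ * v * w ∈ borel F := hg ▸ upper_mem_normalizer g hg0
  have h3 := uRange_pow_three (involution_borel hq hb h2)
  rw [pow_succ, pow_two, h2, one_mul] at h3
  exact hv1 (by rw [show v = w * (w⁻¹ * v * w) * w⁻¹ by group, h3]; group)

/-- Elements of the Borel group times field automorphisms that fix the unipotent group pointwise. -/
theorem trivial_of_fix_uRange {x : PSL} (hx : x ∈ borel F) {e : RingAut F}
    (h : ∀ s : F, x * fieldAut e (uu s) * x⁻¹ = uu s) : e = 1 ∧ x ∈ UR := by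
  obtain ⟨g, rfl, hg⟩ := exists_upper hx
  have h1 : ∀ s : F, g.1 0 0 ^ 2 * e s = s := fun s => by
    have := h s
    rw [fieldAut_uu, conj_uu_of_upper g hg] at this
    exact uu_injective this
  have ha : g.1 0 0 ^ 2 = 1 := by simpa using h1 1
  exact ⟨RingEquiv.ext fun s => by simpa [ha] using h1 s, mem_uRange_of_sq hg ha⟩

/-- The commutator of two elements of the Borel group is unipotent. -/
theorem comm_borel {x y : PSL} (hx : x ∈ borel F) (hy : y ∈ borel F) : x * y * x⁻¹ * y⁻¹ ∈ UR := by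
  obtain ⟨g, rfl, hg⟩ := exists_upper hx
  obtain ⟨k, rfl, hk⟩ := exists_upper hy
  rw [← map_inv, ← map_inv, ← map_mul, ← map_mul, ← map_mul]
  have e1 : (g * k * g⁻¹ * k⁻¹).1 1 0 = 0 := by
    simp [SpecialLinearGroup.coe_mul, SpecialLinearGroup.coe_inv, Matrix.adjugate_fin_two, Matrix.mul_apply,
      Fin.sum_univ_two, hg, hk]
  refine mem_uRange_of_sq e1 ?_
  have e0 : (g * k * g⁻¹ * k⁻¹).1 0 0 = (g.1 0 0 * g.1 1 1) * (k.1 0 0 * k.1 1 1) := by
    simp [SpecialLinearGroup.coe_mul, SpecialLinearGroup.coe_inv, Matrix.adjugate_fin_two, Matrix.mul_apply,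
      Fin.sum_univ_two, hg, hk]
    ring
  rw [e0, upper_det hg, upper_det hk]
  ring

/-- A subgroup of the additive group stable under the squares of units is trivial or everything. -/
theorem stable_eq_bot_or_top [CharP F 3] (S : AddSubgroup F) (h : ∀ a : F, a ≠ 0 → ∀ s ∈ S, a ^ 2 * s ∈ S) :
    S = ⊥ ∨ S = ⊤ := by
  refine or_iff_not_imp_left.mpr fun hne => ?_
  haveI : Fact (Nat.Prime 3) := ⟨Nat.prime_three⟩
  obtain ⟨s, hs, hs0⟩ := S.bot_or_exists_ne_zero.resolve_left hne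
  rw [AddSubgroup.eq_top_iff']
  intro x
  have hy := squares_generate (p := 3) (S.comap (AddMonoidHom.mulRight s)) (fun y => by
    show y ^ 2 * s ∈ S
    by_cases hy : y = 0
    · rw [hy]; simp
    · exact h y hy s hs) (x / s)
  simpa [div_mul_cancel₀ x hs0] using hy

/-- A diagonal element of the largest order. -/
theorem exists_torus_gen {n : ℕ} (hn : Fintype.card F = 3 ^ n) :
    ∃ (a : F) (ha : a ≠ 0), (∀ k : ℕ, a ^ k = 1 ↔ 3 ^ n - 1 ∣ k) ∧ (∀ y : F, y ≠ 0 → ∃ k : ℕ, a ^ k = y) ∧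
      orderOf (mk (dSL a ha) : PSL) = torusOrder n := by
  classical
  obtain ⟨u, hu⟩ := IsCyclic.exists_generator (α := Fˣ)
  have hord : orderOf u = 3 ^ n - 1 := by
    rw [orderOf_eq_card_of_forall_mem_zpowers hu, Nat.card_eq_fintype_card, Fintype.card_units, hn]
  have hpow : ∀ k : ℕ, (u : F) ^ k = 1 ↔ 3 ^ n - 1 ∣ k := fun k => by
    rw [← hord, orderOf_dvd_iff_pow_eq_one, ← Units.val_pow_eq_pow_val, Units.val_eq_one]
  refine ⟨u, u.ne_zero, hpow, fun y hy => ?_, ?_⟩
  · obtain ⟨k, hk⟩ := mem_powers_iff_mem_zpowers.mpr (hu (Units.mk0 y hy))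
    exact ⟨k, congrArg Units.val hk⟩
  have hdk : ∀ k : ℕ, (mk (dSL (u : F) u.ne_zero) : PSL) ^ k = mk (dSL ((u : F) ^ k) (pow_ne_zero k u.ne_zero)) := by
    intro k
    rw [← map_pow]
    congr 1
    induction k with
    | zero => exact Subtype.ext (by simp [coe_dSL, Matrix.one_fin_two])
    | succ k ih =>
      rw [pow_succ, ih]
      exact Subtype.ext (by simp [coe_dSL, pow_succ, mul_comm])
  have hiff : ∀ k : ℕ, (mk (dSL (u : F) u.ne_zero) : PSL) ^ k = 1 ↔ torusOrder n ∣ k := by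
    intro k
    rw [hdk, ← map_one (mk : _ →* PSL), PSL2.mk_eq_mk]
    have h2 : 3 ^ n - 1 ∣ 2 * k ↔ torusOrder n ∣ k := by
      rw [← two_mul_torus]
      exact Nat.mul_dvd_mul_iff_left two_pos
    rw [← h2, ← hpow, pow_mul']
    constructor
    · rintro (h | h) <;> have e := congrFun (congrFun h 0) 0 <;> simp [coe_dSL] at e
      · rw [← e, one_pow]
      · rw [show (u : F) ^ k = -1 by linear_combination e, neg_one_sq]
    · intro h
      rcases sq_eq_one_iff.mp h with e | e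
      · exact Or.inl (by simp [coe_dSL, e, Matrix.one_fin_two])
      · refine Or.inr ?_
        show (1 : Matrix.SpecialLinearGroup (Fin 2) F).1 = -(dSL ((u : F) ^ k) _).1
        ext i j
        fin_cases i <;> fin_cases j <;> simp [coe_dSL, e]
  exact Nat.dvd_antisymm (orderOf_dvd_of_pow_eq_one ((hiff _).mpr dvd_rfl))
    ((hiff _).mp (pow_orderOf_eq_one _))

/-- Field automorphisms are powers of the Frobenius map. -/
theorem exists_frob_pow [CharP F 3] {n : ℕ} (hn : Fintype.card F = 3 ^ n) (σ : RingAut F) :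
    ∃ a : ℕ, (∀ x, σ x = x ^ 3 ^ a) ∧ (n ∣ a → σ = 1) := by
  classical
  haveI : Fact (Nat.Prime 3) := ⟨Nat.prime_three⟩
  have hn0 : n ≠ 0 := fun e => by
    have := Fintype.one_lt_card (α := F)
    rw [hn, e, pow_zero] at this
    omega
  set τ : RingAut F := frobeniusEquiv F 3 with hτ
  have hτk : ∀ (k : ℕ) (x : F), (τ ^ k) x = x ^ 3 ^ k := by
    intro k
    induction k with
    | zero => intro x; simp
    | succ k ih =>
      intro x
      rw [pow_succ τ]
      show (τ ^ k) (τ x) = _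
      rw [ih, show τ x = x ^ 3 from rfl, ← pow_mul, ← pow_succ']
  have hall : ∀ x : F, x ^ 3 ^ n = x := fun x => hn ▸ FiniteField.pow_card x
  obtain ⟨hcyc, hcard⟩ := Chev.ringAut_cyclic_card (F := F) 3 (f := n) (by rw [Nat.card_eq_fintype_card, hn])
  haveI : Finite (RingAut F) := Finite.of_injective (fun e : RingAut F => (e : F → F)) DFunLike.coe_injective
  have hord : orderOf τ = n := by
    refine Nat.dvd_antisymm (hcard ▸ orderOf_dvd_natCard τ) ?_
    obtain ⟨u, hu⟩ := IsCyclic.exists_generator (α := Fˣ)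
    have h : (τ ^ orderOf τ) (u : F) = (u : F) := by rw [pow_orderOf_eq_one]; rfl
    rw [hτk] at h
    have h1 : (u : F) ^ (3 ^ orderOf τ - 1) = 1 := by
      refine mul_right_cancel₀ u.ne_zero ?_
      rw [← pow_succ, Nat.sub_add_cancel (Nat.one_le_pow _ _ (by norm_num)), h, one_mul]
    have h2 : 3 ^ n - 1 ∣ 3 ^ orderOf τ - 1 := by
      rw [← hn, ← Fintype.card_units, ← Nat.card_eq_fintype_card, ← orderOf_eq_card_of_forall_mem_zpowers hu,
        orderOf_dvd_iff_pow_eq_one]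
      exact Units.ext (by simpa using h1)
    have h3 : 3 ^ n - 1 ∣ 3 ^ Nat.gcd n (orderOf τ) - 1 := by
      rw [← Nat.pow_sub_one_gcd_pow_sub_one]
      exact Nat.dvd_gcd dvd_rfl h2
    by_contra hnd
    have hg : Nat.gcd n (orderOf τ) < n :=
      lt_of_le_of_ne (Nat.le_of_dvd (Nat.pos_of_ne_zero hn0) (Nat.gcd_dvd_left _ _))
        fun e => hnd (e ▸ Nat.gcd_dvd_right _ _)
    have hgpos : 0 < Nat.gcd n (orderOf τ) := Nat.gcd_pos_of_pos_left _ (Nat.pos_of_ne_zero hn0)
    have hlt := Nat.pow_lt_pow_right (by norm_num : 1 < 3) hg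
    have h31 : 1 < 3 ^ Nat.gcd n (orderOf τ) := Nat.one_lt_pow hgpos.ne' (by norm_num)
    have := Nat.le_of_dvd (by omega) h3
    omega
  have htop : Subgroup.zpowers τ = ⊤ :=
    Subgroup.eq_top_of_card_eq _ (by rw [Nat.card_zpowers, hord, hcard])
  obtain ⟨a, ha⟩ := mem_powers_iff_mem_zpowers.mpr (htop.symm ▸ Subgroup.mem_top σ : σ ∈ Subgroup.zpowers τ)
  refine ⟨a, fun x => by rw [← ha]; exact hτk a x, fun hd => ?_⟩
  rw [← ha]
  exact orderOf_dvd_iff_pow_eq_one.mp (hord.symm ▸ hd)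

end CfsgLib.Walter.Three
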