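import Cfsg.Agent.Lib.Walter.Three.Chief
import Cfsg.Agent.Lib.HallE8.Basic
import Cfsg.Agent.Lib.StrongFusion.Functors
import Cfsg.Agent.Lib.TransferApps

/-!
Case (U) of the minimal counterexample does not occur.
-/

set_option autoImplicit false
set_option linter.unusedSectionVars false
set_option linter.style.haveILetI false

namespace CfsgLib.Walter

open Cfsg CfsgLib.Walter.Three

universe u

variable {G : Type u} [Group G] [Finite G]

/-- A simple group of the induction statement is perfect. -/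
theorem Base.commutator_eq_top (B : Base G) : commutator G = ⊤ := by
  haveI := B.simple
  refine ((inferInstance : (commutator G).Normal).eq_bot_or_eq_top).resolve_left fun h => B.not_comm ?_
  exact (commutator_eq_bot_iff G).mp h

/-- Case (U) of the minimal counterexample does not occur. -/
theorem caseU_false (B : Base G) (C : Coord G) (h : CaseU C) : False := by
  classical
  haveI : Fact (Nat.Prime 3) := ⟨Nat.prime_three⟩
  haveI : Fact (Nat.Prime 2) := ⟨Nat.prime_two⟩
  obtain ⟨n, D⟩ := exists_uData h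
  obtain ⟨P, hP⟩ := exists_zj_fam B D
  obtain ⟨c, a, k, hσ, ⟨v, hv⟩, hk, hak⟩ := D.exists_exponent
  set M := Subgroup.normalizer (ZJ.zj 0 (P : Subgroup G) : Set G) with hM
  have hφ : C.φ ^ c ∈ M := pow_mem (hP.y_le φ_mem_yOdd) c
  refine hP.not_mem_commutator B D hσ hk hak hφ ?_
  have hPM : (P : Subgroup G) ≤ M := Subgroup.le_normalizer.trans (ZJ.normalizer_le_normalizer_zj 0 _)
  -- fusion is controlled by `M`
  have hfree : ¬ Involves (Cfsg.qd 3) G :=
    HallE8.free_of_abelian B.T (fun x hx y hy => B.e8.comm hx hy) (by norm_num)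
  have hc : ∀ x ∈ (P : Subgroup G), ∀ g : G, g * x * g⁻¹ ∈ (P : Subgroup G) →
      ∃ m ∈ M, m * x * m⁻¹ = g * x * g⁻¹ := by
    intro x hx g hg
    have hctl := StrongFusion.controlsOf_zj (p := 3) (by norm_num) hfree (Or.inl rfl) P (D := (P : Subgroup G))
      ⟨le_rfl, fun _ _ _ h => h⟩ (A := ({x} : Set G)) (Set.singleton_subset_iff.mpr hx)
    rw [StrongFusion.inducedFunctor_zjA, ← ZJ.zj_zero] at hctl
    obtain ⟨m, hm, hmx⟩ := hctl.2 g (by rintro _ ⟨y, rfl, rfl⟩; exact hg)
    exact ⟨m, hm, (hmx x rfl).symm⟩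
  have hfoc : (P : Subgroup G) ≤ ⁅M, M⁆ := by
    have h1 := TransferApps.commutator_inf_sylow_eq_of_control P M hc hPM
    rw [B.commutator_eq_top, top_inf_eq] at h1
    exact h1.le.trans inf_le_left
  -- conjugate the three-part of `φ` into `P`
  set φM : M := ⟨C.φ ^ c, hφ⟩ with hφM
  have hφp : IsPGroup 3 (Subgroup.zpowers φM) := by
    obtain ⟨j, -, hj⟩ := (Nat.dvd_prime_pow Nat.prime_three).mp
      (orderOf_dvd_of_pow_eq_one (x := φM) (Subtype.ext hv : φM ^ 3 ^ v = 1))
    exact IsPGroup.of_card (n := j) (by rw [Nat.card_zpowers, hj])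
  obtain ⟨Q, hQ⟩ := hφp.exists_le_sylow
  obtain ⟨m, hm⟩ := MulAction.exists_smul_eq M Q (P.subtype hPM)
  have h2 : m * φM * m⁻¹ ∈ ((P.subtype hPM : Sylow 3 M) : Subgroup M) := by
    rw [← hm, Sylow.coe_subgroup_smul]
    exact ⟨φM, hQ (Subgroup.mem_zpowers φM), rfl⟩
  have h3 : ((m * φM * m⁻¹ : M) : G) ∈ ⁅M, M⁆ := hfoc h2
  rw [← Subgroup.map_subtype_commutator] at h3
  obtain ⟨w, hw, hwe⟩ := h3
  rw [show w = m * φM * m⁻¹ from Subtype.ext hwe] at hw
  have h4 := (inferInstance : (commutator M).Normal).conj_mem _ hw m⁻¹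
  rwa [show m⁻¹ * (m * φM * m⁻¹) * m⁻¹⁻¹ = φM by group] at h4

end CfsgLib.Walter
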