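import Cfsg.Agent.Lib.Walter.Three.Block

/-!
The torus element centralises every abelian group of order prime to three which it normalises with the involution.
-/

set_option autoImplicit false
set_option linter.unusedSectionVars false
set_option linter.style.haveILetI false

namespace CfsgLib.Walter.Three

universe u v

variable {Γ : Type u} {V : Type v} [Group Γ] [Finite Γ] [AddCommGroup V] [Module (ZMod 3) V] [Finite V]

namespace Ctx

variable {D : Ctx Γ V} {S : Set Γ} {π : Module.End (ZMod 3) V}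

theorem IsBlock.eps_swap (B : D.IsBlock S π) : D.eps (D.cj D.t π) = D.eps π := by
  rw [eps, eps, cj_cj, D.t_sq, cj_of_one, B.torus.comm B.swap.mem B.mem, add_comm]

/-- Block pairs are equal or orthogonal. -/
theorem IsBlock.eps_eq_or_orth (B : D.IsBlock S π) {π' : Module.End (ZMod 3) V} (B' : D.IsBlock S π') :
    D.eps π = D.eps π' ∨ D.eps π * D.eps π' = 0 := by
  by_cases h : D.eps π = D.eps π'
  · exact Or.inl h
  right
  have o1 : π * π' = 0 := (B.eq_or_orth B'.toIsAtom').resolve_right fun e => h (by rw [e])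
  have o2 : π * D.cj D.t π' = 0 :=
    (B.eq_or_orth B'.swap.toIsAtom').resolve_right fun e => h (by rw [e, B'.eps_swap])
  have o3 : D.cj D.t π * π' = 0 :=
    (B.swap.eq_or_orth B'.toIsAtom').resolve_right fun e => h (by rw [← B.eps_swap, e])
  have o4 : D.cj D.t π * D.cj D.t π' = 0 :=
    (B.swap.eq_or_orth B'.swap.toIsAtom').resolve_right fun e => h (by rw [← B.eps_swap, e, B'.eps_swap])
  have h1 : π * D.eps π' = 0 := by
    rw [eps, mul_sub, mul_add, o1, o2, ← mul_assoc, o1]; simp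
  have h2 : D.cj D.t π * D.eps π' = 0 := by
    rw [eps, mul_sub, mul_add, o3, o4, ← mul_assoc, o3]; simp
  show (π + D.cj D.t π - π * D.cj D.t π) * D.eps π' = 0
  rw [sub_mul, add_mul, mul_assoc π, h1, h2]
  simp

theorem cj_eps {x : Γ} (hx : x * D.t = D.t * x) (p : Module.End (ZMod 3) V) :
    D.cj x (D.eps p) = D.eps (D.cj x p) := by
  rw [eps, eps, cj_sub, cj_add, cj_mul, cj_cj, cj_cj, hx]

theorem IsBlock.map_comm (B : D.IsBlock S π) {x : Γ} (hxt : x * D.t = D.t * x)
    (hx : ∀ s ∈ S, D.ρ (x * s * x⁻¹) ∈ D.alg S) (hx' : ∀ s ∈ S, D.ρ (x⁻¹ * s * x⁻¹⁻¹) ∈ D.alg S) :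
    D.IsBlock S (D.cj x π) := by
  refine ⟨B.atom_cj hx hx', B.torus, B.tmem, ?_⟩
  obtain ⟨v, hv, hπv⟩ := B.ne
  refine ⟨D.ρ x v, D.map_U hxt v hv, fun h => hπv ?_⟩
  rw [D.cj_apply_U] at h
  have := congrArg (D.ρ x⁻¹) h
  rwa [ρ_inv_apply, map_zero] at this

/-- An element commuting with `t` and preserving the algebra fixes a block pair covering the fixed space,
and, having odd order, the block. -/
theorem IsBlock.fixed_of_cover (B : D.IsBlock S π) (hU : ∀ v ∈ D.U, D.eps π v = v) {x : Γ}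
    (hxt : x * D.t = D.t * x) (hxo : Odd (orderOf x))
    (hx : ∀ s ∈ S, D.ρ (x * s * x⁻¹) ∈ D.alg S) (hx' : ∀ s ∈ S, D.ρ (x⁻¹ * s * x⁻¹⁻¹) ∈ D.alg S) :
    D.cj x (D.eps π) = D.eps π ∧ D.cj x π = π := by
  have B' := B.map_comm hxt hx hx'
  have hU' : ∀ v ∈ D.U, D.eps (D.cj x π) v = v := fun v hv => by
    rw [← cj_eps hxt]
    conv_lhs => rw [← D.ρ_apply_inv x v]
    rw [D.cj_apply_U, hU _ (D.map_U (Commute.inv_left (show Commute x D.t from hxt)).eq v hv), ρ_apply_inv]
  have heq : D.eps π = D.eps (D.cj x π) := (B.eps_eq_or_orth B').resolve_right fun h => by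
    obtain ⟨v, hv, hv0⟩ := D.exists_U
    apply hv0
    have h' := DFunLike.congr_fun h v
    rwa [Module.End.mul_apply, hU' v hv, hU v hv, LinearMap.zero_apply] at h'
  refine ⟨by rw [cj_eps hxt, ← heq], ?_⟩
  rcases B'.eq_or_orth B.toIsAtom' with h | h
  · rcases B'.eq_or_orth B.swap.toIsAtom' with h2 | h2
    · exfalso
      obtain ⟨v, -, hv⟩ := B'.ne
      apply hv
      have h0 : D.cj x π * D.eps π = 0 := by
        conv_lhs => arg 2; unfold eps
        rw [mul_sub, mul_add, h, h2, ← mul_assoc, h]; simp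
      rw [heq, B'.mul_eps] at h0
      rw [h0, LinearMap.zero_apply]
    · -- the block goes to its image: twice gives the identity
      have hsq : D.cj (x ^ 2) π = π := by
        rw [pow_two, ← cj_cj, h2, cj_cj, hxt, ← cj_cj, h2, cj_cj, D.t_sq, cj_of_one]
      have heven : ∀ i : ℕ, D.cj ((x ^ 2) ^ i) π = π := fun i => by
        induction i with
        | zero => rw [pow_zero, cj_of_one]
        | succ i ih => rw [pow_succ, ← cj_cj, hsq, ih]
      obtain ⟨i, hi⟩ := hxo
      have := heven (i + 1)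
      rwa [← pow_mul, show 2 * (i + 1) = orderOf x + 1 by omega, pow_succ, pow_orderOf_eq_one, one_mul] at this
  · exact h

/-- A symmetric element is a root of `X^(3^i) - X` on the fixed space, for some `i ≤ m`. -/
theorem IsBlock.sym_period (B : D.IsBlock S π) (hU : ∀ v ∈ D.U, D.eps π v = v) {b : Module.End (ZMod 3) V}
    (hb : b ∈ D.alg S) (hbt : D.cj D.t b = b) :
    ∃ i, 0 < i ∧ i ≤ D.m ∧ ∀ v ∈ D.U, (b ^ 3 ^ i) v = b v := by
  classical
  set C := Algebra.adjoin (ZMod 3) ({b} : Set (Module.End (ZMod 3) V)) with hC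
  have hCS : C ≤ D.alg S := Algebra.adjoin_le (by rintro _ rfl; exact hb)
  have hCt : ∀ c ∈ C, D.cj D.t c = c := by
    intro c hc
    induction hc using Algebra.adjoin_induction with
    | mem y hy => rw [hy, hbt]
    | algebraMap r => rw [cj_algebraMap]
    | add p q _ _ hp hq => rw [cj_add, hp, hq]
    | mul p q _ _ hp hq => rw [cj_mul, hp, hq]
  have hCU : ∀ c ∈ C, ∀ v ∈ D.U, c v ∈ D.U := fun c hc v hv => by
    rw [mem_U]
    have h := D.cj_apply_U (x := D.t) (b := c) v
    rw [hCt c hc, D.mem_U.mp hv] at h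
    exact h.symm
  -- the ideal of elements killing the fixed space is prime
  haveI : IsMulCommutative C := ⟨⟨fun p q => Subtype.ext (B.torus.comm (hCS p.2) (hCS q.2))⟩⟩
  letI : CommRing C := { (inferInstance : Ring C) with mul_comm := fun p q => mul_comm' p q }
  let M : Ideal C :=
    { carrier := {c | (c : Module.End (ZMod 3) V) * π = 0}
      zero_mem' := zero_mul π
      add_mem' := fun {p q} hp hq => by
        show ((p : Module.End (ZMod 3) V) + q) * π = 0
        rw [add_mul, hp, hq, add_zero]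
      smul_mem' := fun c p hp => by
        show ((c : Module.End (ZMod 3) V) * p) * π = 0
        rw [mul_assoc, hp, mul_zero] }
  haveI : M.IsPrime := by
    refine ⟨fun e => ?_, fun {p q} hpq => B.domain (hCS p.2) (hCS q.2) hpq⟩
    have h1 : (1 : C) ∈ M := e ▸ Submodule.mem_top
    obtain ⟨v, -, hπv⟩ := B.ne
    apply hπv
    rw [show π = 0 from (one_mul π).symm.trans h1, LinearMap.zero_apply]
  have hMU : ∀ c : C, c ∈ M → ∀ v ∈ D.U, (c : Module.End (ZMod 3) V) v = 0 := by
    intro c hc v hv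
    have h1 : (c : Module.End (ZMod 3) V) * π = 0 := hc
    have h2 : (c : Module.End (ZMod 3) V) * D.cj D.t π = 0 := by
      have := congrArg (D.cj D.t) h1
      rwa [cj_mul, hCt c c.2, cj_zero] at this
    have h3 : (c : Module.End (ZMod 3) V) * D.eps π = 0 := by
      rw [eps, mul_sub, mul_add, ← mul_assoc, h1, h2]; simp
    conv_lhs => rw [← hU v hv]
    rw [← Module.End.mul_apply, h3, LinearMap.zero_apply]
  haveI : Finite (Module.End (ZMod 3) V) := Finite.of_injective _ DFunLike.coe_injective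
  haveI : Finite (C ⧸ M) := Finite.of_surjective (Ideal.Quotient.mk M) Ideal.Quotient.mk_surjective
  letI := Fintype.ofFinite (C ⧸ M)
  letI : Field (C ⧸ M) := Fintype.fieldOfDomain (C ⧸ M)
  obtain ⟨v, hv, hv0⟩ := D.exists_U
  -- evaluation at a vector embeds the residue field in the fixed space
  let ev : C →ₗ[ZMod 3] D.U :=
    ((LinearMap.applyₗ v).comp C.val.toLinearMap).codRestrict D.U fun c => hCU c c.2 v hv
  have hev : ∀ c : C, c ∈ M → ev c = 0 := fun c hc => Subtype.ext (hMU c hc v hv)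
  let ev' : (C ⧸ M) →ₗ[ZMod 3] D.U :=
    { toFun := fun q => Quotient.liftOn' q ev fun p p' hp => by
        rw [← sub_eq_zero, ← map_sub]
        exact hev _ ((Submodule.quotientRel_def M).mp hp)
      map_add' := fun q q' => Quotient.inductionOn₂' q q' fun p p' => map_add ev p p'
      map_smul' := fun r q => Quotient.inductionOn' q fun p => map_smul ev r p }
  have hinj : Function.Injective ev' := by
    refine (injective_iff_map_eq_zero ev').mpr fun q => Quotient.inductionOn' q fun p hp => ?_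
    refine Ideal.Quotient.eq_zero_iff_mem.mpr ?_
    by_contra hpm
    obtain ⟨c, hc, hcp⟩ := B.inverse (hCS p.2) hpm
    obtain ⟨w, hw⟩ := Ideal.Quotient.mk_surjective ((Ideal.Quotient.mk M p)⁻¹)
    have hne : Ideal.Quotient.mk M p ≠ 0 := fun e => hpm (Ideal.Quotient.eq_zero_iff_mem.mp e)
    have h1 : w * p - 1 ∈ M := Ideal.Quotient.eq.mp (by rw [map_mul, hw, map_one, inv_mul_cancel₀ hne])
    have h2 := hMU _ h1 v hv
    have hpv : (p : Module.End (ZMod 3) V) v = 0 := congrArg Subtype.val hp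
    apply hv0
    rw [AddSubgroupClass.coe_sub, Subalgebra.coe_mul, LinearMap.sub_apply, Module.End.mul_apply, hpv, map_zero,
      zero_sub, neg_eq_zero] at h2
    exact h2
  have hdim : Module.finrank (ZMod 3) (C ⧸ M) ≤ D.m :=
    (LinearMap.finrank_le_finrank_of_injective hinj).trans D.dim_plus.le
  refine ⟨_, Module.finrank_pos, hdim, fun w hw => ?_⟩
  have hc : Fintype.card (C ⧸ M) = 3 ^ Module.finrank (ZMod 3) (C ⧸ M) := by
    rw [Module.card_eq_pow_finrank (K := ZMod 3), ZMod.card]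
  have h := FiniteField.pow_card (Ideal.Quotient.mk M ⟨b, Algebra.self_mem_adjoin_singleton _ _⟩)
  rw [hc, ← map_pow] at h
  have := hMU _ (Ideal.Quotient.eq.mp h) w hw
  rw [AddSubgroupClass.coe_sub, SubmonoidClass.coe_pow, LinearMap.sub_apply, sub_eq_zero] at this
  exact this

theorem IsBlock.kill_eps (B : D.IsBlock S π) {b : Module.End (ZMod 3) V} (hb : b ∈ D.alg S)
    (h : ∀ v ∈ D.U, b v = 0) : b * π = 0 ∧ b * D.cj D.t π = 0 := ⟨B.kill hb h, B.swap.kill hb h⟩

variable (D)

/-- An abelian group of order prime to three normalised by `h` and `t` is centralised by `h`. -/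
theorem abelian_centralized (A : Subgroup Γ) (hAX : A ≤ D.X) (hab : ∀ a ∈ A, ∀ b ∈ A, a * b = b * a)
    (h3 : ¬ 3 ∣ Nat.card A) (ht : ∀ a ∈ A, D.t * a * D.t⁻¹ ∈ A) (hh : ∀ a ∈ A, D.h * a * D.h⁻¹ ∈ A)
    {a : Γ} (ha : a ∈ A) : D.h * a = a * D.h := by
  classical
  have hN : D.h ∈ Subgroup.normalizer (A : Set Γ) := by
    refine Subgroup.mem_normalizer_iff.mpr fun g => ⟨hh g, fun hg => ?_⟩
    have hk : ∀ n : ℕ, ∀ y ∈ A, D.h ^ n * y * (D.h ^ n)⁻¹ ∈ A := by
      intro n
      induction n with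
      | zero => intro y hy; simpa using hy
      | succ n ih =>
        intro y hy
        have := hh _ (ih y hy)
        rwa [pow_succ', mul_inv_rev, show D.h * D.h ^ n * y * ((D.h ^ n)⁻¹ * D.h⁻¹) =
          D.h * (D.h ^ n * y * (D.h ^ n)⁻¹) * D.h⁻¹ by group]
    have h1 := hk (orderOf D.h - 1) _ hg
    have e : D.h ^ (orderOf D.h - 1) = D.h⁻¹ := by
      refine eq_inv_of_mul_eq_one_left ?_
      rw [← pow_succ, Nat.sub_add_cancel (orderOf_pos D.h), pow_orderOf_eq_one]
    rwa [e, inv_inv, show D.h⁻¹ * (D.h * g * D.h⁻¹) * D.h = g by group] at h1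
  set S : Set Γ := (A : Set Γ) with hS
  have hTS : D.TorusSet S := ⟨hab, fun s hs h => h3 (h.trans (Subgroup.orderOf_dvd_natCard A hs))⟩
  have htS : ∀ s ∈ S, D.ρ (D.t * s * D.t⁻¹) ∈ D.alg S := fun s hs => D.ρ_mem_alg (ht s hs)
  have hpowS : ∀ n : ℕ, ∀ s ∈ S, D.ρ (D.h ^ n * s * (D.h ^ n)⁻¹) ∈ D.alg S := fun n s hs =>
    D.ρ_mem_alg ((Subgroup.mem_normalizer_iff.mp (pow_mem hN n) s).mp hs)
  have hinvS : ∀ n : ℕ, ∀ s ∈ S, D.ρ ((D.h ^ n)⁻¹ * s * (D.h ^ n)⁻¹⁻¹) ∈ D.alg S := fun n s hs =>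
    D.ρ_mem_alg ((Subgroup.mem_normalizer_iff.mp (inv_mem (pow_mem hN n)) s).mp hs)
  obtain ⟨π, B⟩ := D.exists_block hTS htS
  -- some small power of `h` fixes the block pair
  obtain ⟨o, ho, hom, hfix⟩ : ∃ o, 0 < o ∧ o ≤ D.m ∧ D.cj (D.h ^ o) (D.eps π) = D.eps π := by
    by_contra hno
    push Not at hno
    have horth : ∀ i j : Fin (D.m + 1), i ≠ j →
        D.cj (D.h ^ (i : ℕ)) (D.eps π) * D.cj (D.h ^ (j : ℕ)) (D.eps π) = 0 := by
      intro i j hij
      have Bi := B.map_comm (D.h_pow_comm i) (hpowS i) (hinvS i)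
      have Bj := B.map_comm (D.h_pow_comm j) (hpowS j) (hinvS j)
      rw [cj_eps (D.h_pow_comm _), cj_eps (D.h_pow_comm _)]
      refine (Bi.eps_eq_or_orth Bj).resolve_left fun e => ?_
      rw [← cj_eps (D.h_pow_comm _), ← cj_eps (D.h_pow_comm _)] at e
      rcases lt_or_gt_of_ne (fun e' => hij (Fin.ext e') : (i : ℕ) ≠ j) with hlt | hlt
      · refine hno ((j : ℕ) - i) (by omega) (by omega) (D.cj_inj (D.h ^ (i : ℕ)) ?_)
        rw [cj_cj, ← pow_add, Nat.add_sub_cancel' hlt.le, e]
      · refine hno ((i : ℕ) - j) (by omega) (by omega) (D.cj_inj (D.h ^ (j : ℕ)) ?_)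
        rw [cj_cj, ← pow_add, Nat.add_sub_cancel' hlt.le, e]
    obtain ⟨v, hv, hπv⟩ := B.ne
    have hεv : D.eps π v ≠ 0 := fun e => hπv (by rw [← B.mul_eps, Module.End.mul_apply, e, map_zero])
    let u : Fin (D.m + 1) → D.U := fun i =>
      ⟨D.ρ (D.h ^ (i : ℕ)) (D.eps π v), D.map_U (D.h_pow_comm i) _ (B.eps_map_U v hv)⟩
    have hself : ∀ i : Fin (D.m + 1), D.cj (D.h ^ (i : ℕ)) (D.eps π) (u i) = u i := fun i => by
      show D.cj _ _ (D.ρ _ (D.eps π v)) = D.ρ _ (D.eps π v)
      rw [D.cj_apply_U, ← Module.End.mul_apply (D.eps π), B.eps_idem]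
    have hli : LinearIndependent (ZMod 3) u := by
      refine Fintype.linearIndependent_iff.mpr fun g hg i => ?_
      have h0 := congrArg (fun w : D.U => D.cj (D.h ^ (i : ℕ)) (D.eps π) w) hg
      simp only [Submodule.coe_sum, Submodule.coe_smul, map_sum, map_smul, ZeroMemClass.coe_zero, map_zero] at h0
      rw [Finset.sum_eq_single i (fun j _ hj => ?_) (fun h => absurd (Finset.mem_univ i) h), hself] at h0
      · by_contra hgi
        have h1 := (smul_eq_zero.mp h0).resolve_left hgi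
        exact hεv (by
          have := congrArg (D.ρ (D.h ^ (i : ℕ))⁻¹) h1
          rwa [show ((u i : D.U) : V) = D.ρ (D.h ^ (i : ℕ)) (D.eps π v) from rfl, ρ_inv_apply, map_zero] at this)
      · rw [← hself j, ← Module.End.mul_apply, horth i j (Ne.symm hj)]
        simp
    have := hli.fintype_card_le_finrank
    rw [Fintype.card_fin, show Module.finrank (ZMod 3) D.U = D.m from D.dim_plus] at this
    omega
  have hU : ∀ v ∈ D.U, D.eps π v = v := by
    refine B.eps_apply (noSubfield_small D.m_odd D.three_dvd ho hom) ?_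
    have h := hfix
    rw [cj] at h
    show D.ρ (D.h ^ o) * D.eps π = D.eps π * D.ρ (D.h ^ o)
    conv_rhs => rw [← h, mul_assoc, ρ_inv_mul, mul_one]
  have hhodd : Odd (orderOf D.h) := by rw [D.ord]; exact torus_odd D.m_odd
  have hS1 : ∀ s ∈ S, D.ρ (D.h * s * D.h⁻¹) ∈ D.alg S := fun s hs => D.ρ_mem_alg (hh s hs)
  have hS1' : ∀ s ∈ S, D.ρ (D.h⁻¹ * s * D.h⁻¹⁻¹) ∈ D.alg S := fun s hs =>
    D.ρ_mem_alg ((Subgroup.mem_normalizer_iff.mp (inv_mem hN) s).mp hs)
  -- on each of the two blocks conjugation by `h` is trivial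
  have main : ∀ p : Module.End (ZMod 3) V, D.IsBlock S p → (∀ v ∈ D.U, D.eps p v = v) →
      ∀ b ∈ D.alg S, D.cj D.h b * p = b * p := by
    intro p P hP b hb
    have hfixp := (P.fixed_of_cover hP D.h_comm.symm hhodd hS1 hS1').2
    obtain ⟨g, hg⟩ := P.exists_frob hS1 hfixp
    have hsym : ∀ s ∈ D.alg S, D.cj D.t s = s → D.cj D.h s * p = s * p := by
      intro s hs hst
      have hth : ∀ n : ℕ, ∀ c : Module.End (ZMod 3) V, D.cj D.t (D.cj (D.h ^ n) c) = D.cj (D.h ^ n) (D.cj D.t c) :=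
        fun n c => by rw [cj_cj, cj_cj, D.h_pow_comm]
      have hiter : ∀ n : ℕ, D.cj (D.h ^ n) s * p = s ^ 3 ^ (g * n) * p := by
        intro n
        induction n with
        | zero => rw [pow_zero, cj_of_one, Nat.mul_zero, pow_zero, pow_one]
        | succ n ih =>
          calc D.cj (D.h ^ (n + 1)) s * p = D.cj D.h (D.cj (D.h ^ n) s * p) := by
                rw [cj_mul, hfixp, cj_cj, pow_succ']
            _ = _ := by
                rw [ih, cj_mul, hfixp, hg _ (pow_mem hs _), ← pow_mul, ← pow_add, Nat.mul_succ]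
      obtain ⟨i, hi, him, hper⟩ := P.sym_period hP hs hst
      have hperg : ∀ n : ℕ, ∀ v ∈ D.U, (s ^ 3 ^ (i * n)) v = s v := by
        intro n
        induction n with
        | zero => intro v _; simp
        | succ n ih =>
          intro v hv
          have hmem : ∀ k : ℕ, ∀ w ∈ D.U, (s ^ k) w ∈ D.U := by
            intro k
            induction k with
            | zero => intro w hw; simpa using hw
            | succ k ihk =>
              intro w hw
              rw [pow_succ', Module.End.mul_apply, mem_U]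
              have h := D.cj_apply_U (x := D.t) (b := s) ((s ^ k) w)
              rw [hst, D.mem_U.mp (ihk w hw)] at h
              exact h.symm
          have key : ∀ (c : Module.End (ZMod 3) V) (k : ℕ), (∀ w ∈ D.U, c w = s w) → ∀ w ∈ D.U, (c ^ k) w = (s ^ k) w := by
            intro c k hc
            induction k with
            | zero => intro w _; simp
            | succ k ihk =>
              intro w hw
              rw [pow_succ' c, Module.End.mul_apply, ihk w hw, hc _ (hmem k w hw), ← Module.End.mul_apply,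
                ← pow_succ']
          rw [Nat.mul_succ, pow_add, pow_mul, key (s ^ 3 ^ (i * n)) _ ih v hv]
          exact hper v hv
      have hcomm : ∀ v ∈ D.U, D.cj (D.h ^ i) s v = s v := by
        intro v hv
        have hsymc : D.cj D.t (D.cj (D.h ^ i) s) = D.cj (D.h ^ i) s := by rw [hth, hst]
        have hsymp : D.cj D.t (s ^ 3 ^ (g * i)) = s ^ 3 ^ (g * i) := by rw [cj_pow, hst]
        have h1 := hiter i
        have h2 : D.cj (D.h ^ i) s * D.cj D.t p = s ^ 3 ^ (g * i) * D.cj D.t p := by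
          have := congrArg (D.cj D.t) h1
          rwa [cj_mul, cj_mul, hsymc, hsymp] at this
        have h3 : D.cj (D.h ^ i) s * D.eps p = s ^ 3 ^ (g * i) * D.eps p := by
          rw [eps, mul_sub, mul_add, ← mul_assoc, h1, h2, mul_sub, mul_add, ← mul_assoc]
        conv_lhs => rw [← hP v hv]
        rw [← Module.End.mul_apply, h3, Module.End.mul_apply, hP v hv, mul_comm g i, hperg g v hv]
      have hsU : ∀ v ∈ D.U, s v ∈ D.U := fun v hv => by
        rw [mem_U]
        have h := D.cj_apply_U (x := D.t) (b := s) v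
        rw [hst, D.mem_U.mp hv] at h
        exact h.symm
      have hh' := D.comm_h (noSubfield_small D.m_odd D.three_dvd hi him) s hsU fun v hv => by
        rw [← hcomm _ (D.map_U (D.h_pow_comm i) v hv), D.cj_apply_U]
      have hkill := P.kill (b := D.cj D.h s - s) (sub_mem (D.cj_mem hS1 hs) hs) fun v hv => by
        rw [LinearMap.sub_apply, sub_eq_zero]
        conv_lhs => rw [← D.ρ_apply_inv D.h v]
        rw [D.cj_apply_U, ← hh' _ (D.map_U (Commute.inv_left (show Commute D.h D.t from D.h_comm.symm)).eq v hv),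
          ρ_apply_inv]
      rwa [sub_mul, sub_eq_zero] at hkill
    have hb' : D.cj D.t b ∈ D.alg S := P.cj_t_mem hb
    refine P.quadratic hS1 hfixp hhodd hb hb' (hsym _ (add_mem hb hb') ?_) (hsym _ (mul_mem hb hb') ?_)
    · rw [cj_add, cj_cj, D.t_sq, cj_of_one, add_comm]
    · rw [cj_mul, cj_cj, D.t_sq, cj_of_one, P.torus.comm hb' hb]
  set c := D.h * a * D.h⁻¹ * a⁻¹ with hc
  have hcA : c ∈ A := mul_mem (hh a ha) (inv_mem ha)
  have hone : ∀ p : Module.End (ZMod 3) V, D.IsBlock S p → (∀ v ∈ D.U, D.eps p v = v) → D.ρ c * p = p := by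
    intro p P hP
    have h := main p P hP (D.ρ a) (D.ρ_mem_alg ha)
    rw [cj_ρ] at h
    have hcomm2 : D.ρ c * D.ρ a = D.ρ (D.h * a * D.h⁻¹) := by rw [← map_mul, hc]; group
    calc D.ρ c * p = D.ρ c * (D.ρ a * D.ρ a⁻¹) * p := by rw [ρ_mul_inv, mul_one]
      _ = D.ρ (D.h * a * D.h⁻¹) * (D.ρ a⁻¹ * p) := by rw [← hcomm2]; simp only [mul_assoc]
      _ = D.ρ (D.h * a * D.h⁻¹) * p * D.ρ a⁻¹ := by
          rw [P.torus.comm (D.ρ_mem_alg (inv_mem ha)) P.mem, ← mul_assoc]
      _ = D.ρ a * p * D.ρ a⁻¹ := by rw [h]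
      _ = p := by rw [P.torus.comm (D.ρ_mem_alg ha) P.mem, mul_assoc, ρ_mul_inv, mul_one]
  have h1 := B.eq_one hU (c := c) (hAX hcA) (B.torus.comm (D.ρ_mem_alg hcA) B.eps_mem) (hone π B hU)
    (hone _ B.swap (fun v hv => by rw [B.eps_swap]; exact hU v hv))
  rw [hc, mul_inv_eq_one, mul_inv_eq_iff_eq_mul] at h1
  exact h1

end Ctx

end CfsgLib.Walter.Three
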