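import Cfsg.Agent.Lib.Walter.Three.Ctx

/-!
Commutative algebras of operators spanned by elements of order prime to three, and their blocks.
-/

set_option autoImplicit false
set_option linter.unusedSectionVars false
set_option linter.style.haveILetI false
set_option linter.unusedSimpArgs false

namespace CfsgLib.Walter.Three

universe u v

variable {Γ : Type u} {V : Type v} [Group Γ] [Finite Γ] [AddCommGroup V] [Module (ZMod 3) V] [Finite V]

namespace Ctx

variable (D : Ctx Γ V)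

/-- Pairwise commuting elements of order prime to three. -/
def TorusSet (_ : Ctx Γ V) (S : Set Γ) : Prop :=
  (∀ a ∈ S, ∀ b ∈ S, a * b = b * a) ∧ ∀ a ∈ S, ¬ 3 ∣ orderOf a

/-- The algebra spanned by a set of elements. -/
noncomputable def alg (S : Set Γ) : Subalgebra (ZMod 3) (Module.End (ZMod 3) V) :=
  Algebra.adjoin (ZMod 3) (D.ρ '' S)

/-- Conjugation by `x` of an operator. -/
noncomputable def cj (x : Γ) (b : Module.End (ZMod 3) V) : Module.End (ZMod 3) V := D.ρ x * b * D.ρ x⁻¹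

theorem ρ_inv_mul (x : Γ) : D.ρ x⁻¹ * D.ρ x = 1 := by rw [← map_mul, inv_mul_cancel, map_one]

theorem ρ_mul_inv (x : Γ) : D.ρ x * D.ρ x⁻¹ = 1 := by rw [← map_mul, mul_inv_cancel, map_one]

theorem cj_one (x : Γ) : D.cj x 1 = 1 := by rw [cj, mul_one, ρ_mul_inv]

theorem cj_mul (x : Γ) (a b : Module.End (ZMod 3) V) : D.cj x (a * b) = D.cj x a * D.cj x b := by
  simp only [cj, mul_assoc]
  rw [← mul_assoc (D.ρ x⁻¹) (D.ρ x), ρ_inv_mul, one_mul]

theorem cj_add (x : Γ) (a b : Module.End (ZMod 3) V) : D.cj x (a + b) = D.cj x a + D.cj x b := by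
  simp [cj, mul_add, add_mul]

theorem cj_sub (x : Γ) (a b : Module.End (ZMod 3) V) : D.cj x (a - b) = D.cj x a - D.cj x b := by
  simp [cj, mul_sub, sub_mul]

theorem cj_zero (x : Γ) : D.cj x 0 = 0 := by simp [cj]

theorem cj_cj (x y : Γ) (b : Module.End (ZMod 3) V) : D.cj x (D.cj y b) = D.cj (x * y) b := by
  simp [cj, mul_assoc, map_mul]

theorem cj_of_one (b : Module.End (ZMod 3) V) : D.cj 1 b = b := by simp [cj]

theorem cj_inv_cancel (x : Γ) (b : Module.End (ZMod 3) V) : D.cj x (D.cj x⁻¹ b) = b := by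
  rw [cj_cj, mul_inv_cancel, cj_of_one]

theorem cj_inj (x : Γ) {a b : Module.End (ZMod 3) V} (h : D.cj x a = D.cj x b) : a = b := by
  have := congrArg (D.cj x⁻¹) h
  rwa [cj_cj, cj_cj, inv_mul_cancel, cj_of_one, cj_of_one] at this

theorem cj_ρ (x y : Γ) : D.cj x (D.ρ y) = D.ρ (x * y * x⁻¹) := by simp [cj, map_mul]

theorem cj_algebraMap (x : Γ) (r : ZMod 3) :
    D.cj x (algebraMap (ZMod 3) (Module.End (ZMod 3) V) r) = algebraMap _ _ r := by
  rw [cj, mul_assoc, Algebra.commutes, ← mul_assoc, ρ_mul_inv, one_mul]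

theorem cj_pow (x : Γ) (b : Module.End (ZMod 3) V) (n : ℕ) : D.cj x (b ^ n) = D.cj x b ^ n := by
  induction n with
  | zero => rw [pow_zero, pow_zero, cj_one]
  | succ n ih => rw [pow_succ, pow_succ, cj_mul, ih]

theorem cj_of_commute {x : Γ} {b : Module.End (ZMod 3) V} (h : Commute (D.ρ x) b) : D.cj x b = b := by
  rw [cj, h.eq, mul_assoc, ρ_mul_inv, mul_one]

theorem cj_apply_U {x : Γ} {b : Module.End (ZMod 3) V} (v : V) : D.cj x b (D.ρ x v) = D.ρ x (b v) := by
  simp [cj, ρ_inv_apply]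

theorem ρ_mem_alg {S : Set Γ} {s : Γ} (hs : s ∈ S) : D.ρ s ∈ D.alg S :=
  Algebra.subset_adjoin ⟨s, hs, rfl⟩

theorem cj_mem {S : Set Γ} {x : Γ} (hx : ∀ s ∈ S, D.ρ (x * s * x⁻¹) ∈ D.alg S) {b : Module.End (ZMod 3) V}
    (hb : b ∈ D.alg S) : D.cj x b ∈ D.alg S := by
  induction hb using Algebra.adjoin_induction with
  | mem y hy =>
    obtain ⟨s, hs, rfl⟩ := hy
    rw [cj_ρ]
    exact hx s hs
  | algebraMap r => rw [cj_algebraMap]; exact Subalgebra.algebraMap_mem _ r
  | add a b _ _ ha hb => rw [cj_add]; exact add_mem ha hb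
  | mul a b _ _ ha hb => rw [cj_mul]; exact mul_mem ha hb

variable {D} {S : Set Γ}

theorem TorusSet.comm (hS : D.TorusSet S) {a b : Module.End (ZMod 3) V} (ha : a ∈ D.alg S) (hb : b ∈ D.alg S) :
    a * b = b * a := by
  haveI : IsMulCommutative (D.alg S) := Algebra.isMulCommutative_adjoin (ZMod 3) (by
    rintro _ ⟨x, hx, rfl⟩ _ ⟨y, hy, rfl⟩
    rw [← map_mul, ← map_mul, hS.1 x hx y hy])
  exact congrArg Subtype.val (mul_comm' (⟨a, ha⟩ : D.alg S) ⟨b, hb⟩)

theorem TorusSet.exists_exponent (hS : D.TorusSet S) :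
    ∃ N : ℕ, 0 < N ∧ ∀ b ∈ D.alg S, b ^ 3 ^ N = b := by
  classical
  refine ⟨(Nat.card Γ).factorial, Nat.factorial_pos _, fun b hb => ?_⟩
  obtain ⟨v, -, hv⟩ := D.exists_U
  haveI : Nontrivial (Module.End (ZMod 3) V) := ⟨1, 0, fun e => hv (DFunLike.congr_fun e v)⟩
  haveI : CharP (Module.End (ZMod 3) V) 3 :=
    charP_of_injective_algebraMap (algebraMap (ZMod 3) (Module.End (ZMod 3) V)).injective 3
  induction hb using Algebra.adjoin_induction with
  | mem y hy =>
    obtain ⟨s, hs, rfl⟩ := hy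
    have hd : (Nat.totient (orderOf s)) ∣ (Nat.card Γ).factorial :=
      Nat.dvd_factorial (Nat.totient_pos.mpr (orderOf_pos s))
        ((Nat.totient_le _).trans (Nat.le_of_dvd Nat.card_pos (orderOf_dvd_natCard s)))
    obtain ⟨c, hc⟩ := hd
    have h1 : 3 ^ (Nat.card Γ).factorial ≡ 1 [MOD orderOf s] := by
      rw [hc, pow_mul]
      have := (Nat.ModEq.pow_totient ((Nat.Prime.coprime_iff_not_dvd Nat.prime_three).mpr (hS.2 s hs))).pow c
      rwa [one_pow] at this
    rw [← map_pow, show s ^ 3 ^ (Nat.card Γ).factorial = s ^ 1 from pow_eq_pow_iff_modEq.mpr h1, pow_one]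
  | algebraMap r => rw [← map_pow, ZMod.pow_card_pow]
  | add a b ha hb iha ihb =>
    have e : (a + b) ^ 3 ^ (Nat.card Γ).factorial = a ^ 3 ^ (Nat.card Γ).factorial + b ^ 3 ^ (Nat.card Γ).factorial :=
      add_pow_char_pow_of_commute (p := 3) (n := (Nat.card Γ).factorial) (hS.comm ha hb)
    rw [e, iha, ihb]
  | mul a b ha hb iha ihb => rw [(show Commute a b from hS.comm ha hb).mul_pow, iha, ihb]

theorem TorusSet.exists_idem (hS : D.TorusSet S) {b : Module.End (ZMod 3) V} (hb : b ∈ D.alg S) :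
    ∃ e c : Module.End (ZMod 3) V, e ∈ D.alg S ∧ c ∈ D.alg S ∧ e * e = e ∧ e = c * b ∧ e * b = b := by
  obtain ⟨N, hN, hQ⟩ := hS.exists_exponent
  obtain ⟨k, hk⟩ : ∃ k, 3 ^ N = k + 2 := ⟨3 ^ N - 2, by
    have := Nat.le_self_pow hN.ne' 3
    omega⟩
  have hq := hQ b hb
  rw [hk] at hq
  refine ⟨b ^ (k + 1), b ^ k, pow_mem hb _, pow_mem hb _, ?_, pow_succ b k, by rw [← pow_succ, hq]⟩
  calc b ^ (k + 1) * b ^ (k + 1) = b ^ (k + 2) * b ^ k := by rw [← pow_add, ← pow_add]; congr 1; omega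
    _ = b ^ (k + 1) := by rw [hq, ← pow_succ']

variable (D)

/-- A minimal idempotent of the algebra. -/
structure IsAtom' (S : Set Γ) (π : Module.End (ZMod 3) V) : Prop where
  mem : π ∈ D.alg S
  idem : π * π = π
  min : ∀ e ∈ D.alg S, e * e = e → e * π = 0 ∨ e * π = π

/-- A block of the algebra meeting the fixed space of the involution. -/
structure IsBlock (S : Set Γ) (π : Module.End (ZMod 3) V) : Prop extends D.IsAtom' S π where
  torus : D.TorusSet S
  tmem : ∀ s ∈ S, D.ρ (D.t * s * D.t⁻¹) ∈ D.alg S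
  ne : ∃ v ∈ D.U, π v ≠ 0

theorem exists_block (hS : D.TorusSet S) (htS : ∀ s ∈ S, D.ρ (D.t * s * D.t⁻¹) ∈ D.alg S) :
    ∃ π, D.IsBlock S π := by
  classical
  haveI : Finite (Module.End (ZMod 3) V) := Finite.of_injective _ DFunLike.coe_injective
  obtain ⟨v, hv, hv0⟩ := D.exists_U
  set P := {e : Module.End (ZMod 3) V | e ∈ D.alg S ∧ e * e = e ∧ e v ≠ 0} with hP
  obtain ⟨π, ⟨hπm, hπi, hπv⟩, hmin⟩ := Set.exists_min_image P (fun e => Nat.card (LinearMap.range e))
    (Set.toFinite _) ⟨1, one_mem _, one_mul 1, hv0⟩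
  refine ⟨π, ⟨⟨hπm, hπi, fun e he hee => ?_⟩, hS, htS, v, hv, hπv⟩⟩
  have hcomm := hS.comm he hπm
  have key : ∀ f ∈ D.alg S, f * f = f → (f * π) v ≠ 0 → f * π = π := by
    intro f hf hff hfv
    have hfc := hS.comm hf hπm
    have hi : (f * π) * (f * π) = f * π := by
      calc f * π * (f * π) = f * (π * f) * π := by simp only [mul_assoc]
        _ = f * f * (π * π) := by rw [← hfc]; simp only [mul_assoc]
        _ = f * π := by rw [hff, hπi]
    have hle : LinearMap.range (f * π) ≤ LinearMap.range π := by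
      rintro _ ⟨w, rfl⟩
      exact ⟨f w, (DFunLike.congr_fun hfc w).symm⟩
    have hc := hmin (f * π) ⟨mul_mem hf hπm, hi, hfv⟩
    have heq : LinearMap.range (f * π) = LinearMap.range π := SetLike.coe_injective
      (Set.eq_of_subset_of_ncard_le hle (by rw [← Nat.card_coe_set_eq, ← Nat.card_coe_set_eq]; exact hc))
    refine LinearMap.ext fun w => ?_
    obtain ⟨u, hu⟩ : π w ∈ LinearMap.range (f * π) := heq ▸ LinearMap.mem_range_self π w
    show f (π w) = π w
    rw [← hu]
    show f ((f * π) u) = (f * π) u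
    rw [← Module.End.mul_apply, ← mul_assoc, hff]
  by_cases h : (e * π) v = 0
  · left
    have h1 : ((1 - e) * π) v ≠ 0 := by
      rw [sub_mul, one_mul, LinearMap.sub_apply, h, sub_zero]
      exact hπv
    have h2 := key (1 - e) (sub_mem (one_mem _) he) (by rw [sub_mul, one_mul, mul_sub, mul_one, hee]; abel) h1
    rwa [sub_mul, one_mul, sub_eq_self] at h2
  · exact Or.inr (key e he hee h)

variable {D} {π : Module.End (ZMod 3) V}

theorem IsBlock.cj_t_mem (B : D.IsBlock S π) {b : Module.End (ZMod 3) V} (hb : b ∈ D.alg S) :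
    D.cj D.t b ∈ D.alg S := D.cj_mem B.tmem hb

theorem IsBlock.inverse (B : D.IsBlock S π) {b : Module.End (ZMod 3) V} (hb : b ∈ D.alg S) (hne : b * π ≠ 0) :
    ∃ c ∈ D.alg S, c * b * π = π := by
  obtain ⟨e, c, he, hc, hee, hec, heb⟩ := B.torus.exists_idem hb
  refine ⟨c, hc, ?_⟩
  rw [← hec]
  refine (B.min e he hee).resolve_left fun h => hne ?_
  rw [← heb, B.torus.comm he hb, mul_assoc, h, mul_zero]

theorem IsBlock.domain (B : D.IsBlock S π) {a b : Module.End (ZMod 3) V} (ha : a ∈ D.alg S) (hb : b ∈ D.alg S)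
    (h : a * b * π = 0) : a * π = 0 ∨ b * π = 0 := by
  by_contra hne
  push Not at hne
  obtain ⟨c, hc, hca⟩ := B.inverse ha hne.1
  refine hne.2 ?_
  calc b * π = b * (c * a * π) := by rw [hca]
    _ = c * (a * b * π) := by
      rw [← mul_assoc, ← mul_assoc, B.torus.comm hb hc, mul_assoc c b a, B.torus.comm hb ha, mul_assoc]
    _ = 0 := by rw [h, mul_zero]

theorem IsBlock.eq_or_orth (B : D.IsBlock S π) {π' : Module.End (ZMod 3) V} (B' : D.IsAtom' S π') :
    π * π' = 0 ∨ π = π' := by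
  rcases B'.min π B.mem B.idem with h | h
  · exact Or.inl h
  · rcases B.min π' B'.mem B'.idem with h' | h'
    · exact Or.inl ((B.torus.comm B.mem B'.mem).trans h')
    · exact Or.inr (by rw [← h', B.torus.comm B'.mem B.mem, h])

theorem IsBlock.atom_cj (B : D.IsBlock S π) {x : Γ} (hx : ∀ s ∈ S, D.ρ (x * s * x⁻¹) ∈ D.alg S)
    (hx' : ∀ s ∈ S, D.ρ (x⁻¹ * s * x⁻¹⁻¹) ∈ D.alg S) : D.IsAtom' S (D.cj x π) := by
  refine ⟨D.cj_mem hx B.mem, by rw [← cj_mul, B.idem], fun e he hee => ?_⟩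
  rcases B.min (D.cj x⁻¹ e) (D.cj_mem hx' he) (by rw [← cj_mul, hee]) with h | h
  · left
    have := congrArg (D.cj x) h
    rwa [cj_mul, cj_inv_cancel, cj_zero] at this
  · right
    have := congrArg (D.cj x) h
    rwa [cj_mul, cj_inv_cancel] at this

/-- The block together with its image under the involution. -/
theorem IsBlock.swap (B : D.IsBlock S π) : D.IsBlock S (D.cj D.t π) := by
  refine ⟨B.atom_cj B.tmem (by rw [D.t_inv, D.t_inv]; simpa [D.t_inv] using B.tmem), B.torus, B.tmem, ?_⟩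
  obtain ⟨v, hv, hπv⟩ := B.ne
  refine ⟨v, hv, fun h => hπv ?_⟩
  have e : D.cj D.t π v = D.ρ D.t (π v) := by
    conv_lhs => rw [← D.mem_U.mp hv]
    exact D.cj_apply_U v
  rw [e] at h
  have := congrArg (D.ρ D.t) h
  rwa [D.ρ_mul, D.t_sq, map_one, map_zero] at this

variable (D)

/-- The sum of a block and its image under the involution. -/
noncomputable def eps (π : Module.End (ZMod 3) V) : Module.End (ZMod 3) V :=
  π + D.cj D.t π - π * D.cj D.t π

variable {D}

theorem IsBlock.eps_mem (B : D.IsBlock S π) : D.eps π ∈ D.alg S :=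
  sub_mem (add_mem B.mem B.swap.mem) (mul_mem B.mem B.swap.mem)

theorem IsBlock.mul_eps (B : D.IsBlock S π) : π * D.eps π = π := by
  rw [eps, mul_sub, mul_add, B.idem, ← mul_assoc, B.idem]
  abel

theorem IsBlock.cj_t_eps (B : D.IsBlock S π) : D.cj D.t (D.eps π) = D.eps π := by
  rw [eps, cj_sub, cj_add, cj_mul, cj_cj, D.t_sq, cj_of_one, B.torus.comm B.swap.mem B.mem, add_comm]

theorem IsBlock.eps_map_U (B : D.IsBlock S π) : ∀ v ∈ D.U, D.eps π v ∈ D.U := fun v hv => by
  rw [mem_U]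
  have h := D.cj_apply_U (x := D.t) (b := D.eps π) v
  rw [B.cj_t_eps, D.mem_U.mp hv] at h
  exact h.symm

theorem IsBlock.eps_idem (B : D.IsBlock S π) : D.eps π * D.eps π = D.eps π := by
  have hc := B.torus.comm B.mem B.swap.mem
  have hp := B.idem
  have hq := B.swap.idem
  set q := D.cj D.t π
  show (π + q - π * q) * (π + q - π * q) = π + q - π * q
  have e1 : q * π = π * q := hc.symm
  have e2 : π * (π * q) = π * q := by rw [← mul_assoc, hp]
  have e3 : q * (π * q) = π * q := by rw [← mul_assoc, e1, mul_assoc, hq]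
  have e4 : π * q * π = π * q := by rw [mul_assoc, e1, ← mul_assoc, hp]
  have e5 : π * q * q = π * q := by rw [mul_assoc, hq]
  have e6 : π * q * (π * q) = π * q := by rw [← mul_assoc, e4, e5]
  simp only [mul_sub, sub_mul, mul_add, add_mul, hp, hq, e1, e2, e3, e4, e5, e6]
  abel

/-- A block pair invariant under a large enough power of `h` acts as the identity on the fixed space. -/
theorem IsBlock.eps_apply (B : D.IsBlock S π) {j : ℕ} (hj : NoSubfield D.m j)
    (hc : Commute (D.ρ (D.h ^ j)) (D.eps π)) : ∀ v ∈ D.U, D.eps π v = v := by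
  have hW : D.U.map (D.eps π) = D.U := by
    refine D.sub_eq hj ?_ ?_ fun e => ?_
    · rintro _ ⟨v, hv, rfl⟩
      exact B.eps_map_U v hv
    · rintro _ ⟨v, hv, rfl⟩
      exact ⟨D.ρ (D.h ^ j) v, D.map_U (D.h_pow_comm j) v hv, (DFunLike.congr_fun hc.eq v).symm⟩
    · obtain ⟨v, hv, hπv⟩ := B.ne
      have h0 : D.eps π v = 0 := (Submodule.mem_bot _).mp (e ▸ Submodule.mem_map_of_mem hv)
      apply hπv
      rw [← B.mul_eps, Module.End.mul_apply, h0, map_zero]
  intro v hv
  rw [← hW] at hv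
  obtain ⟨w, -, rfl⟩ := hv
  rw [← Module.End.mul_apply, B.eps_idem]

/-- An operator of the algebra vanishing on the fixed space vanishes on every block. -/
theorem IsBlock.kill (B : D.IsBlock S π) {b : Module.End (ZMod 3) V} (hb : b ∈ D.alg S)
    (h : ∀ v ∈ D.U, b v = 0) : b * π = 0 := by
  by_contra hne
  obtain ⟨c, hc, hcb⟩ := B.inverse hb hne
  obtain ⟨v, hv, hπv⟩ := B.ne
  apply hπv
  rw [← hcb, mul_assoc, B.torus.comm hb B.mem, ← mul_assoc, Module.End.mul_apply, h v hv, map_zero]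

/-- An element acting trivially on a block pair covering the fixed space is trivial. -/
theorem IsBlock.eq_one (B : D.IsBlock S π) (hU : ∀ v ∈ D.U, D.eps π v = v) {c : Γ} (hcX : c ∈ D.X)
    (hc : Commute (D.ρ c) (D.eps π)) (h1 : D.ρ c * π = π) (h2 : D.ρ c * D.cj D.t π = D.cj D.t π) : c = 1 := by
  have hE : D.ρ c * D.eps π = D.eps π := by
    rw [eps, mul_sub, mul_add, ← mul_assoc, h1, h2]
  have hE0 : (1 - D.eps π) * D.ρ D.t = -(1 - D.eps π) := by
    refine LinearMap.ext fun v => ?_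
    have h := hU _ (D.add_mem_U v)
    rw [map_add] at h
    simp only [Module.End.mul_apply, LinearMap.sub_apply, LinearMap.neg_apply, Module.End.one_apply]
    linear_combination (norm := abel) -h
  have hεt : D.ρ D.t * D.eps π = D.eps π * D.ρ D.t := by
    conv_rhs => rw [← B.cj_t_eps, cj, mul_assoc, ρ_inv_mul, mul_one]
  have hE0' : D.ρ D.t * (1 - D.eps π) = -(1 - D.eps π) := by
    rw [← hE0, mul_sub, sub_mul, mul_one, one_mul, hεt]
  have hccomm : c * D.t = D.t * c := by
    refine D.inj ?_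
    rw [map_mul, map_mul]
    have ha : D.ρ c * (1 - D.eps π) = (1 - D.eps π) * D.ρ c := by rw [mul_sub, sub_mul, mul_one, one_mul, hc.eq]
    have hsplit : ∀ f : Module.End (ZMod 3) V, f = f * D.eps π + f * (1 - D.eps π) := fun f => by
      rw [← mul_add, add_sub_cancel, mul_one]
    rw [hsplit (D.ρ c * D.ρ D.t), hsplit (D.ρ D.t * D.ρ c)]
    congr 1
    · rw [mul_assoc, mul_assoc, hεt, ← mul_assoc, hE]
      exact hεt.symm
    · rw [mul_assoc, hE0', mul_assoc, ha, ← mul_assoc (D.ρ D.t), hE0', mul_neg, neg_mul, ha]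
  refine D.faithful c hcX hccomm fun v hv => ?_
  conv_lhs => rw [← hU v (D.mem_U.mpr hv)]
  rw [← Module.End.mul_apply, hE, hU v (D.mem_U.mpr hv)]

/-- Conjugation by an element fixing a block is a power of the Frobenius map on it. -/
theorem IsBlock.exists_frob (B : D.IsBlock S π) {x : Γ} (hx : ∀ s ∈ S, D.ρ (x * s * x⁻¹) ∈ D.alg S)
    (hfix : D.cj x π = π) : ∃ g : ℕ, ∀ b ∈ D.alg S, D.cj x b * π = b ^ 3 ^ g * π := by
  classical
  haveI : IsMulCommutative (D.alg S) := ⟨⟨fun a b => Subtype.ext (B.torus.comm a.2 b.2)⟩⟩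
  letI : CommRing (D.alg S) := { (inferInstance : Ring (D.alg S)) with mul_comm := fun a b => mul_comm' a b }
  let M : Ideal (D.alg S) :=
    { carrier := {b | (b : Module.End (ZMod 3) V) * π = 0}
      zero_mem' := zero_mul π
      add_mem' := fun {a b} ha hb => by
        show ((a : Module.End (ZMod 3) V) + b) * π = 0
        rw [add_mul, ha, hb, add_zero]
      smul_mem' := fun c b hb => by
        show ((c : Module.End (ZMod 3) V) * b) * π = 0
        rw [mul_assoc, hb, mul_zero] }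
  haveI : M.IsPrime := by
    refine ⟨fun e => ?_, fun {a b} hab => B.domain a.2 b.2 hab⟩
    have h1 : (1 : D.alg S) ∈ M := e ▸ Submodule.mem_top
    obtain ⟨v, -, hπv⟩ := B.ne
    apply hπv
    rw [show π = 0 from (one_mul π).symm.trans h1, LinearMap.zero_apply]
  haveI : Finite (Module.End (ZMod 3) V) := Finite.of_injective _ DFunLike.coe_injective
  haveI : Finite (D.alg S ⧸ M) := Finite.of_surjective (Ideal.Quotient.mk M) Ideal.Quotient.mk_surjective
  letI := Fintype.ofFinite (D.alg S ⧸ M)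
  letI : Field (D.alg S ⧸ M) := Fintype.fieldOfDomain (D.alg S ⧸ M)
  let φ : D.alg S →ₐ[ZMod 3] D.alg S :=
    { toFun := fun b => ⟨D.cj x b, D.cj_mem hx b.2⟩
      map_one' := Subtype.ext (D.cj_one x)
      map_mul' := fun a b => Subtype.ext (D.cj_mul x a b)
      map_zero' := Subtype.ext (D.cj_zero x)
      map_add' := fun a b => Subtype.ext (D.cj_add x a b)
      commutes' := fun r => Subtype.ext (D.cj_algebraMap x r) }
  let σ : (D.alg S ⧸ M) →ₐ[ZMod 3] (D.alg S ⧸ M) :=
    Ideal.Quotient.liftₐ M ((Ideal.Quotient.mkₐ (ZMod 3) M).comp φ) fun b hb => by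
      refine Ideal.Quotient.eq_zero_iff_mem.mpr ?_
      show D.cj x b * π = 0
      rw [← hfix, ← cj_mul, show (b : Module.End (ZMod 3) V) * π = 0 from hb, cj_zero]
  obtain ⟨g, hg⟩ := (FiniteField.bijective_frobeniusAlgHom_pow (ZMod 3) (D.alg S ⧸ M)).2 σ
  refine ⟨g, fun b hb => ?_⟩
  have h := DFunLike.congr_fun hg (Ideal.Quotient.mk M ⟨b, hb⟩)
  rw [AlgHom.coe_pow, FiniteField.coe_frobeniusAlgHom, pow_iterate, ZMod.card] at h
  have h' : Ideal.Quotient.mk M ⟨D.cj x b, D.cj_mem hx hb⟩ = Ideal.Quotient.mk M (⟨b, hb⟩ ^ 3 ^ (g : ℕ)) := by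
    rw [map_pow]
    exact h.symm
  have h2 : (D.cj x b - b ^ 3 ^ (g : ℕ)) * π = 0 := Ideal.Quotient.eq.mp h'
  rw [sub_mul] at h2
  exact sub_eq_zero.mp h2

/-- An element fixing a block acts trivially on quadratic elements over its fixed part. -/
theorem IsBlock.quadratic (B : D.IsBlock S π) {x : Γ} (hx : ∀ s ∈ S, D.ρ (x * s * x⁻¹) ∈ D.alg S)
    (hfix : D.cj x π = π) (hodd : Odd (orderOf x)) {b b' : Module.End (ZMod 3) V} (hb : b ∈ D.alg S)
    (hb' : b' ∈ D.alg S) (hsum : D.cj x (b + b') * π = (b + b') * π)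
    (hprod : D.cj x (b * b') * π = b * b' * π) : D.cj x b * π = b * π := by
  set c := D.cj x b with hc
  have hcm := D.cj_mem hx hb
  have hcomm := fun {a a' : Module.End (ZMod 3) V} (ha : a ∈ D.alg S) (ha' : a' ∈ D.alg S) => B.torus.comm ha ha'
  have hsum' : D.cj x b' * π = (b + b' - c) * π := by
    rw [cj_add, add_mul] at hsum
    rw [sub_mul, ← hsum, hc]
    abel
  have hq : (c - b) * (c - b') * π = 0 := by
    have h1 : c * D.cj x b' * π = c * ((b + b' - c) * π) := by rw [mul_assoc, hsum']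
    rw [← cj_mul, hprod] at h1
    rw [show c * ((b + b' - c) * π) = (c * b + c * b' - c * c) * π by noncomm_ring] at h1
    rw [show (c - b) * (c - b') = c * c - b * c - c * b' + b * b' by noncomm_ring, hcomm hb hcm]
    rw [show (c * c - c * b - c * b' + b * b') * π = b * b' * π - (c * b + c * b' - c * c) * π by noncomm_ring,
      h1, sub_self]
  rcases B.domain (sub_mem hcm hb) (sub_mem hcm hb') hq with h | h
  · rwa [sub_mul, sub_eq_zero] at h
  · rw [sub_mul, sub_eq_zero] at h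
    -- conjugation exchanges the two roots
    have h2 : D.cj (x ^ 2) b * π = b * π := by
      calc D.cj (x ^ 2) b * π = D.cj x (c * π) := by rw [cj_mul, hfix, hc, cj_cj, pow_two]
        _ = D.cj x b' * π := by rw [h, cj_mul, hfix]
        _ = _ := by rw [hsum', sub_mul, add_mul, h]; abel
    have heven : ∀ i : ℕ, D.cj ((x ^ 2) ^ i) b * π = b * π := by
      intro i
      induction i with
      | zero => rw [pow_zero, cj_of_one]
      | succ i ih =>
        have hfix2 : D.cj ((x ^ 2) ^ i) π = π := by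
          clear ih h2
          induction i with
          | zero => rw [pow_zero, cj_of_one]
          | succ i ih' => rw [pow_succ, ← cj_cj, pow_two, ← cj_cj, hfix, hfix, ← pow_two, ih']
        calc D.cj ((x ^ 2) ^ (i + 1)) b * π = D.cj ((x ^ 2) ^ i) (D.cj (x ^ 2) b * π) := by
              rw [cj_mul, hfix2, cj_cj, pow_succ]
          _ = _ := by rw [h2, cj_mul, hfix2, ih]
    obtain ⟨i, hi⟩ := hodd
    have hxi : (x ^ 2) ^ (i + 1) = x := by
      rw [← pow_mul, show 2 * (i + 1) = orderOf x + 1 by omega, pow_succ, pow_orderOf_eq_one, one_mul]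
    have := heven (i + 1)
    rwa [hxi] at this

end Ctx

end CfsgLib.Walter.Three
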