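import Cfsg.Agent.Lib.Walter.Three.Module

/-!
From an irreducible action of `X⟨t⟩` on an elementary abelian three-group to the abstract setting.
-/

set_option autoImplicit false
set_option linter.unusedSectionVars false
set_option linter.style.haveILetI false

namespace CfsgLib.Walter.Three

universe u v

theorem not_mem_commutator_of_action {M : Type u} [Group M] [Finite M] {V : Type v} [AddCommGroup V]
    [Module (ZMod 3) V] [Finite V] (A : M → V →+ V) (hA1 : ∀ v, A 1 v = v)
    (hA : ∀ g g' v, A (g * g') v = A g (A g' v))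
    (X : Subgroup M) (hXn : X.Normal) (hodd : Odd (Nat.card X)) {t h φ : M} (htt : t * t = 1)
    (hcover : ∀ g, g ∈ X ∨ g * t ∈ X) (hhX : h ∈ X) (hht : t * h = h * t) {m : ℕ} (hm : Odd m) (h3m : 3 ∣ m)
    (hfix : Nat.card {v : V // A t v = v} = 3 ^ m)
    (hirrU : ∀ W : AddSubgroup V, (∀ w ∈ W, A t w = w) → (∀ w ∈ W, A h w ∈ W) →
      W = ⊥ ∨ ∀ v, A t v = v → v ∈ W)
    (hirr : ∀ W : AddSubgroup V, (∀ g, ∀ w ∈ W, A g w ∈ W) → W = ⊥ ∨ W = ⊤)
    (hord : ∀ k : ℕ, (∀ v, A (h ^ k) v = v) ↔ torusOrder m ∣ k)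
    (hfaith : ∀ y ∈ X, y * t = t * y → (∀ v, A t v = v → A y v = v) → ∀ v, A y v = v)
    (hcent : ∀ y ∈ X, y * t = t * y → ∃ k : ℕ, ∀ v, A (y * h * y⁻¹) v = A (h ^ k) v)
    (hφX : φ ∈ X) (hφt : φ * t = t * φ) {a k : ℕ} (hφh : ∀ v, A (φ * h * φ⁻¹) v = A (h ^ 3 ^ a) v)
    (hk : 3 ^ (k + 1) ∣ m) (hak : ¬ 3 ^ (k + 1) ∣ a) : φ ∉ commutator M := by
  classical
  haveI := hXn
  let R : M →* Module.End (ZMod 3) V :=
    { toFun := fun g => (A g).toZModLinearMap 3
      map_one' := LinearMap.ext fun v => hA1 v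
      map_mul' := fun g g' => LinearMap.ext fun v => hA g g' v }
  let T : M →* (Module.End (ZMod 3) V)ˣ := R.toHomUnits
  have hT : ∀ (g : M) (v : V), ((T g : (Module.End (ZMod 3) V)ˣ) : Module.End (ZMod 3) V) v = A g v := fun g v => rfl
  haveI : Finite (Module.End (ZMod 3) V) := Finite.of_injective (fun f => (f : V → V)) DFunLike.coe_injective
  let π : M →* T.range := T.rangeRestrict
  have hπs : Function.Surjective π := T.rangeRestrict_surjective
  let ρ : T.range →* Module.End (ZMod 3) V := (Units.coeHom _).comp T.range.subtype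
  have hρ : ∀ (g : M) (v : V), ρ (π g) v = A g v := hT
  have hρinj : Function.Injective ρ := fun x y e => Subtype.ext (Units.ext e)
  have hπeq : ∀ g g' : M, (∀ v, A g v = A g' v) → π g = π g' := fun g g' e =>
    hρinj (LinearMap.ext fun v => by rw [hρ, hρ, e v])
  have hπv : ∀ g g' : M, π g = π g' → ∀ v, A g v = A g' v := fun g g' e v => by rw [← hρ, ← hρ, e]
  set XΓ := X.map π with hXΓ
  -- lifting elements commuting with `t`
  have lift : ∀ x ∈ XΓ, x * π t = π t * x → ∃ y ∈ X, y * t = t * y ∧ π y = x := by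
    rintro _ ⟨x, hx, rfl⟩ hc
    set a := x⁻¹ * (t * x * t) with ha
    have hti : t⁻¹ = t := inv_eq_of_mul_eq_one_right htt
    have haX : a ∈ X := mul_mem (inv_mem hx) (by have := hXn.conj_mem x hx t; rwa [hti] at this)
    have hπa : π a = 1 := by
      rw [ha, map_mul, map_mul, map_mul, ← hc, mul_assoc (π x) (π t), ← map_mul π t t, htt, map_one, mul_one,
        ← map_mul, inv_mul_cancel, map_one]
    have hta : t * a * t⁻¹ = a⁻¹ := by
      rw [ha, hti, mul_inv_rev, inv_inv, mul_inv_rev, mul_inv_rev, hti]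
      simp only [mul_assoc]
      simp [htt]
    obtain ⟨j, hj⟩ := hodd.of_dvd_nat (Subgroup.orderOf_dvd_natCard X haX)
    set b := a ^ (j + 1) with hb
    have hbb : b * b = a := by
      rw [hb, ← pow_add, show j + 1 + (j + 1) = orderOf a + 1 by omega, pow_succ, pow_orderOf_eq_one, one_mul]
    have htb : t * b * t⁻¹ = b⁻¹ := by rw [hb, ← conj_pow, hta, inv_pow]
    refine ⟨x * b, mul_mem hx (pow_mem haX _), ?_, ?_⟩
    · have h1 : t * (x * b) * t⁻¹ = x * b := by
        rw [show t * (x * b) * t⁻¹ = t * x * t⁻¹ * (t * b * t⁻¹) by group, htb, hti,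
          show t * x * t = x * a by rw [ha]; group, ← hbb]
        group
      conv_lhs => rw [← h1]
      rw [inv_mul_cancel_right]
    · rw [map_mul, hb, map_pow, hπa, one_pow, mul_one]
  have hmem : ∀ v, v ∈ plusSpace (ρ (π t)) ↔ A t v = v := fun v => by rw [mem_plusSpace, hρ]
  let D : Ctx T.range V :=
    { ρ := ρ
      inj := hρinj
      X := XΓ
      odd := hodd.of_dvd_nat (Subgroup.card_map_dvd X π)
      t := π t
      t_sq := by rw [← map_mul, htt, map_one]
      norm := by
        rintro _ ⟨x, hx, rfl⟩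
        refine ⟨t * x * t, ?_, by rw [map_mul, map_mul]⟩
        have := hXn.conj_mem x hx t
        rwa [inv_eq_of_mul_eq_one_right htt] at this
      h := π h
      h_mem := ⟨h, hhX, rfl⟩
      h_comm := by rw [← map_mul, hht, map_mul]
      m := m
      m_odd := hm
      three_dvd := h3m
      ord := by
        have hiff : ∀ j : ℕ, π h ^ j = 1 ↔ torusOrder m ∣ j := fun j => by
          rw [← map_pow, ← hord, ← map_one π]
          exact ⟨fun e v => by rw [hπv _ _ e v, hA1], fun e => hπeq _ _ fun v => by rw [e v, hA1]⟩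
        exact Nat.dvd_antisymm (orderOf_dvd_of_pow_eq_one ((hiff _).mpr dvd_rfl))
          ((hiff _).mp (pow_orderOf_eq_one _))
      dim_plus := by
        have h1 : Nat.card ↥(plusSpace (ρ (π t))) = 3 ^ m := by
          rw [← hfix]
          exact Nat.card_congr (Equiv.subtypeEquivRight hmem)
        rw [Module.natCard_eq_pow_finrank (K := ZMod 3), Nat.card_zmod] at h1
        exact Nat.pow_right_injective (by norm_num : 2 ≤ 3) h1
      irr := fun W hW hhW => by
        rcases hirrU W.toAddSubgroup (fun w hw => (hmem w).mp (hW hw))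
          (fun w hw => by have := hhW w hw; rwa [hρ] at this) with e | e
        · left
          exact Submodule.toAddSubgroup_injective (e.trans (by ext; simp))
        · exact Or.inr (le_antisymm hW fun v hv => e v ((hmem v).mp hv))
      faithful := fun x hx hc hfix' => by
        obtain ⟨y, hy, hyt, rfl⟩ := lift x hx hc
        have h1 := hfaith y hy hyt fun v hv => by
          have := hfix' v (by rw [hρ]; exact hv)
          rwa [hρ] at this
        rw [← map_one π]
        exact hπeq _ _ fun v => by rw [h1 v, hA1]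
      cent := fun x hx hc => by
        obtain ⟨y, hy, hyt, rfl⟩ := lift x hx hc
        obtain ⟨j, hj⟩ := hcent y hy hyt
        rw [← map_inv, ← map_mul, ← map_mul, hπeq _ _ hj, map_pow]
        exact pow_mem (Subgroup.mem_zpowers _) j }
  have h3 : ∀ N : Subgroup T.range, N ≤ D.X → IsPGroup 3 N → (∀ x ∈ D.X, ∀ n ∈ N, x * n * x⁻¹ ∈ N) → N = ⊥ := by
    intro N hNX hN hnor
    haveI : Fact (Nat.Prime 3) := ⟨Nat.prime_three⟩
    let c : MulAut T.range := MulAut.conj (π t)
    set N' := N.map c.toMonoidHom with hN'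
    have hsq : π t * π t = 1 := by rw [← map_mul, htt, map_one]
    have hXc : ∀ x ∈ D.X, c x ∈ D.X := by
      intro x hx
      show π t * x * (π t)⁻¹ ∈ D.X
      rw [inv_eq_of_mul_eq_one_right hsq]
      exact D.norm x hx
    have hcc : ∀ x, c (c x) = x := fun x => by
      show π t * (π t * x * (π t)⁻¹) * (π t)⁻¹ = x
      rw [inv_eq_of_mul_eq_one_right hsq, show π t * (π t * x * π t) * π t = (π t * π t) * x * (π t * π t) by group,
        hsq, one_mul, mul_one]
    have hN'X : N' ≤ D.X := by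
      rintro _ ⟨n, hn, rfl⟩
      exact hXc n (hNX hn)
    have hnor' : ∀ x ∈ D.X, ∀ n ∈ N', x * n * x⁻¹ ∈ N' := by
      rintro x hx _ ⟨n, hn, rfl⟩
      refine ⟨c x * n * (c x)⁻¹, hnor _ (hXc x hx) n hn, ?_⟩
      show c (c x * n * (c x)⁻¹) = x * c n * x⁻¹
      rw [map_mul, map_mul, map_inv, hcc]
    have hX : ∀ x ∈ D.X, x ∈ Subgroup.normalizer (N : Set T.range) := fun x hx =>
      Subgroup.mem_normalizer_fintype fun n hn => hnor x hx n hn
    have hKp : IsPGroup 3 (N' ⊔ N : Subgroup T.range) :=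
      (hN.map _).to_sup_of_normal_right' hN fun x hx => hX x (hN'X hx)
    -- the supremum is normal
    have hKn : ∀ g : T.range, ∀ n ∈ N' ⊔ N, g * n * g⁻¹ ∈ N' ⊔ N := by
      have step : ∀ g : T.range, (∀ n ∈ N, g * n * g⁻¹ ∈ N' ⊔ N) → (∀ n ∈ N', g * n * g⁻¹ ∈ N' ⊔ N) →
          ∀ n ∈ N' ⊔ N, g * n * g⁻¹ ∈ N' ⊔ N := fun g h1 h2 n hn => by
        have hle : N' ⊔ N ≤ (N' ⊔ N).comap (MulAut.conj g).toMonoidHom := sup_le h2 h1
        exact hle hn
      have hXn' : ∀ g ∈ D.X, ∀ n ∈ N' ⊔ N, g * n * g⁻¹ ∈ N' ⊔ N := fun g hg => step g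
        (fun n hn => Subgroup.mem_sup_right (hnor g hg n hn)) (fun n hn => Subgroup.mem_sup_left (hnor' g hg n hn))
      have htn : ∀ n ∈ N' ⊔ N, π t * n * (π t)⁻¹ ∈ N' ⊔ N := step (π t)
        (fun n hn => Subgroup.mem_sup_left ⟨n, hn, rfl⟩) (by
          rintro _ ⟨n, hn, rfl⟩
          exact Subgroup.mem_sup_right (show c (c n) ∈ N by rw [hcc]; exact hn))
      intro g n hn
      obtain ⟨g0, rfl⟩ := hπs g
      rcases hcover g0 with hg | hg
      · exact hXn' _ ⟨g0, hg, rfl⟩ n hn
      · have h1 := hXn' _ ⟨g0 * t, hg, rfl⟩ _ (htn n hn)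
        rwa [map_mul, show π g0 * π t * (π t * n * (π t)⁻¹) * (π g0 * π t)⁻¹ =
          π g0 * (π t * π t) * n * (π g0 * (π t * π t))⁻¹ by group, hsq, mul_one] at h1
    set K := N' ⊔ N with hK
    letI : MulAction K V := MulAction.compHom V (ρ.comp K.subtype)
    have hsmul : ∀ (x : K) (v : V), x • v = ρ x v := fun _ _ => rfl
    let W : AddSubgroup V :=
      { carrier := {v | ∀ x : K, ρ x v = v}
        zero_mem' := fun x => map_zero _
        add_mem' := fun {a b} ha hb x => by rw [map_add, ha x, hb x]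
        neg_mem' := fun {a} ha x => by rw [map_neg, ha x] }
    have hWinv : ∀ g, ∀ w ∈ W, A g w ∈ W := by
      intro g w hw x
      have hmem' : (π g)⁻¹ * x * π g ∈ K := by simpa using hKn (π g)⁻¹ x x.2
      rw [← hρ, ← Module.End.mul_apply, ← map_mul,
        show (x : T.range) * π g = π g * ((π g)⁻¹ * x * π g) by group, map_mul, Module.End.mul_apply,
        show ρ ((π g)⁻¹ * x * π g) w = w from hw ⟨_, hmem'⟩]
    obtain ⟨u, hu, hu0⟩ := D.exists_U
    have hWne : W ≠ ⊥ := by
      obtain ⟨b, hb, hb0⟩ := hKp.exists_fixed_point_of_prime_dvd_card_of_fixed_point (α := V) (by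
          haveI : Nontrivial V := ⟨⟨u, 0, hu0⟩⟩
          rw [Module.natCard_eq_pow_finrank (K := ZMod 3), Nat.card_zmod]
          exact dvd_pow_self 3 Module.finrank_pos.ne')
        (a := (0 : V)) (fun x => map_zero (ρ x))
      intro e
      have hbW : b ∈ W := fun x => hb x
      rw [e, AddSubgroup.mem_bot] at hbW
      exact hb0 hbW.symm
    have hWtop := (hirr W hWinv).resolve_left hWne
    rw [Subgroup.eq_bot_iff_forall]
    intro n hn
    refine hρinj (LinearMap.ext fun v => ?_)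
    rw [map_one, Module.End.one_apply]
    have hv : v ∈ W := hWtop ▸ AddSubgroup.mem_top v
    exact hv ⟨n, Subgroup.mem_sup_right hn⟩
  intro hmem'
  refine D.not_mem_commutator h3 ?_ (φ := π φ) ⟨φ, hφX, rfl⟩ ?_ (a := a) (k := k) ?_ hk hak ?_
  · intro g
    obtain ⟨g0, rfl⟩ := hπs g
    rcases hcover g0 with hg | hg
    · exact Or.inl ⟨g0, hg, rfl⟩
    · exact Or.inr ⟨g0 * t, hg, map_mul _ _ _⟩
  · show π φ * π t = π t * π φ
    rw [← map_mul, hφt, map_mul]
  · show π φ * π h * (π φ)⁻¹ = π h ^ 3 ^ a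
    rw [← map_inv, ← map_mul, ← map_mul, hπeq _ _ hφh, map_pow]
  · have h1 : π φ ∈ (commutator M).map π := ⟨φ, hmem', rfl⟩
    rw [commutator_def, Subgroup.map_commutator, Subgroup.map_top_of_surjective π hπs] at h1
    exact h1

end CfsgLib.Walter.Three
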