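import Cfsg.Agent.Lib.Walter.Three.Family
import Cfsg.Agent.Lib.Bender.ExtZJ
import Cfsg.Agent.Lib.Coprime
import Cfsg.Agent.Lib.StrongFusion.Chain

/-!
The normalisers in the family have the form `X⟨t⟩`; a member is the centre of the Thompson subgroup of a Sylow 3-subgroup.
-/

set_option autoImplicit false
set_option linter.unusedSectionVars false
set_option linter.style.haveILetI false

namespace CfsgLib.Walter.Three

open Cfsg CfsgLib.PSL2

universe u

variable {G : Type u} [Group G] [Finite G]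

/-- The shape of a normaliser in the family. -/
structure OddSplit (C : Coord G) (N X : Subgroup G) : Prop where
  le : X ≤ N
  odd : Odd (Nat.card X)
  norm : ∀ g ∈ N, ∀ x ∈ X, g * x * g⁻¹ ∈ X
  cover : ∀ g ∈ N, g ∈ X ∨ g * C.t ∈ X
  odd_mem : ∀ g ∈ N, Odd (orderOf g) → g ∈ X

variable {C : Coord G} {n : ℕ}

theorem Fam.exists_split (B : Base G) (D : UData C n) {Q : Subgroup G} (hQ : Fam C Q) :
    ∃ X : Subgroup G, OddSplit C (Subgroup.normalizer (Q : Set G)) X := by
  classical
  haveI : Fact (Nat.Prime 2) := ⟨Nat.prime_two⟩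
  set N := Subgroup.normalizer (Q : Set G) with hN
  set t' : N := ⟨C.t, hQ.t_mem⟩ with ht'
  have ht2 : orderOf t' = 2 := by rw [← Subgroup.orderOf_coe]; exact C.t_ord
  have htp : IsPGroup 2 (Subgroup.zpowers t') := IsPGroup.of_card (n := 1) (by rw [Nat.card_zpowers, ht2, pow_one])
  obtain ⟨P, hP⟩ := htp.exists_le_sylow
  -- the Sylow subgroup is generated by `t`
  have hPeq : (P : Subgroup N) = Subgroup.zpowers t' := by
    by_contra hne
    have hlt := CfsgLib.StrongFusion.lt_inf_normalizer P hP (Ne.symm hne)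
    obtain ⟨g, hg, hgt⟩ := SetLike.exists_of_lt hlt
    refine hgt ?_
    have hcomm : g * t' = t' * g := by
      have h1 := (Subgroup.mem_normalizer_iff.mp hg.2 t').mp (Subgroup.mem_zpowers t')
      obtain ⟨k, hk⟩ := mem_powers_iff_mem_zpowers.mpr h1
      have hk' : t' ^ k = g * t' * g⁻¹ := hk
      rcases Nat.even_or_odd k with ⟨r, hr⟩ | ⟨r, hr⟩
      · rw [hr, ← two_mul, pow_mul, pow_two, show t' * t' = 1 from Subtype.ext C.tt, one_pow, eq_comm,
          conj_eq_one_iff] at hk'
        rw [hk', orderOf_one] at ht2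
        omega
      · rw [hr, pow_succ, pow_mul, pow_two, show t' * t' = 1 from Subtype.ext C.tt, one_pow, one_mul] at hk'
        exact (mul_inv_eq_iff_eq_mul.mp hk'.symm)
    obtain ⟨i, e, he, hge⟩ := hQ.cent_form B D g.2 (congrArg Subtype.val hcomm)
    obtain ⟨k, hk⟩ := P.2 ⟨g, hg.1⟩
    have hgk : (g : G) ^ 2 ^ k = 1 := congrArg (fun z : (P : Subgroup N) => ((z : N) : G)) hk
    have hte : Commute (C.t ^ i) e := (yOdd_comm he).symm.pow_left i
    have he1 : e ^ 2 ^ (k + 1) = 1 := by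
      have h2 : (g : G) ^ 2 ^ (k + 1) = 1 := by rw [pow_succ, pow_mul, hgk, one_pow]
      rw [pow_succ']
      rwa [hge, hte.mul_pow, ← pow_mul, pow_succ', show i * (2 * 2 ^ k) = 2 * (i * 2 ^ k) by ring, pow_mul,
        pow_two C.t, C.tt, one_pow, one_mul] at h2
    obtain rfl : e = 1 := by
      have h1 : Odd (orderOf e) := D.odd_yOdd.of_dvd_nat (Subgroup.orderOf_dvd_natCard _ he)
      obtain ⟨j, -, hj⟩ := (Nat.dvd_prime_pow Nat.prime_two).mp (orderOf_dvd_of_pow_eq_one he1)
      rcases j with _ | j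
      · exact orderOf_eq_one_iff.mp (by rw [hj, pow_zero])
      · rw [hj, pow_succ'] at h1
        exact absurd (Nat.odd_mul.mp h1).1 (by decide)
    rw [mul_one] at hge
    exact (Subtype.ext hge : g = t' ^ i) ▸ pow_mem (Subgroup.mem_zpowers t') i
  have hnc : Subgroup.normalizer ((P : Subgroup N) : Set N) ≤ Subgroup.centralizer ((P : Subgroup N) : Set N) := by
    intro g hg
    rw [hPeq] at hg ⊢
    rw [Subgroup.mem_centralizer_iff]
    have h1 := (Subgroup.mem_normalizer_iff.mp hg t').mp (Subgroup.mem_zpowers t')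
    have hne : g * t' * g⁻¹ ≠ 1 := fun h => by rw [conj_eq_one_iff.mp h, orderOf_one] at ht2; omega
    have hcomm : g * t' = t' * g := by
      obtain ⟨k, hk⟩ := mem_powers_iff_mem_zpowers.mpr h1
      have hk' : t' ^ k = g * t' * g⁻¹ := hk
      rcases Nat.even_or_odd k with ⟨r, hr⟩ | ⟨r, hr⟩
      · rw [hr, ← two_mul, pow_mul, pow_two, show t' * t' = 1 from Subtype.ext C.tt, one_pow] at hk'
        exact absurd hk'.symm hne
      · rw [hr, pow_succ, pow_mul, pow_two, show t' * t' = 1 from Subtype.ext C.tt, one_pow, one_mul] at hk'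
        exact (mul_inv_eq_iff_eq_mul.mp hk'.symm)
    rintro w ⟨k, rfl⟩
    exact ((show Commute g t' from hcomm).zpow_right k).eq.symm
  set K := (MonoidHom.transferSylow P hnc).ker with hK
  have hcompl : Subgroup.IsComplement' K (P : Subgroup N) := MonoidHom.ker_transferSylow_isComplement' P hnc
  have hodd : Odd (Nat.card K) :=
    Nat.odd_iff.mpr (Nat.two_dvd_ne_zero.mp (MonoidHom.not_dvd_card_ker_transferSylow P hnc))
  have hcov : ∀ g : N, g ∈ K ∨ g * t' ∈ K := by
    intro g
    obtain ⟨⟨a, b⟩, hab, -⟩ := hcompl.existsUnique g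
    change (a : N) * b = g at hab
    have hb : (b : N) ∈ Subgroup.zpowers t' := hPeq ▸ b.2
    obtain ⟨k, hk⟩ := mem_powers_iff_mem_zpowers.mpr hb
    have hk' : t' ^ k = (b : N) := hk
    rcases Nat.even_or_odd k with ⟨r, hr⟩ | ⟨r, hr⟩
    · left
      rw [hr, ← two_mul, pow_mul, pow_two, show t' * t' = 1 from Subtype.ext C.tt, one_pow] at hk'
      rw [← hab, ← hk', mul_one]
      exact a.2
    · right
      rw [hr, pow_succ, pow_mul, pow_two, show t' * t' = 1 from Subtype.ext C.tt, one_pow, one_mul] at hk'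
      rw [← hab, ← hk', mul_assoc, show t' * t' = 1 from Subtype.ext C.tt, mul_one]
      exact a.2
  refine ⟨K.map N.subtype, Subgroup.map_subtype_le _, ?_, ?_, ?_, ?_⟩
  · rwa [Subgroup.card_map_of_injective N.subtype_injective]
  · rintro g hg _ ⟨x, hx, rfl⟩
    haveI hKn : K.Normal := MonoidHom.normal_ker _
    exact ⟨(⟨g, hg⟩ : N) * x * (⟨g, hg⟩ : N)⁻¹, hKn.conj_mem x hx _, rfl⟩
  · intro g hg
    rcases hcov ⟨g, hg⟩ with h | h
    · exact Or.inl ⟨_, h, rfl⟩
    · exact Or.inr ⟨_, h, rfl⟩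
  · intro g hg ho
    rcases hcov ⟨g, hg⟩ with h | h
    · exact ⟨_, h, rfl⟩
    exfalso
    set g' : N := ⟨g, hg⟩ with hg'
    have hgo : Odd (orderOf g') := by rw [← Subgroup.orderOf_coe]; exact ho
    let f : N →* N ⧸ K := QuotientGroup.mk' K
    have h1 : f g' = (f t')⁻¹ := eq_inv_of_mul_eq_one_left (by rw [← map_mul]; exact (QuotientGroup.eq_one_iff _).mpr h)
    have h2 : f t' ≠ 1 := fun e => by
      have := hodd.of_dvd_nat (Subgroup.orderOf_dvd_natCard K ((QuotientGroup.eq_one_iff _).mp e))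
      rw [ht2] at this
      exact absurd this (by decide)
    have h3 : orderOf (f t') = 2 := orderOf_eq_prime (by
      rw [← map_pow, show t' ^ 2 = 1 from ht2 ▸ pow_orderOf_eq_one t', map_one]) h2
    have h4 : orderOf (f g') ∣ orderOf g' := orderOf_map_dvd f g'
    rw [h1, orderOf_inv, h3] at h4
    exact absurd (hgo.of_dvd_nat h4) (by decide)

theorem OddSplit.yOdd_le {N X : Subgroup G} (S : OddSplit C N X) (D : UData C n) (h : yOdd C ≤ N) : yOdd C ≤ X :=
  fun g hg => S.odd_mem g (h hg) (D.odd_yOdd.of_dvd_nat (Subgroup.orderOf_dvd_natCard _ hg))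

/-- The centre of the Thompson subgroup of a Sylow subgroup of a member's normaliser is a member. -/
theorem Fam.step (B : Base G) (D : UData C n) {Q : Subgroup G} (hQ : Fam C Q) :
    ∃ T : Subgroup G, T ≤ Subgroup.normalizer (Q : Set G) ∧ IsPGroup 3 T ∧
      Nat.card T = 3 ^ (Nat.card (Subgroup.normalizer (Q : Set G))).factorization 3 ∧ Fam C (ZJ.zj 0 T) := by
  classical
  haveI : Fact (Nat.Prime 3) := ⟨Nat.prime_three⟩
  haveI : Fact (Nat.Prime 2) := ⟨Nat.prime_two⟩
  haveI := D.char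
  set N := Subgroup.normalizer (Q : Set G) with hN
  obtain ⟨X, S⟩ := hQ.exists_split B D
  have hY : yOdd C ≤ X := S.yOdd_le D hQ.y_le
  have htX : Subgroup.zpowers C.t ≤ Subgroup.normalizer (X : Set G) :=
    Subgroup.zpowers_le.mpr (Subgroup.mem_normalizer_fintype fun x hx => S.norm _ hQ.t_mem x hx)
  haveI : Group.IsSolvable X := CfsgLib.OddOrder.feitThompson S.odd
  obtain ⟨P, hP⟩ := CfsgLib.coprime_exists_invariant_sylow htX
    (by rw [Nat.card_zpowers, C.t_ord]; exact Nat.coprime_two_left.mpr S.odd) (Or.inr inferInstance) 3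
  set T := (P : Subgroup X).map X.subtype with hT
  have hTX : T ≤ X := Subgroup.map_subtype_le _
  have hTp : IsPGroup 3 T := P.2.map _
  -- the orders
  have hcard : Nat.card T = 3 ^ (Nat.card N).factorization 3 := by
    rw [hT, Subgroup.card_map_of_injective X.subtype_injective, Sylow.card_eq_multiplicity]
    congr 1
    have hidx : (X.subgroupOf N).index ∣ 2 := by
      have hn : (X.subgroupOf N).Normal := ⟨fun x hx g => S.norm _ g.2 _ hx⟩
      let f : N ⧸ X.subgroupOf N → ({QuotientGroup.mk 1, QuotientGroup.mk ⟨C.t, hQ.t_mem⟩} : Set (N ⧸ X.subgroupOf N)) :=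
        fun q => ⟨q, by
          obtain ⟨g, rfl⟩ := QuotientGroup.mk_surjective q
          rcases S.cover g g.2 with h | h
          · left
            exact (QuotientGroup.eq_one_iff _).mpr h
          · right
            refine QuotientGroup.eq.mpr ?_
            rw [Subgroup.mem_subgroupOf]
            have := S.norm _ (inv_mem g.2) _ (inv_mem h)
            simpa [inv_eq_of_mul_eq_one_right C.tt, mul_assoc] using this⟩
      have h1 : (X.subgroupOf N).index ≤ 2 := by
        rw [Subgroup.index_eq_card]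
        refine (Nat.card_le_card_of_injective f fun a b h => congrArg Subtype.val h).trans ?_
        rw [Nat.card_coe_set_eq]
        exact (Set.ncard_insert_le _ _).trans (by rw [Set.ncard_singleton])
      have h0 : (X.subgroupOf N).index ≠ 0 := Subgroup.index_ne_zero_of_finite
      interval_cases hi : (X.subgroupOf N).index <;> omega
    have h := (X.subgroupOf N).card_mul_index
    rw [Nat.card_congr (Subgroup.subgroupOfEquivOfLe S.le).toEquiv] at h
    rw [← h, Nat.factorization_mul Nat.card_pos.ne' Subgroup.index_ne_zero_of_finite, Finsupp.add_apply,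
      Nat.factorization_eq_zero_of_not_dvd (fun h3 => absurd (Nat.le_of_dvd two_pos (h3.trans hidx)) (by norm_num)),
      add_zero]
  -- `t` normalises `T`
  have htT : C.t ∈ Subgroup.normalizer (T : Set G) := hP (Subgroup.mem_zpowers _)
  have hzjT := ZJ.normalizer_le_normalizer_zj 0 T
  -- the core of order prime to three is inverted
  set O := (pPrimeCore 3 X).map X.subtype with hO
  have hOX : O ≤ X := Subgroup.map_subtype_le _
  have hOcop : (Nat.card O).Coprime 3 := by
    rw [hO, Subgroup.card_map_of_injective X.subtype_injective]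
    exact CfsgLib.card_pPrimeCore_coprime 3
  have hOn : ∀ g ∈ N, ∀ o ∈ O, g * o * g⁻¹ ∈ O := by
    rintro g hg _ ⟨o, ho, rfl⟩
    let τ : MulAut X :=
      { toFun := fun x => ⟨g * x * g⁻¹, S.norm g hg x x.2⟩
        invFun := fun x => ⟨g⁻¹ * x * g, by simpa using S.norm g⁻¹ (inv_mem hg) x x.2⟩
        left_inv := fun x => Subtype.ext (by group)
        right_inv := fun x => Subtype.ext (by group)
        map_mul' := fun a b => Subtype.ext (by
          show g * ((a : G) * b) * g⁻¹ = g * a * g⁻¹ * (g * b * g⁻¹)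
          group) }
    have hle : (pPrimeCore 3 X).map τ.toMonoidHom ≤ pPrimeCore 3 X := by
      haveI : ((pPrimeCore 3 X).map τ.toMonoidHom).Normal :=
        (inferInstance : (pPrimeCore 3 X).Normal).map _ τ.surjective
      refine CfsgLib.le_pPrimeCore ?_
      rw [Subgroup.card_map_of_injective τ.injective]
      exact CfsgLib.card_pPrimeCore_coprime 3
    exact ⟨τ o, hle ⟨o, ho, rfl⟩, rfl⟩
  have hfpf : ∀ o ∈ O, C.t * o * C.t⁻¹ = o → o = 1 := by
    intro o ho hot
    obtain ⟨i, e, he, hoe⟩ := hQ.cent_form B D (S.le (hOX ho)) (mul_inv_eq_iff_eq_mul.mp hot).symm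
    have hoY : o ∈ yOdd C := by
      rcases Nat.even_or_odd i with ⟨r, hr⟩ | ⟨r, hr⟩
      · rw [hoe, hr, ← two_mul, pow_mul, pow_two, C.tt, one_pow, one_mul]
        exact he
      · exfalso
        have ht : C.t = o * e⁻¹ := by
          rw [hoe, hr, pow_succ, pow_mul, pow_two, C.tt, one_pow, one_mul, mul_inv_cancel_right]
        have h1 : C.t ∈ X := ht ▸ mul_mem (hOX ho) (inv_mem (hY he))
        have h2 := S.odd.of_dvd_nat (Subgroup.orderOf_dvd_natCard X h1)
        rw [C.t_ord] at h2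
        exact absurd h2 (by decide)
    have hu : o ∈ uImg C := mem_uImg_of_cent hoY fun u hu => by
      have h1 : o * u * o⁻¹ * u⁻¹ ∈ O := by
        rw [show o * u * o⁻¹ * u⁻¹ = o * (u * o⁻¹ * u⁻¹) by group]
        exact mul_mem ho (hOn u (hQ.y_le (uImg_le hu)) _ (inv_mem ho))
      have h2 : o * u * o⁻¹ * u⁻¹ ∈ uImg C := mul_mem (uImg_conj hoY hu) (inv_mem hu)
      have hboth : o * u * o⁻¹ * u⁻¹ = 1 := by
        obtain ⟨s, hs⟩ := uImg_mem.mp h2
        refine orderOf_eq_one_iff.mp (Nat.eq_one_of_dvd_coprimes hOcop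
          (Subgroup.orderOf_dvd_natCard O h1) (orderOf_dvd_of_pow_eq_one ?_))
        rw [← hs, ← map_pow, uRange_pow_three ⟨_, rfl⟩, map_one]
      exact mul_inv_eq_iff_eq_mul.mp (mul_inv_eq_one.mp hboth)
    refine orderOf_eq_one_iff.mp (Nat.eq_one_of_dvd_coprimes hOcop
      (Subgroup.orderOf_dvd_natCard O ho) (orderOf_dvd_of_pow_eq_one ?_))
    obtain ⟨x, hx, rfl⟩ := hu
    rw [← map_pow, uRange_pow_three hx, map_one]
  have hinv := inverts_of_fpf C.tt (fun o ho => hOn _ hQ.t_mem o ho) hfpf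
  -- Glauberman's factorisation
  have hfac := CfsgLib.Bender.Ext.zj_factor (q := 3) (CfsgLib.Bender.Ext.abTwo_of_odd S.odd) (by norm_num) P
  have hyN : yOdd C ≤ Subgroup.normalizer (ZJ.zj 0 T : Set G) := by
    intro y hy
    have hyX : (⟨y, hY hy⟩ : X) ∈ pPrimeCore 3 X ⊔ Subgroup.normalizer (ZJ.zj 0 (P : Subgroup X) : Set X) := by
      rw [hfac]; exact Subgroup.mem_top _
    obtain ⟨o, ho, w, hw, how⟩ := Subgroup.mem_sup_of_normal_left.mp hyX
    have hwG : (w : G) ∈ Subgroup.normalizer (ZJ.zj 0 T : Set G) := by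
      rw [hT, ZJ.zj_map 0 X.subtype_injective]
      exact Subgroup.le_normalizer_map X.subtype ⟨w, hw, rfl⟩
    have hoO : (o : G) ∈ O := ⟨o, ho, rfl⟩
    have hyow : (o : G) * w = y := congrArg Subtype.val how
    have hyt := yOdd_comm hy
    have hwt : C.t * (w : G) * C.t⁻¹ ∈ Subgroup.normalizer (ZJ.zj 0 T : Set G) :=
      mul_mem (mul_mem (hzjT htT) hwG) (inv_mem (hzjT htT))
    have hoo : (o : G) * o ∈ Subgroup.normalizer (ZJ.zj 0 T : Set G) := by
      have e : (o : G) * o = C.t * (w : G) * C.t⁻¹ * (w : G)⁻¹ := by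
        have h1 : C.t * y * C.t⁻¹ = y := by rw [← hyt.eq, mul_inv_cancel_right]
        rw [← hyow, show C.t * ((o : G) * w) * C.t⁻¹ = C.t * o * C.t⁻¹ * (C.t * w * C.t⁻¹) by group, hinv _ hoO,
          inv_mul_eq_iff_eq_mul] at h1
        rw [h1]
        group
      exact e ▸ mul_mem hwt (inv_mem hwG)
    obtain ⟨k, hk⟩ := S.odd.of_dvd_nat (Subgroup.orderOf_dvd_natCard X o.2)
    have hoN : (o : G) ∈ Subgroup.normalizer (ZJ.zj 0 T : Set G) := by
      have e : (o : G) = ((o : G) * o) ^ (k + 1) := by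
        rw [← pow_two, ← pow_mul, show 2 * (k + 1) = orderOf (o : G) + 1 by omega, pow_succ, pow_orderOf_eq_one,
          one_mul]
      exact e ▸ pow_mem hoo _
    exact hyow ▸ mul_mem hoN hwG
  refine ⟨T, hTX.trans S.le, hTp, hcard, ?_, hTp.to_le (ZJ.zj_le 0 T), hyN, hzjT htT⟩
  refine ZJ.zj_ne_bot (p := 3) (Or.inl rfl) hTp fun e => ?_
  rw [e, Subgroup.card_bot] at hcard
  have h3 : 3 ∣ Nat.card N := by
    refine dvd_trans ?_ (Subgroup.card_dvd_of_le (uImg_le.trans hQ.y_le : uImg C ≤ N))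
    haveI : Nontrivial (uImg C) := (Subgroup.nontrivial_iff_ne_bot _).mpr (fam_uImg D).ne
    obtain ⟨k, hk0, hk⟩ := (fam_uImg D).three.nontrivial_iff_card.mp ‹_›
    rw [hk]
    exact dvd_pow_self 3 hk0.ne'
  have := Nat.Prime.factorization_pos_of_dvd Nat.prime_three Nat.card_pos.ne' h3
  have := Nat.one_lt_pow this.ne' (by norm_num : 1 < 3)
  omega

/-- The local subgroup. -/
theorem exists_zj_fam (B : Base G) (D : UData C n) : ∃ P : Sylow 3 G, Fam C (ZJ.zj 0 (P : Subgroup G)) := by
  classical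
  haveI : Fact (Nat.Prime 3) := ⟨Nat.prime_three⟩
  obtain ⟨Q, hQ, hmax⟩ := Set.Finite.exists_maximalFor
    (fun Q : Subgroup G => (Nat.card (Subgroup.normalizer (Q : Set G))).factorization 3)
    {Q | Fam C Q} (Set.toFinite _) ⟨_, fam_uImg D⟩
  obtain ⟨T, hTN, hTp, hcard, hfam⟩ := Fam.step B D hQ
  obtain ⟨P, hP⟩ := hTp.exists_le_sylow
  refine ⟨P, ?_⟩
  suffices h : T = (P : Subgroup G) by rw [← h]; exact hfam
  by_contra hne
  have hlt := CfsgLib.StrongFusion.lt_inf_normalizer P hP hne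
  set R := (P : Subgroup G) ⊓ Subgroup.normalizer (T : Set G) with hR
  have hRp : IsPGroup 3 R := P.2.to_le inf_le_left
  obtain ⟨r, hr⟩ := IsPGroup.iff_card.mp hRp
  have hclt : Nat.card T < Nat.card R := by
    rw [← SetLike.coe_sort_coe T, ← SetLike.coe_sort_coe R, Nat.card_coe_set_eq, Nat.card_coe_set_eq]
    exact Set.ncard_lt_ncard (SetLike.coe_ssubset_coe.mpr hlt) (Set.toFinite _)
  rw [hcard, hr] at hclt
  have hr' := (Nat.pow_lt_pow_iff_right (by norm_num : 1 < 3)).mp hclt
  have hle : R ≤ Subgroup.normalizer (ZJ.zj 0 T : Set G) := inf_le_right.trans (ZJ.normalizer_le_normalizer_zj 0 T)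
  have h1 : r ≤ (Nat.card (Subgroup.normalizer (ZJ.zj 0 T : Set G))).factorization 3 :=
    (Nat.prime_three.pow_dvd_iff_le_factorization Nat.card_pos.ne').mp (hr ▸ Subgroup.card_dvd_of_le hle)
  have h2 := hmax hfam (by beta_reduce; omega)
  beta_reduce at h2
  omega

end CfsgLib.Walter.Three
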