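import Cfsg.Agent.Lib.Walter.Three.Bridge
import Cfsg.Agent.Lib.Walter.Three.Local
import Cfsg.Agent.Lib.Elementary

/-!
The chief factor carrying `U`: the field automorphism of three-power order lies outside the derived group of the local subgroup.
-/

set_option autoImplicit false
set_option linter.unusedSectionVars false
set_option linter.style.haveILetI false

namespace CfsgLib.Walter.Three

open Cfsg CfsgLib.PSL2

universe u

variable {G : Type u} [Group G] [Finite G]

theorem mk_dSL_pow {F : Type} [Field F] (a : F) (ha : a ≠ 0) (k : ℕ) :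
    (mk (dSL a ha) : Matrix.ProjectiveSpecialLinearGroup (Fin 2) F) ^ k = mk (dSL (a ^ k) (pow_ne_zero k ha)) := by
  rw [← map_pow]
  congr 1
  induction k with
  | zero => exact Subtype.ext (by simp [coe_dSL, Matrix.one_fin_two])
  | succ k ih =>
    rw [pow_succ, ih]
    exact Subtype.ext (by simp [coe_dSL, pow_succ, mul_comm])

theorem fieldAut_dSL {F : Type} [Field F] [Fintype F] (e : F ≃+* F) (a : F) (ha : a ≠ 0) :
    fieldAut e (mk (dSL a ha)) = mk (dSL (e a) (by simpa using ha)) := by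
  rw [fieldAut_apply]
  congr 1
  exact Subtype.ext (by ext i j; fin_cases i <;> fin_cases j <;> simp [coe_dSL, map_inv₀])

theorem dSL_mem_borel {F : Type} [Field F] (a : F) (ha : a ≠ 0) :
    (mk (dSL a ha) : Matrix.ProjectiveSpecialLinearGroup (Fin 2) F) ∈ borel F :=
  upper_mem_normalizer _ (by simp [coe_dSL])

variable {C : Coord G} {n : ℕ}

/-- An element of the odd part of a normaliser commuting with `t` lies in the local subgroup. -/
theorem Fam.mem_yOdd_of (B : Base G) (D : UData C n) {Q X : Subgroup G} (hQ : Fam C Q)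
    (S : OddSplit C (Subgroup.normalizer (Q : Set G)) X) {g : G} (hg : g ∈ X) (hgt : Commute g C.t) :
    g ∈ yOdd C := by
  obtain ⟨i, e, he, rfl⟩ := hQ.cent_form B D (S.le hg) hgt
  rcases Nat.even_or_odd i with ⟨r, hr⟩ | ⟨r, hr⟩
  · rw [hr, ← two_mul, pow_mul, pow_two, C.tt, one_pow, one_mul]
    exact he
  · exfalso
    rw [hr, pow_succ, pow_mul, pow_two, C.tt, one_pow, one_mul] at hg
    have h1 : C.t ∈ X := by
      have := mul_mem hg (inv_mem (S.yOdd_le D hQ.y_le he))
      rwa [mul_inv_cancel_right] at this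
    have h2 := S.odd.of_dvd_nat (Subgroup.orderOf_dvd_natCard X h1)
    rw [C.t_ord] at h2
    exact absurd h2 (by decide)

theorem UData.dvd_n (D : UData C n) : orderOf C.σ ∣ n := by
  haveI := D.char
  haveI : Fact (Nat.Prime 3) := ⟨Nat.prime_three⟩
  rw [← (Chev.ringAut_cyclic_card (F := C.F) 3 (f := n) (by rw [Nat.card_eq_fintype_card, D.card])).2]
  exact orderOf_dvd_natCard _

/-- The exponent of the three-part of `φ`. -/
theorem UData.exists_exponent (D : UData C n) :
    ∃ c a k : ℕ, (∀ x, (C.σ ^ c) x = x ^ 3 ^ a) ∧ (∃ v, (C.φ ^ c) ^ 3 ^ v = 1) ∧ 3 ^ (k + 1) ∣ n ∧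
      ¬ 3 ^ (k + 1) ∣ a := by
  haveI := D.char
  set f := orderOf C.σ with hf
  have hn : n ≠ 0 := D.odd.pos.ne'
  have hv : 0 < f.factorization 3 := Nat.prime_three.factorization_pos_of_dvd C.odd_f.pos.ne' D.dvd
  set c := f / 3 ^ f.factorization 3 with hc
  have hfc : 3 ^ f.factorization 3 * c = f := Nat.mul_div_cancel' (Nat.ordProj_dvd _ _)
  obtain ⟨a, ha, hna⟩ := exists_frob_pow D.card (C.σ ^ c)
  have hw : 0 < n.factorization 3 := Nat.prime_three.factorization_pos_of_dvd hn (D.dvd.trans D.dvd_n)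
  refine ⟨c, a, n.factorization 3 - 1, ha, ⟨f.factorization 3, by
    rw [← pow_mul, mul_comm, hfc, ← orderOf_dvd_iff_pow_eq_one, C.φ_ord]⟩,
    by rw [Nat.sub_add_cancel hw]; exact Nat.ordProj_dvd _ _, fun hd => ?_⟩
  rw [Nat.sub_add_cancel hw] at hd
  set r := n / 3 ^ n.factorization 3 with hr
  have hnr : 3 ^ n.factorization 3 * r = n := Nat.mul_div_cancel' (Nat.ordProj_dvd _ _)
  have h3r : ¬ 3 ∣ r := Nat.not_dvd_ordCompl Nat.prime_three hn
  have hpow : ∀ (i : ℕ) (x : C.F), ((C.σ ^ c) ^ i) x = x ^ 3 ^ (a * i) := by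
    intro i
    induction i with
    | zero => intro x; simp
    | succ i ih =>
      intro x
      rw [pow_succ (C.σ ^ c)]
      show ((C.σ ^ c) ^ i) ((C.σ ^ c) x) = _
      rw [ih, ha, ← pow_mul, ← pow_add, show a + a * i = a * (i + 1) by ring]
  have h1 : (C.σ ^ c) ^ r = 1 := by
    obtain ⟨a', ha', hna'⟩ := exists_frob_pow D.card ((C.σ ^ c) ^ r)
    refine RingEquiv.ext fun x => ?_
    rw [hpow]
    show x ^ 3 ^ (a * r) = x
    obtain ⟨q, hq⟩ : n ∣ a * r := by
      conv_lhs => rw [← hnr]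
      exact Nat.mul_dvd_mul_right hd r
    rw [hq, pow_mul]
    clear hq
    induction q with
    | zero => simp
    | succ q ih => rw [pow_succ, pow_mul, ih, ← D.card, FiniteField.pow_card]
  rw [← pow_mul, ← orderOf_dvd_iff_pow_eq_one, ← hf] at h1
  have h2 : 3 ^ f.factorization 3 * c ∣ r * c := by rwa [hfc, mul_comm r c]
  have hc0 : 0 < c := Nat.div_pos (Nat.le_of_dvd C.odd_f.pos (Nat.ordProj_dvd _ _)) (pow_pos (by norm_num) _)
  exact h3r ((dvd_pow_self 3 hv.ne').trans (Nat.dvd_of_mul_dvd_mul_right hc0 h2))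

/-- The three-part of `φ` is outside the derived group of the local subgroup. -/
theorem Fam.not_mem_commutator (B : Base G) (D : UData C n) {Q : Subgroup G} (hQ : Fam C Q) {c a k : ℕ}
    (hσ : ∀ x, (C.σ ^ c) x = x ^ 3 ^ a) (hk : 3 ^ (k + 1) ∣ n) (hak : ¬ 3 ^ (k + 1) ∣ a)
    (hφ : C.φ ^ c ∈ Subgroup.normalizer (Q : Set G)) :
    (⟨C.φ ^ c, hφ⟩ : Subgroup.normalizer (Q : Set G)) ∉ commutator (Subgroup.normalizer (Q : Set G)) := by
  classical
  haveI := D.char
  obtain ⟨X, S⟩ := hQ.exists_split B D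
  set M := Subgroup.normalizer (Q : Set G) with hM
  have hYX : yOdd C ≤ X := S.yOdd_le D hQ.y_le
  set Xm := X.subgroupOf M with hXm
  have hXn : Xm.Normal := ⟨fun x hx g => S.norm _ g.2 _ hx⟩
  have hXodd : Odd (Nat.card Xm) := by
    rw [hXm, Nat.card_congr (Subgroup.subgroupOfEquivOfLe S.le).toEquiv]
    exact S.odd
  obtain ⟨a0, ha0, hpow0, hgen0, hord0⟩ := exists_torus_gen D.card
  set tM : M := ⟨C.t, hQ.t_mem⟩ with htM
  let yy : ∀ g ∈ yOdd C, M := fun g hg => ⟨g, hQ.y_le hg⟩
  have hyyX : ∀ g (hg : g ∈ yOdd C), yy g hg ∈ Xm := fun g hg => hYX hg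
  let us : C.F → M := fun s => yy (C.ι (uu s)) (ι_mem_yOdd (uu_mem_borel s))
  have hus : ∀ s, (us s : G) = C.ι (uu s) := fun s => rfl
  have hus_add : ∀ s s', us (s + s') = us s * us s' := fun s s' => Subtype.ext (by
    show C.ι (uu (s + s')) = C.ι (uu s) * C.ι (uu s')
    rw [← map_mul]
    congr 1
    rw [← map_mul]
    rfl)
  set hM' : M := yy (C.ι (PSL2.mk (dSL a0 ha0))) (ι_mem_yOdd (dSL_mem_borel a0 ha0)) with hhM
  set φM : M := ⟨C.φ ^ c, hφ⟩ with hφM
  -- the chief factor
  set Um := (uImg C).subgroupOf M with hUm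
  set N1 := Subgroup.normalClosure (Um : Set M) with hN1
  have hN1X : N1 ≤ Xm := Subgroup.normalClosure_le_normal fun x hx => hYX (uImg_le hx)
  have husN : ∀ s, us s ∈ N1 := fun s => Subgroup.subset_normalClosure (uImg_mem.mpr ⟨s, rfl⟩)
  have hN1ne : N1 ≠ ⊥ := fun e => by
    have h1 : us 1 ∈ (⊥ : Subgroup M) := e ▸ husN 1
    rw [Subgroup.mem_bot] at h1
    have h2 : C.ι (uu 1) = 1 := congrArg Subtype.val h1
    exact one_ne_zero (uu_injective ((C.ι_inj (h2.trans (map_one _).symm)).trans uu_zero.symm))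
  obtain ⟨N0, ⟨hN0n, hN0lt⟩, hN0max⟩ := (Set.toFinite {N : Subgroup M | N.Normal ∧ N < N1}).exists_maximal
    ⟨⊥, inferInstance, bot_lt_iff_ne_bot.mpr hN1ne⟩
  haveI := hN0n
  haveI hN1n : N1.Normal := Subgroup.normalClosure_normal
  set f := QuotientGroup.mk' N0 with hf
  have hfs : Function.Surjective f := QuotientGroup.mk'_surjective _
  set Nb := N1.map f with hNb
  haveI hNbn : Nb.Normal := hN1n.map f hfs
  have hNbne : Nb ≠ ⊥ := by
    rw [hNb, Ne, Subgroup.map_eq_bot_iff, QuotientGroup.ker_mk']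
    exact hN0lt.not_ge
  have hmin : ∀ K : Subgroup (M ⧸ N0), K.Normal → K ≤ Nb → K = ⊥ ∨ K = Nb := by
    intro K hK hKN
    haveI := hK
    have hle : N0 ≤ K.comap f := by
      refine le_trans ?_ (Subgroup.ker_le_comap f K)
      rw [hf, QuotientGroup.ker_mk']
    have hle1 : K.comap f ≤ N1 := by
      refine (Subgroup.comap_mono hKN).trans ?_
      rw [hNb, Subgroup.comap_map_eq, hf, QuotientGroup.ker_mk']
      exact sup_le le_rfl hN0lt.le
    rcases eq_or_ne (K.comap f) N1 with e | e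
    · right
      rw [hNb, ← e, Subgroup.map_comap_eq_self_of_surjective hfs]
    · left
      have h := hN0max ⟨(inferInstance : (K.comap f).Normal), lt_of_le_of_ne hle1 e⟩ hle
      rw [← Subgroup.map_comap_eq_self_of_surjective hfs K, le_antisymm h hle, Subgroup.map_eq_bot_iff,
        hf, QuotientGroup.ker_mk']
  have hNbodd : Odd (Nat.card Nb) :=
    (hXodd.of_dvd_nat (Subgroup.card_dvd_of_le hN1X)).of_dvd_nat (Subgroup.card_map_dvd N1 f)
  obtain ⟨hcomm, p, hp, hexp⟩ := CfsgLib.minimal_normal_elementary hNbne (Cfsg.Agent.S0205.result hNbodd) hmin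
  -- `U` meets `N0` trivially
  let V := Additive Nb
  letI : CommGroup Nb := { (inferInstance : Group Nb) with mul_comm := fun x y => hcomm.is_comm.comm x y }
  let act : M → V →+ V := fun g => MonoidHom.toAdditive (MulAut.conjNormal (f g) : MulAut Nb).toMonoidHom
  have hact1 : ∀ v, act 1 v = v := fun v => Additive.toMul.injective (Subtype.ext (by
    show f 1 * ((v.toMul : Nb) : M ⧸ N0) * (f 1)⁻¹ = _
    rw [map_one, one_mul, inv_one, mul_one]))
  have hact : ∀ g g' v, act (g * g') v = act g (act g' v) := fun g g' v =>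
    Additive.toMul.injective (Subtype.ext (by
      show f (g * g') * ((v.toMul : Nb) : M ⧸ N0) * (f (g * g'))⁻¹ =
        f g * (f g' * ((v.toMul : Nb) : M ⧸ N0) * (f g')⁻¹) * (f g)⁻¹
      rw [map_mul, mul_inv_rev]
      simp only [mul_assoc]))
  let e : C.F →+ V := AddMonoidHom.mk' (fun s => Additive.ofMul (⟨f (us s), ⟨us s, husN s, rfl⟩⟩ : Nb))
    fun s s' => Additive.toMul.injective (Subtype.ext (by
      show f (us (s + s')) = f (us s) * f (us s')
      rw [hus_add, map_mul]))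
  have hconjE : ∀ (g : M) (s s' : C.F), (g : G) * C.ι (uu s) * (g : G)⁻¹ = C.ι (uu s') → act g (e s) = e s' :=
    fun g s s' h => Additive.toMul.injective (Subtype.ext (by
      show f g * f (us s) * (f g)⁻¹ = f (us s')
      rw [← map_inv, ← map_mul, ← map_mul, show g * us s * g⁻¹ = us s' from Subtype.ext h]))
  have hdiag : ∀ (b : C.F) (hb : b ≠ 0) (s : C.F),
      act (yy (C.ι (PSL2.mk (dSL b hb))) (ι_mem_yOdd (dSL_mem_borel b hb))) (e s) = e (b ^ 2 * s) := fun b hb s => by
    refine hconjE _ _ _ ?_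
    show C.ι (PSL2.mk (dSL b hb)) * C.ι (uu s) * (C.ι (PSL2.mk (dSL b hb)))⁻¹ = _
    rw [← map_inv, ← map_mul, ← map_mul, mk_diag_conj_u]
  have he : ∀ s, e s = 0 → s = 0 := by
    rcases stable_eq_bot_or_top e.ker (fun b hb s hs => by
      rw [AddMonoidHom.mem_ker, ← hdiag b hb, AddMonoidHom.mem_ker.mp hs, map_zero]) with h | h
    · intro s hs
      have : s ∈ e.ker := hs
      rwa [h, AddSubgroup.mem_bot] at this
    · exfalso
      refine hN0lt.not_ge (Subgroup.normalClosure_le_normal fun x hx => ?_)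
      obtain ⟨s, hs⟩ := uImg_mem.mp hx
      have h0 : s ∈ e.ker := h ▸ AddSubgroup.mem_top s
      have h1 : f (us s) = 1 := congrArg (fun v : V => ((v.toMul : Nb) : M ⧸ N0)) (AddMonoidHom.mem_ker.mp h0)
      rw [hf, QuotientGroup.mk'_apply, QuotientGroup.eq_one_iff, show us s = x from Subtype.ext hs] at h1
      exact h1
  have hp3 : p = 3 := by
    by_contra hne
    have h1 : e 1 = 0 := by
      apply Additive.toMul.injective
      refine Subtype.ext ?_
      show f (us 1) = 1
      refine orderOf_eq_one_iff.mp (Nat.eq_one_of_dvd_coprimes ((Nat.coprime_primes hp Nat.prime_three).mpr hne)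
        (orderOf_dvd_of_pow_eq_one (hexp _ ⟨us 1, husN 1, rfl⟩)) (orderOf_dvd_of_pow_eq_one ?_))
      rw [← map_pow, show us 1 ^ 3 = 1 from Subtype.ext (by
        show C.ι (uu 1) ^ 3 = 1
        rw [← map_pow, uRange_pow_three ⟨_, rfl⟩, map_one]), map_one]
    exact one_ne_zero (he 1 h1)
  subst hp3
  letI : Module (ZMod 3) V := AddCommGroup.zmodModule (n := 3) fun x => by
    apply Additive.toMul.injective
    rw [toMul_nsmul, toMul_zero]
    exact Subtype.ext (by rw [Subgroup.coe_pow]; exact hexp _ x.toMul.2)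
  -- elements of the local subgroup acting trivially on `U`
  have htriv : ∀ (g : M), (g : G) ∈ yOdd C → (∀ s, act g (e s) = e s) → ∀ v, act g v = v := by
    intro g hg h v
    have hgU : (g : G) ∈ uImg C := mem_uImg_of_cent hg fun u hu => by
      obtain ⟨s, rfl⟩ := uImg_mem.mp hu
      obtain ⟨s', hs'⟩ := uImg_mem.mp (uImg_conj hg hu)
      have h1 : e s' = e s := (hconjE g s s' hs'.symm).symm.trans (h s)
      rw [← sub_eq_zero, ← map_sub] at h1
      rw [sub_eq_zero.mp (he _ h1)] at hs'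
      exact mul_inv_eq_iff_eq_mul.mp hs'.symm
    obtain ⟨r, hr⟩ := uImg_mem.mp hgU
    have hgN : f g ∈ Nb := ⟨g, (show us r = g from Subtype.ext hr) ▸ husN r, rfl⟩
    apply Additive.toMul.injective
    refine Subtype.ext ?_
    show f g * ((v.toMul : Nb) : M ⧸ N0) * (f g)⁻¹ = _
    rw [show f g * ((v.toMul : Nb) : M ⧸ N0) = ((v.toMul : Nb) : M ⧸ N0) * f g from
      congrArg Subtype.val (hcomm.is_comm.comm (⟨_, hgN⟩ : Nb) v.toMul), mul_inv_cancel_right]
  -- the fixed points
  have hfixed : ∀ v, act tM v = v → ∃ s, e s = v := by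
    intro v hv
    obtain ⟨w, hw, hwv⟩ := (v.toMul : Nb).2
    have h1 : f (tM * w * tM⁻¹) = f w := by
      rw [map_mul, map_mul, map_inv, hwv]
      exact congrArg (fun v : V => ((v.toMul : Nb) : M ⧸ N0)) hv
    set d := w⁻¹ * (tM * w * tM⁻¹) with hd
    have hd0 : f d = 1 := by rw [hd, map_mul, map_inv, h1, inv_mul_cancel]
    have hdN : d ∈ N1 := mul_mem (inv_mem hw) (hN1n.conj_mem w hw tM)
    have htt : tM * tM = 1 := Subtype.ext C.tt
    have hti : tM⁻¹ = tM := inv_eq_of_mul_eq_one_right htt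
    have htd : tM * d * tM⁻¹ = d⁻¹ := by
      rw [hd, hti, mul_inv_rev, inv_inv, mul_inv_rev, mul_inv_rev, hti]
      simp only [mul_assoc]
      simp [htt]
    obtain ⟨j, hj⟩ := hXodd.of_dvd_nat (Subgroup.orderOf_dvd_natCard Xm (hN1X hdN))
    set b := d ^ (j + 1) with hb
    have hbb : b * b = d := by
      rw [hb, ← pow_add, show j + 1 + (j + 1) = orderOf d + 1 by omega, pow_succ, pow_orderOf_eq_one, one_mul]
    have htb : tM * b * tM⁻¹ = b⁻¹ := by rw [hb, ← conj_pow, htd, inv_pow]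
    set y := w * b with hy
    have hyN : y ∈ N1 := mul_mem hw (pow_mem hdN _)
    have hyt : tM * y * tM⁻¹ = y := by
      rw [hy, show tM * (w * b) * tM⁻¹ = tM * w * tM⁻¹ * (tM * b * tM⁻¹) by group, htb,
        show tM * w * tM⁻¹ = w * d by rw [hd]; group, ← hbb]
      group
    have hyY : (y : G) ∈ yOdd C := hQ.mem_yOdd_of B D S (hN1X hyN) (by
      have h2 : (tM * y : M) = y * tM := mul_inv_eq_iff_eq_mul.mp hyt
      exact (congrArg Subtype.val h2).symm)
    have hyU : (y : G) ∈ uImg C := mem_uImg_of_cent hyY fun u hu => by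
      obtain ⟨s, rfl⟩ := uImg_mem.mp hu
      obtain ⟨s', hs'⟩ := uImg_mem.mp (uImg_conj hyY hu)
      have h2 : act y (e s) = e s := by
        apply Additive.toMul.injective
        refine Subtype.ext ?_
        show f y * f (us s) * (f y)⁻¹ = f (us s)
        rw [show f y * f (us s) = f (us s) * f y from congrArg Subtype.val
          (hcomm.is_comm.comm (⟨_, ⟨y, hyN, rfl⟩⟩ : Nb) (⟨_, ⟨us s, husN s, rfl⟩⟩ : Nb)), mul_inv_cancel_right]
      have h3 : e s' = e s := (hconjE y s s' hs'.symm).symm.trans h2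
      rw [← sub_eq_zero, ← map_sub] at h3
      rw [sub_eq_zero.mp (he _ h3)] at hs'
      exact mul_inv_eq_iff_eq_mul.mp hs'.symm
    obtain ⟨r, hr⟩ := uImg_mem.mp hyU
    refine ⟨r, Additive.toMul.injective (Subtype.ext ?_)⟩
    show f (us r) = _
    rw [show us r = y from Subtype.ext hr, hy, map_mul, hb, map_pow, hd0, one_pow, mul_one, hwv]
  have hte : ∀ s, act tM (e s) = e s := fun s => hconjE _ _ _ (by
    show C.t * C.ι (uu s) * C.t⁻¹ = _
    rw [(C.t_ι _).eq, mul_inv_cancel_right])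
  have hinjE : Function.Injective e := (injective_iff_map_eq_zero e).mpr he
  have hpowh : ∀ (i : ℕ) (s : C.F), act (hM' ^ i) (e s) = e ((a0 ^ i) ^ 2 * s) := by
    intro i
    induction i with
    | zero => intro s; rw [pow_zero, hact1, pow_zero, one_pow, one_mul]
    | succ i ih =>
      intro s
      rw [pow_succ', hact, ih, hhM, hdiag]
      congr 1
      ring
  have hz : (hM' : G) ^ torusOrder n = 1 := by
    show C.ι (PSL2.mk (dSL a0 ha0)) ^ torusOrder n = 1
    rw [← map_pow, ← hord0, pow_orderOf_eq_one, map_one]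
  have hYform : ∀ g ∈ Xm, g * tM = tM * g → (g : G) ∈ yOdd C := fun g hg hgt =>
    hQ.mem_yOdd_of B D S hg (congrArg Subtype.val hgt)
  refine not_mem_commutator_of_action (V := V) act hact1 hact Xm hXn hXodd (t := tM) (h := hM') (φ := φM)
    (Subtype.ext C.tt) (fun g => S.cover g g.2) (hyyX _ (ι_mem_yOdd (dSL_mem_borel a0 ha0))) (Subtype.ext (C.t_ι _).eq) D.odd
    (D.dvd.trans D.dvd_n) ?_ ?_ ?_ ?_ ?_ ?_ (hYX (pow_mem φ_mem_yOdd c))
    (Subtype.ext (C.t_φ.symm.pow_left c).eq) (a := a) (k := k) ?_ hk hak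
  · -- the fixed points form a copy of the field
    rw [← D.card, ← Nat.card_eq_fintype_card]
    refine (Nat.card_eq_of_bijective (fun s : C.F => (⟨e s, hte s⟩ : {v : V // act tM v = v})) ⟨fun s s' h =>
      hinjE (congrArg Subtype.val h), fun v => ?_⟩).symm
    obtain ⟨s, hs⟩ := hfixed v.1 v.2
    exact ⟨s, Subtype.ext hs⟩
  · intro W hW hWh
    have hWi : ∀ (i : ℕ), ∀ w ∈ W, act (hM' ^ i) w ∈ W := by
      intro i
      induction i with
      | zero => intro w hw; rwa [pow_zero, hact1]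
      | succ i ih => intro w hw; rw [pow_succ', hact]; exact hWh _ (ih w hw)
    rcases stable_eq_bot_or_top (W.comap e) (fun b hb s hs => by
      obtain ⟨i, rfl⟩ := hgen0 b hb
      show e _ ∈ W
      rw [← hpowh]
      exact hWi i _ hs) with h | h
    · left
      rw [AddSubgroup.eq_bot_iff_forall]
      intro w hw
      obtain ⟨s, rfl⟩ := hfixed w (hW w hw)
      have : s ∈ W.comap e := hw
      rw [h, AddSubgroup.mem_bot] at this
      rw [this, map_zero]
    · right
      intro v hv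
      obtain ⟨s, rfl⟩ := hfixed v hv
      have : s ∈ W.comap e := h ▸ AddSubgroup.mem_top s
      exact this
  · intro W hW
    let K : Subgroup Nb := AddSubgroup.toSubgroup' W
    have hKn : (K.map Nb.subtype).Normal := ⟨by
      rintro _ ⟨x, hx, rfl⟩ g
      obtain ⟨g', rfl⟩ := hfs g
      refine ⟨(act g' (Additive.ofMul x)).toMul, hW g' _ hx, ?_⟩
      rfl⟩
    rcases hmin _ hKn (Subgroup.map_subtype_le _) with h | h
    · left
      rw [Subgroup.map_eq_bot_iff_of_injective _ Nb.subtype_injective] at h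
      rw [AddSubgroup.eq_bot_iff_forall]
      intro w hw
      have : w.toMul ∈ K := hw
      rw [h, Subgroup.mem_bot] at this
      exact Additive.toMul.injective this
    · right
      rw [AddSubgroup.eq_top_iff']
      intro v
      have h1 : ((v.toMul : Nb) : M ⧸ N0) ∈ K.map Nb.subtype := h.symm ▸ (v.toMul : Nb).2
      obtain ⟨x, hx, hxv⟩ := h1
      have hxe : x = v.toMul := Subtype.ext hxv
      rw [hxe] at hx
      exact hx
  · intro i
    constructor
    · intro h
      have h1 := hinjE ((hpowh i 1).symm.trans (h (e 1)))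
      rw [mul_one, ← pow_mul, hpow0, mul_comm, ← two_mul_torus] at h1
      exact Nat.dvd_of_mul_dvd_mul_left two_pos h1
    · rintro ⟨q, rfl⟩ v
      rw [pow_mul, show hM' ^ torusOrder n = 1 from Subtype.ext (by rw [Subgroup.coe_pow]; exact hz), one_pow, hact1]
  · intro y hy hyt h v
    exact htriv y (hYform y hy hyt) (fun s => h _ (hte s)) v
  · intro y hy hyt
    obtain ⟨x, hx, j, hxj⟩ := hYform y hy hyt
    obtain ⟨a', ha', -⟩ := exists_frob_pow D.card (C.σ ^ j)
    refine ⟨3 ^ a', fun v => ?_⟩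
    set d := (PSL2.mk (dSL a0 ha0) : Matrix.ProjectiveSpecialLinearGroup (Fin 2) C.F) with hdd
    have hfd : fieldAut (C.σ ^ j) d = d ^ 3 ^ a' := by
      rw [hdd, fieldAut_dSL, mk_dSL_pow]
      congr 1
      exact Subtype.ext (by simp [coe_dSL, ha'])
    have hdB : d ∈ borel C.F := dSL_mem_borel _ _
    set u := x * d ^ 3 ^ a' * x⁻¹ * (d ^ 3 ^ a')⁻¹ with hu
    obtain ⟨r, hr⟩ : u ∈ (uHom : Multiplicative C.F →* Matrix.ProjectiveSpecialLinearGroup (Fin 2) C.F).range :=
      comm_borel hx (pow_mem hdB _)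
    have hy' : y * hM' * y⁻¹ = us r.toAdd * hM' ^ 3 ^ a' := by
      refine Subtype.ext ?_
      show (y : G) * C.ι d * (y : G)⁻¹ = C.ι (uu r.toAdd) * (hM' ^ 3 ^ a' : M)
      rw [Subgroup.coe_pow, show (hM' : G) = C.ι d from rfl, hxj, conj_form, hfd, ← map_pow C.ι, ← map_mul C.ι]
      congr 1
      rw [show uu r.toAdd = u from hr, hu]
      group
    rw [hy', hact, htriv (us r.toAdd) (ι_mem_yOdd (uu_mem_borel _)) (fun s => hconjE _ _ _ (by
      show C.ι (uu _) * C.ι (uu s) * (C.ι (uu _))⁻¹ = _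
      rw [← map_inv, ← map_mul, ← map_mul]
      congr 1
      rw [← map_inv, ← map_mul, ← map_mul, mul_comm (Multiplicative.ofAdd _), mul_inv_cancel_right]))]
  · intro v
    have e1 : φM * hM' * φM⁻¹ = hM' ^ 3 ^ a := by
      refine Subtype.ext ?_
      show C.φ ^ c * C.ι (PSL2.mk (dSL a0 ha0)) * (C.φ ^ c)⁻¹ = ((hM' ^ 3 ^ a : M) : G)
      rw [C.conj_pow, Subgroup.coe_pow, show (hM' : G) = C.ι (PSL2.mk (dSL a0 ha0)) from rfl, ← map_pow, fieldAut_dSL,
        mk_dSL_pow]
      congr 2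
      exact Subtype.ext (by simp [coe_dSL, hσ])
    rw [e1]

end CfsgLib.Walter.Three
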