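import Cfsg.Agent.Lib.Walter.Three.Irr

/-!
The abstract setting of the local case `3 ∣ f`: a group with an involution acting on a space over three elements.
-/

set_option autoImplicit false
set_option linter.unusedSectionVars false
set_option linter.style.haveILetI false

namespace CfsgLib.Walter.Three

open Polynomial

universe u v

/-- The fixed space of an operator. -/
noncomputable abbrev plusSpace {V : Type v} [AddCommGroup V] [Module (ZMod 3) V] (f : Module.End (ZMod 3) V) :
    Submodule (ZMod 3) V :=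
  LinearMap.ker (f - 1)

theorem mem_plusSpace {V : Type v} [AddCommGroup V] [Module (ZMod 3) V] {f : Module.End (ZMod 3) V} {v : V} :
    v ∈ plusSpace f ↔ f v = v := by
  rw [LinearMap.mem_ker, LinearMap.sub_apply, Module.End.one_apply, sub_eq_zero]

/-- An odd-order group `X` with an involution `t`, whose fixed space is irreducible under a torus element `h`. -/
structure Ctx (Γ : Type u) (V : Type v) [Group Γ] [AddCommGroup V] [Module (ZMod 3) V] where
  /-- the action -/
  ρ : Γ →* Module.End (ZMod 3) V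
  inj : Function.Injective ρ
  /-- the part of odd order -/
  X : Subgroup Γ
  odd : Odd (Nat.card X)
  /-- the involution -/
  t : Γ
  t_sq : t * t = 1
  norm : ∀ x ∈ X, t * x * t ∈ X
  /-- the torus element -/
  h : Γ
  h_mem : h ∈ X
  h_comm : t * h = h * t
  /-- the dimension of the fixed space of the involution -/
  m : ℕ
  m_odd : Odd m
  three_dvd : 3 ∣ m
  ord : orderOf h = torusOrder m
  dim_plus : Module.finrank (ZMod 3) (plusSpace (ρ t)) = m
  irr : ∀ W : Submodule (ZMod 3) V, W ≤ plusSpace (ρ t) → (∀ w ∈ W, ρ h w ∈ W) →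
    W = ⊥ ∨ W = plusSpace (ρ t)
  faithful : ∀ x ∈ X, x * t = t * x → (∀ v, ρ t v = v → ρ x v = v) → x = 1
  cent : ∀ x ∈ X, x * t = t * x → x * h * x⁻¹ ∈ Subgroup.zpowers h

variable {Γ : Type u} {V : Type v} [Group Γ] [Finite Γ] [AddCommGroup V] [Module (ZMod 3) V] [Finite V]
variable (D : Ctx Γ V)

namespace Ctx

/-- The fixed space of the involution. -/
noncomputable abbrev U : Submodule (ZMod 3) V := plusSpace (D.ρ D.t)

theorem mem_U {v : V} : v ∈ D.U ↔ D.ρ D.t v = v := mem_plusSpace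

theorem m_pos : 0 < D.m := D.m_odd.pos

theorem ρ_mul (x y : Γ) (v : V) : D.ρ x (D.ρ y v) = D.ρ (x * y) v := by
  rw [map_mul]; rfl

theorem ρ_inv_apply (x : Γ) (v : V) : D.ρ x⁻¹ (D.ρ x v) = v := by
  rw [ρ_mul, inv_mul_cancel, map_one]; rfl

theorem ρ_apply_inv (x : Γ) (v : V) : D.ρ x (D.ρ x⁻¹ v) = v := by
  rw [ρ_mul, mul_inv_cancel, map_one]; rfl

theorem map_U {x : Γ} (hx : x * D.t = D.t * x) : ∀ v ∈ D.U, D.ρ x v ∈ D.U := fun v hv => by
  rw [mem_U, ρ_mul, ← hx, ← ρ_mul, D.mem_U.mp hv]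

theorem t_inv : D.t⁻¹ = D.t := inv_eq_of_mul_eq_one_right D.t_sq

theorem add_mem_U (v : V) : v + D.ρ D.t v ∈ D.U := by
  rw [mem_U, map_add, ρ_mul, D.t_sq, map_one, Module.End.one_apply, add_comm]

theorem h_pow_comm (j : ℕ) : D.h ^ j * D.t = D.t * D.h ^ j :=
  (Commute.pow_left (show Commute D.h D.t from D.h_comm.symm) j).eq

theorem h_pow_mem (j : ℕ) : D.h ^ j ∈ D.X := pow_mem D.h_mem j

/-- The restriction of an element commuting with `t` to the fixed space. -/
noncomputable def onU (x : Γ) (hx : x * D.t = D.t * x) : Module.End (ZMod 3) D.U :=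
  (D.ρ x).restrict (D.map_U hx)

/-- The torus element on the fixed space. -/
noncomputable abbrev hU : Module.End (ZMod 3) D.U := D.onU D.h D.h_comm.symm

theorem onU_apply {x : Γ} (hx : x * D.t = D.t * x) (v : D.U) : ((D.onU x hx v : D.U) : V) = D.ρ x v := rfl

theorem hU_pow_apply (j : ℕ) (v : D.U) : (((D.hU ^ j) v : D.U) : V) = D.ρ (D.h ^ j) v := by
  induction j with
  | zero => simp
  | succ j ih => rw [pow_succ' D.hU, pow_succ', Module.End.mul_apply, onU_apply, ih, ρ_mul]

theorem hU_irr : IsIrr D.hU := by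
  intro W hW
  have hle : W.map D.U.subtype ≤ D.U := by
    rintro _ ⟨w, -, rfl⟩
    exact w.2
  rcases D.irr (W.map D.U.subtype) hle (by rintro _ ⟨w, hw, rfl⟩; exact ⟨D.hU w, hW w hw, rfl⟩) with h | h
  · left
    exact Submodule.map_injective_of_injective (f := D.U.subtype) D.U.subtype_injective (by rw [h, Submodule.map_bot])
  · right
    refine Submodule.map_injective_of_injective (f := D.U.subtype) D.U.subtype_injective ?_
    rw [h, Submodule.map_top, Submodule.range_subtype]

theorem hU_order : orderOf D.hU = torusOrder D.m := by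
  rw [← D.ord]
  refine Nat.dvd_antisymm (orderOf_dvd_of_pow_eq_one (LinearMap.ext fun v => Subtype.ext ?_)) ?_
  · rw [hU_pow_apply, pow_orderOf_eq_one, map_one, Module.End.one_apply, Module.End.one_apply]
  · refine orderOf_dvd_of_pow_eq_one (D.faithful _ (D.h_pow_mem _) (D.h_pow_comm _) fun v hv => ?_)
    rw [← D.hU_pow_apply _ ⟨v, D.mem_U.mpr hv⟩, pow_orderOf_eq_one, Module.End.one_apply]

theorem U_ne_bot : D.U ≠ ⊥ := fun e => by
  have h : Module.finrank (ZMod 3) D.U = D.m := D.dim_plus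
  rw [e, finrank_bot] at h
  exact D.m_pos.ne h

theorem exists_U : ∃ v ∈ D.U, v ≠ (0 : V) := Submodule.exists_mem_ne_zero_of_ne_bot D.U_ne_bot

theorem irr_pow {j : ℕ} (hj : NoSubfield D.m j) : IsIrr (D.hU ^ j) :=
  D.hU_irr.pow D.m_pos D.dim_plus D.hU_order hj

theorem sub_eq {j : ℕ} (hj : NoSubfield D.m j) {W : Submodule (ZMod 3) V} (hWU : W ≤ D.U)
    (hW : ∀ w ∈ W, D.ρ (D.h ^ j) w ∈ W) (hne : W ≠ ⊥) : W = D.U := by
  rcases D.irr_pow hj (W.comap D.U.subtype) (fun w hw => by
      show (((D.hU ^ j) w : D.U) : V) ∈ W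
      rw [hU_pow_apply]
      exact hW _ hw) with h | h
  · obtain ⟨w, hw, hw0⟩ := Submodule.exists_mem_ne_zero_of_ne_bot hne
    have : (⟨w, hWU hw⟩ : D.U) ∈ W.comap D.U.subtype := hw
    rw [h] at this
    exact absurd (congrArg Subtype.val ((Submodule.mem_bot _).mp this)) hw0
  · refine le_antisymm hWU fun v hv => ?_
    have : (⟨v, hv⟩ : D.U) ∈ W.comap D.U.subtype := h.symm ▸ Submodule.mem_top
    exact this

theorem noSubfield_one : NoSubfield D.m 1 := noSubfield_small D.m_odd D.three_dvd one_pos D.m_pos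

/-- An operator commuting on the fixed space with a power of `h` outside every proper subfield commutes with `h`. -/
theorem comm_h {j : ℕ} (hj : NoSubfield D.m j) (C : Module.End (ZMod 3) V) (hC : ∀ v ∈ D.U, C v ∈ D.U)
    (hc : ∀ v ∈ D.U, C (D.ρ (D.h ^ j) v) = D.ρ (D.h ^ j) (C v)) :
    ∀ v ∈ D.U, C (D.ρ D.h v) = D.ρ D.h (C v) := by
  obtain ⟨P, hP⟩ := (D.irr_pow hj).poly_of_commute (C := C.restrict hC) (LinearMap.ext fun v => Subtype.ext (by
    show C ((D.hU ^ j) v : D.U) = (((D.hU ^ j) (C.restrict hC v) : D.U) : V)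
    rw [hU_pow_apply, hU_pow_apply]
    exact hc v v.2))
  intro v hv
  have hm : aeval (D.hU ^ j) P * D.hU = D.hU * aeval (D.hU ^ j) P :=
    (Algebra.commute_of_mem_adjoin_singleton_of_commute (aeval_mem_adjoin_singleton _ _)
      ((Commute.refl D.hU).pow_right j)).symm
  rw [← hP] at hm
  exact congrArg Subtype.val (DFunLike.congr_fun hm (⟨v, hv⟩ : D.U))

theorem aeval_hU (j : ℕ) (P : Polynomial (ZMod 3)) (v : D.U) :
    ((aeval (D.hU ^ j) P v : D.U) : V) = aeval (D.ρ (D.h ^ j)) P v := by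
  induction P using Polynomial.induction_on' with
  | add p q hp hq => simp [hp, hq]
  | monomial n c =>
    rw [aeval_monomial, aeval_monomial, Module.algebraMap_end_eq_smul_id, Module.algebraMap_end_eq_smul_id,
      smul_mul_assoc, smul_mul_assoc, LinearMap.smul_apply, LinearMap.smul_apply, Submodule.coe_smul,
      Module.End.mul_apply, Module.End.mul_apply, LinearMap.id_apply, LinearMap.id_apply, ← pow_mul, hU_pow_apply,
      ← map_pow, ← pow_mul]

/-- The part of the space on which `h^j` looks like on the fixed space. -/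
noncomputable def isoSpace (j : ℕ) : Submodule (ZMod 3) V :=
  ⨅ P : Polynomial (ZMod 3), ⨅ _ : aeval (D.hU ^ j) P = 0, LinearMap.ker (aeval (D.ρ (D.h ^ j)) P)

theorem mem_isoSpace {j : ℕ} {v : V} :
    v ∈ D.isoSpace j ↔ ∀ P : Polynomial (ZMod 3), aeval (D.hU ^ j) P = 0 → aeval (D.ρ (D.h ^ j)) P v = 0 := by
  simp [isoSpace, Submodule.mem_iInf]

theorem U_le_isoSpace (j : ℕ) : D.U ≤ D.isoSpace j := fun v hv => D.mem_isoSpace.mpr fun P hP => by
  rw [← D.aeval_hU j P ⟨v, hv⟩, hP, LinearMap.zero_apply]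
  rfl

theorem map_isoSpace {j : ℕ} {f : Module.End (ZMod 3) V} (hf : Commute f (D.ρ (D.h ^ j))) :
    ∀ v ∈ D.isoSpace j, f v ∈ D.isoSpace j := fun v hv => D.mem_isoSpace.mpr fun P hP => by
  have h : f * aeval (D.ρ (D.h ^ j)) P = aeval (D.ρ (D.h ^ j)) P * f :=
    Algebra.commute_of_mem_adjoin_singleton_of_commute (aeval_mem_adjoin_singleton _ _) hf
  rw [← Module.End.mul_apply, ← h, Module.End.mul_apply, D.mem_isoSpace.mp hv P hP, map_zero]

theorem le_finrank_isoSpace {j : ℕ} (hj : NoSubfield D.m j) {W : Submodule (ZMod 3) V} (hW : W ≤ D.isoSpace j)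
    (hinv : ∀ w ∈ W, D.ρ (D.h ^ j) w ∈ W) (hne : W ≠ ⊥) : D.m ≤ Module.finrank (ZMod 3) W :=
  D.dim_plus ▸ (D.irr_pow hj).finrank_le (D.ρ (D.h ^ j)) W hinv hne
    fun P hP w hw => D.mem_isoSpace.mp (hW hw) P hP

end Ctx

end CfsgLib.Walter.Three
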