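import Cfsg.Agent.Lib.Walter.Three.Geom

/-!
A group of prime exponent with cyclic derived group cannot act: the dimension bounds.
-/

set_option autoImplicit false
set_option linter.unusedSectionVars false
set_option linter.style.haveILetI false

namespace CfsgLib.Walter.Three

universe u v

variable {Γ : Type u} {V : Type v} [Group Γ] [Finite Γ] [AddCommGroup V] [Module (ZMod 3) V] [Finite V]

theorem conj_pow_eq {G : Type u} [Group G] {x y e : G} (h : y * x * y⁻¹ = e * x) (hey : Commute e y) :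
    ∀ k : ℕ, y ^ k * x * (y ^ k)⁻¹ = e ^ k * x := by
  intro k
  induction k with
  | zero => simp
  | succ k ih =>
    rw [pow_succ, mul_inv_rev, show y ^ k * y * x * (y⁻¹ * (y ^ k)⁻¹) = y ^ k * (y * x * y⁻¹) * (y ^ k)⁻¹ by group,
      h, show y ^ k * (e * x) * (y ^ k)⁻¹ = y ^ k * e * (x * (y ^ k)⁻¹) by group, ← (hey.pow_right k).eq,
      show e * y ^ k * (x * (y ^ k)⁻¹) = e * (y ^ k * x * (y ^ k)⁻¹) by group, ih, ← mul_assoc, ← pow_succ']

namespace Ctx

variable (D : Ctx Γ V) {l : ℕ}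

/-- Only the identity of `X` commuting with `t` and `h` fixes a non-zero vector of the fixed space. -/
theorem eq_one_of_fixed {x : Γ} (hxX : x ∈ D.X) (hxt : x * D.t = D.t * x) (hxh : x * D.h = D.h * x) {v : V}
    (hv : v ∈ D.U) (hv0 : v ≠ 0) (hfix : D.ρ x v = v) : x = 1 := by
  refine D.faithful x hxX hxt fun w hw => ?_
  have hW : D.U ⊓ plusSpace (D.ρ x) = D.U := by
    refine (D.irr _ inf_le_left ?_).resolve_left fun h => hv0 ?_
    · rintro w ⟨hw1, hw2⟩
      refine ⟨D.map_U D.h_comm.symm w hw1, mem_plusSpace.mpr ?_⟩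
      rw [ρ_mul, hxh, ← ρ_mul, mem_plusSpace.mp hw2]
    · have : v ∈ D.U ⊓ plusSpace (D.ρ x) := ⟨hv, mem_plusSpace.mpr hfix⟩
      rw [h] at this
      exact (Submodule.mem_bot _).mp this
  have : w ∈ D.U ⊓ plusSpace (D.ρ x) := hW.symm ▸ D.mem_U.mpr hw
  exact mem_plusSpace.mp this.2

/-- The sum over a central element of order `l` kills the fixed space. -/
theorem geom_U {c : Γ} (hcX : c ∈ D.X) (hct : c * D.t = D.t * c) (hch : c * D.h = D.h * c) (hc1 : c ≠ 1)
    (hcl : c ^ l = 1) {v : V} (hv : v ∈ D.U) : D.geom l c v = 0 := by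
  by_contra h
  refine hc1 (D.eq_one_of_fixed hcX hct hch ?_ h (D.fixed_geom hcl v))
  rw [mem_U, ← Module.End.mul_apply, (D.geom_commute (Commute.symm hct)).eq, Module.End.mul_apply,
    D.mem_U.mp hv]

/-- Elements of order `l` of `X` commuting with `t`, `h` and each other form a cyclic group. -/
theorem mem_zpowers_of_comm (hl : l.Prime) (h5 : 5 ≤ l) {c e : Γ} (hcX : c ∈ D.X) (heX : e ∈ D.X)
    (hct : c * D.t = D.t * c) (het : e * D.t = D.t * e) (hch : c * D.h = D.h * c) (heh : e * D.h = D.h * e)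
    (hce : Commute c e) (hc1 : c ≠ 1) (hcl : c ^ l = 1) (hel : e ^ l = 1) : e ∈ Subgroup.zpowers c := by
  obtain ⟨v, hv, hv0⟩ := D.exists_U
  obtain ⟨i, -, hi⟩ := D.exists_geom_ne hl h5 hcl hce hv0 (D.geom_U hcX hct hch hc1 hcl hv)
  have h1 : c ^ i * e = 1 := by
    by_contra hne
    refine hi (D.geom_U (mul_mem (pow_mem hcX i) heX) ?_ ?_ hne ?_ hv)
    · exact ((Commute.pow_left hct i).mul_left het).eq
    · exact ((Commute.pow_left hch i).mul_left heh).eq
    · rw [(hce.pow_left i).mul_pow, hel, mul_one, ← pow_mul, mul_comm, pow_mul, hcl, one_pow]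
  rw [eq_inv_of_mul_eq_one_right h1]
  exact inv_mem (pow_mem (Subgroup.mem_zpowers c) i)

/-- The fixed space of an inverted element of a group of prime exponent is small. -/
theorem fix_bounds (hl : l.Prime) (h5 : 5 ≤ l) {W : Submodule (ZMod 3) V} {c p y : Γ}
    (hcl : c ^ l = 1) (hpl : p ^ l = 1) (hcp : Commute c p) (hcy : Commute c y) (hyp : y * p * y⁻¹ = c * p)
    (hpt : D.t * p * D.t = p⁻¹) (hW : W = LinearMap.ker (D.geom l c)) (hne : W ≠ ⊥) (i : ℕ) :
    2 * Module.finrank (ZMod 3) W ≤ 5 * D.m ∧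
      l * Module.finrank (ZMod 3) ↥(W ⊓ plusSpace (D.ρ (c ^ i * p))) ≤ Module.finrank (ZMod 3) W ∧
      0 < Module.finrank (ZMod 3) ↥(W ⊓ plusSpace (D.ρ p)) ∧
      2 * Module.finrank (ZMod 3) ↥(W ⊓ plusSpace (D.ρ (c ^ i * p))) ≤ D.m := by
  classical
  subst hW
  set W := LinearMap.ker (D.geom l c) with hW
  have hmap : ∀ x : Γ, Commute c x → ∀ v ∈ W, D.ρ x v ∈ W := fun x hx v hv => by
    rw [hW, LinearMap.mem_ker, ← Module.End.mul_apply, ← (D.geom_commute hx.symm).eq, Module.End.mul_apply,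
      LinearMap.mem_ker.mp hv, map_zero]
  have hconj : ∀ k : ℕ, y ^ k * p = c ^ k * p * y ^ k := fun k => by
    rw [← conj_pow_eq hyp hcy k, inv_mul_cancel_right]
  set F : ℕ → Submodule (ZMod 3) V := fun k => W ⊓ plusSpace (D.ρ (c ^ k * p)) with hF
  -- conjugation by powers of `y` moves the fixed space of `p` onto the others
  have hmove : ∀ k : ℕ, ∀ v ∈ W, D.ρ p v = v → D.ρ (c ^ k * p) (D.ρ (y ^ k) v) = D.ρ (y ^ k) v := by
    intro k v _ hv
    rw [ρ_mul, ← hconj, ← ρ_mul, hv]
  have hle : ∀ k : ℕ, Module.finrank (ZMod 3) (F k) ≤ Module.finrank (ZMod 3) ↥(W ⊓ plusSpace (D.ρ p)) := by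
    intro k
    let f : F k →ₗ[ZMod 3] ↥(W ⊓ plusSpace (D.ρ p)) :=
      ((D.ρ (y ^ k)⁻¹).comp (F k).subtype).codRestrict _ fun v => by
        refine ⟨hmap _ (hcy.pow_right k).inv_right _ v.2.1, mem_plusSpace.mpr ?_⟩
        have h := mem_plusSpace.mp v.2.2
        show D.ρ p (D.ρ (y ^ k)⁻¹ v) = D.ρ (y ^ k)⁻¹ v
        conv_rhs => rw [← h]
        rw [ρ_mul, ρ_mul, ← conj_pow_eq hyp hcy k, ← mul_assoc, ← mul_assoc, inv_mul_cancel, one_mul]
    refine LinearMap.finrank_le_finrank_of_injective (f := f) fun a b hab => Subtype.ext ?_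
    have := congrArg (fun w : ↥(W ⊓ plusSpace (D.ρ p)) => D.ρ (y ^ k) (w : V)) hab
    change D.ρ (y ^ k) (D.ρ (y ^ k)⁻¹ (a : V)) = D.ρ (y ^ k) (D.ρ (y ^ k)⁻¹ (b : V)) at this
    rwa [ρ_apply_inv, ρ_apply_inv] at this
  set f0 := Module.finrank (ZMod 3) ↥(W ⊓ plusSpace (D.ρ p)) with hf0
  have hpos : 0 < f0 := by
    obtain ⟨v, hv, hv0⟩ := Submodule.exists_mem_ne_zero_of_ne_bot hne
    obtain ⟨k, -, hk⟩ := D.exists_geom_ne hl h5 hcl hcp hv0 (LinearMap.mem_ker.mp hv)
    have hcpl : (c ^ k * p) ^ l = 1 := by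
      rw [(hcp.pow_left k).mul_pow, hpl, mul_one, ← pow_mul, mul_comm, pow_mul, hcl, one_pow]
    have hmem : D.geom l (c ^ k * p) v ∈ F k := by
      refine ⟨?_, mem_plusSpace.mpr (D.fixed_geom hcpl v)⟩
      rw [geom_apply]
      exact sum_mem fun j _ => hmap _ (((Commute.refl c).pow_right k).mul_right hcp |>.pow_right j) v hv
    refine lt_of_lt_of_le ?_ (hle k)
    rw [Nat.pos_iff_ne_zero, ne_eq, Submodule.finrank_eq_zero]
    exact fun h => hk ((Submodule.mem_bot _).mp (h ▸ hmem))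
  -- the conjugates are independent
  have hlf : l * f0 ≤ Module.finrank (ZMod 3) W := by
    let f : (Fin l → ↥(W ⊓ plusSpace (D.ρ p))) →ₗ[ZMod 3] W :=
      (∑ k : Fin l, ((D.ρ (y ^ (k : ℕ))).comp (W ⊓ plusSpace (D.ρ p)).subtype).comp
        (LinearMap.proj k)).codRestrict W fun g => by
        rw [LinearMap.sum_apply]
        exact sum_mem fun k _ => hmap _ (hcy.pow_right _) _ (g k).2.1
    have hf : ∀ g, ((f g : W) : V) = ∑ k : Fin l, D.ρ (y ^ (k : ℕ)) (g k : V) := fun g => by
      simp [f, LinearMap.sum_apply]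
    have h := LinearMap.finrank_le_finrank_of_injective (f := f) (by
      rw [← LinearMap.ker_eq_bot, LinearMap.ker_eq_bot']
      intro g hg
      funext j
      have h0 : D.geom l (c ^ (j : ℕ) * p) ((f g : W) : V) = 0 := by rw [hg, ZeroMemClass.coe_zero, map_zero]
      rw [hf, map_sum, Finset.sum_eq_single j] at h0
      · rw [D.geom_of_fixed (hmove j _ (g j).2.1 (mem_plusSpace.mp (g j).2.2))] at h0
        have h1 := (smul_eq_zero.mp h0).resolve_left (cast_ne_zero l hl h5)
        have h2 := congrArg (D.ρ (y ^ (j : ℕ))⁻¹) h1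
        rw [ρ_inv_apply, map_zero] at h2
        exact Subtype.ext h2
      · intro k _ hkj
        set w := D.ρ (y ^ (k : ℕ)) (g k : V) with hw
        have hwW : D.geom l c w = 0 := LinearMap.mem_ker.mp (hmap _ (hcy.pow_right _) _ (g k).2.1)
        have hwk := hmove k _ (g k).2.1 (mem_plusSpace.mp (g k).2.2)
        -- on `w` the element `c ^ j * p` acts as a non-trivial power of `c`
        set n := (j : ℕ) + (l - (k : ℕ)) with hn
        have hnd : ¬ l ∣ n := fun hd => hkj (Fin.ext (by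
          obtain ⟨q, hq⟩ := hd
          have := j.2
          have := k.2
          rcases q with _ | _ | q
          · omega
          · omega
          · rw [show l * (q + 1 + 1) = l * q + l + l by ring] at hq
            omega))
        have hnk : c ^ (j : ℕ) * p = c ^ n * (c ^ (k : ℕ) * p) := by
          rw [← mul_assoc, ← pow_add, show n + (k : ℕ) = (j : ℕ) + l by omega, pow_add, hcl, mul_one]
        have hpw : ∀ i : ℕ, D.ρ ((c ^ (j : ℕ) * p) ^ i) w = D.ρ ((c ^ n) ^ i) w := by
          intro i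
          induction i with
          | zero => simp
          | succ i ih =>
            rw [pow_succ', ← ρ_mul, ih, ρ_mul, hnk]
            rw [show c ^ n * (c ^ (k : ℕ) * p) * (c ^ n) ^ i = (c ^ n) ^ (i + 1) * (c ^ (k : ℕ) * p) by
              rw [pow_succ', mul_assoc, mul_assoc (c ^ n), ← ((((Commute.refl c).pow_right k).mul_right hcp).pow_left n).pow_left i |>.eq]]
            rw [← ρ_mul, hwk]
        rw [geom_apply, Finset.sum_congr rfl fun i _ => hpw i, ← geom_apply]
        exact D.geom_pow_zero hl h5 hcl hnd hwW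
      · exact fun h => absurd (Finset.mem_univ j) h)
    rwa [Module.finrank_pi_fintype, Finset.sum_const, Finset.card_univ, Fintype.card_fin, smul_eq_mul] at h
  -- two involutions
  have hd : Module.finrank (ZMod 3) W ≤ f0 + (D.m + D.m) := by
    set q := p ^ ((l + 1) / 2) with hq
    have hodd : Odd l := hl.odd_of_ne_two (by omega)
    have hqq : q * q = p := by
      rw [hq, ← pow_add, show (l + 1) / 2 + (l + 1) / 2 = l + 1 by
        rw [Nat.odd_iff] at hodd
        omega, pow_succ, hpl, one_mul]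
    have hqt : D.t * q = q⁻¹ * D.t := by
      have h : MulAut.conj D.t q = q⁻¹ := by
        rw [hq, map_pow, MulAut.conj_apply, t_inv, hpt, inv_pow]
      rw [MulAut.conj_apply] at h
      rw [← h, inv_mul_cancel_right]
    have hptc : D.t * p * (D.t * p) = 1 := by rw [← mul_assoc, hpt, inv_mul_cancel]
    let g : W →ₗ[ZMod 3] D.U × D.U := LinearMap.prod
      (((1 + D.ρ D.t).comp W.subtype).codRestrict D.U fun v => D.add_mem_U (v : V))
      ((((D.ρ q) * (1 + D.ρ (D.t * p))).comp W.subtype).codRestrict D.U fun v => by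
        show D.ρ q ((v : V) + D.ρ (D.t * p) v) ∈ D.U
        have e : q * (D.t * p) = D.t * q := by
          rw [← hqq, ← mul_assoc D.t q q, hqt, mul_assoc q⁻¹ D.t q, hqt, mul_inv_cancel_left]
        rw [mem_U, map_add (D.ρ q), D.ρ_mul q, e, map_add (D.ρ D.t), D.ρ_mul, D.ρ_mul, ← mul_assoc D.t D.t q,
          D.t_sq, one_mul, add_comm])
    have hker : LinearMap.ker g ≤ (W ⊓ plusSpace (D.ρ p)).comap W.subtype := by
      intro v hv
      have h1 := congrArg (fun z : D.U × D.U => ((z.1 : V), (z.2 : V))) (LinearMap.mem_ker.mp hv)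
      simp only [g, LinearMap.prod_apply, Function.prod, LinearMap.codRestrict_apply, LinearMap.comp_apply,
        Module.End.mul_apply, LinearMap.add_apply, Module.End.one_apply, Submodule.coe_subtype, Prod.fst_zero,
        Prod.snd_zero, ZeroMemClass.coe_zero, Prod.mk.injEq] at h1
      refine ⟨v.2, mem_plusSpace.mpr ?_⟩
      have ht1 : D.ρ D.t (v : V) = -(v : V) := eq_neg_of_add_eq_zero_right h1.1
      have h2 : (v : V) + D.ρ (D.t * p) v = 0 := by
        have := congrArg (D.ρ q⁻¹) h1.2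
        rwa [ρ_inv_apply, map_zero] at this
      have h3 : D.ρ (D.t * p) (v : V) = -(v : V) := eq_neg_of_add_eq_zero_right h2
      have h4 := congrArg (D.ρ D.t) h3
      rw [ρ_mul, ← mul_assoc, D.t_sq, one_mul, map_neg, ht1, neg_neg] at h4
      exact h4
    have h1 := LinearMap.finrank_range_add_finrank_ker g
    have h2 := Submodule.finrank_le (LinearMap.range g)
    rw [Module.finrank_prod, show Module.finrank (ZMod 3) D.U = D.m from D.dim_plus] at h2
    have h3 := Submodule.finrank_mono hker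
    rw [(Submodule.comapSubtypeEquivOfLe inf_le_left).finrank_eq] at h3
    omega
  have hfi : Module.finrank (ZMod 3) (F i) ≤ f0 := hle i
  have h5f : 5 * f0 ≤ l * f0 := Nat.mul_le_mul_right _ h5
  refine ⟨by omega, ?_, hpos, by show 2 * Module.finrank (ZMod 3) (F i) ≤ D.m; omega⟩
  exact le_trans (Nat.mul_le_mul_left l hfi) hlf

end Ctx

end CfsgLib.Walter.Three
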