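import Cfsg.Agent.Lib.Walter.Setup
import Cfsg.Agent.Lib.Walter.Three.Borel

/-!
Subgroups of three-power order normalised by `⟨t⟩ × B⟨φ⟩`: their normalisers have Sylow 2-subgroup `⟨t⟩`.
-/

set_option autoImplicit false
set_option linter.unusedSectionVars false
set_option linter.style.haveILetI false

namespace CfsgLib.Walter.Three

open CfsgLib.PSL2

universe u

variable {G : Type u} [Group G] [Finite G]

local notation "PSL₂[" K "]" => Matrix.ProjectiveSpecialLinearGroup (Fin 2) K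

/-- The data of case (U): the field has `3 ^ n` elements and three divides the order of `σ`. -/
structure UData (C : Coord G) (n : ℕ) : Prop where
  card : Fintype.card C.F = 3 ^ n
  odd : Odd n
  char : CharP C.F 3
  mod4 : Fintype.card C.F % 4 = 3
  dvd : 3 ∣ orderOf C.σ

theorem exists_uData {C : Coord G} (h : CaseU C) : ∃ n, UData C n := by
  obtain ⟨k, hk⟩ := h.three
  obtain ⟨p, n, hp, hn, hc, hcard, -, -⟩ := odd_degree C.hq
  have hk0 : k ≠ 0 := fun e => by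
    have := Fintype.one_lt_card (α := C.F)
    rw [hk, e, pow_zero] at this
    omega
  obtain rfl : p = 3 := by
    have h3 : 3 ∣ p ^ n := by rw [← hcard, hk]; exact dvd_pow_self 3 hk0
    exact ((Nat.prime_dvd_prime_iff_eq Nat.prime_three hp).mp (Nat.prime_three.dvd_of_dvd_pow h3)).symm
  refine ⟨n, hcard, hn, hc, ?_, h.dvd⟩
  obtain ⟨i, rfl⟩ := hn
  rw [hcard, pow_succ, pow_mul, Nat.mul_mod, Nat.pow_mod]
  norm_num

/-- The part of odd order of the local subgroup. -/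
def yOdd (C : Coord G) : Subgroup G :=
  let S : Submonoid G :=
    { carrier := {g | ∃ x ∈ borel C.F, ∃ j : ℕ, g = C.ι x * C.φ ^ j}
      one_mem' := ⟨1, one_mem _, 0, by rw [map_one, pow_zero, one_mul]⟩
      mul_mem' := by
        rintro _ _ ⟨x, hx, j, rfl⟩ ⟨y, hy, k, rfl⟩
        refine ⟨x * fieldAut (C.σ ^ j) y, mul_mem hx (fieldAut_borel _ hy), j + k, ?_⟩
        rw [map_mul, ← C.conj_pow, pow_add]
        group }
  { S with
    inv_mem' := fun {g} hg => by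
      have e : g⁻¹ = g ^ (orderOf g - 1) := by
        refine inv_eq_of_mul_eq_one_right ?_
        rw [← pow_succ', Nat.sub_add_cancel (orderOf_pos g), pow_orderOf_eq_one]
      exact e ▸ S.pow_mem hg _ }

theorem mem_yOdd {C : Coord G} {g : G} : g ∈ yOdd C ↔ ∃ x ∈ borel C.F, ∃ j : ℕ, g = C.ι x * C.φ ^ j := Iff.rfl

/-- The image of the unitriangular group. -/
noncomputable def uImg (C : Coord G) : Subgroup G :=
  ((uHom : Multiplicative C.F →* PSL₂[C.F]).range).map C.ι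

variable {C : Coord G}

theorem uImg_mem {g : G} : g ∈ uImg C ↔ ∃ s : C.F, C.ι (uu s) = g := by
  constructor
  · rintro ⟨_, ⟨s, rfl⟩, rfl⟩
    exact ⟨s.toAdd, rfl⟩
  · rintro ⟨s, rfl⟩
    exact ⟨_, ⟨_, rfl⟩, rfl⟩

theorem uImg_le : uImg C ≤ yOdd C := fun g hg => by
  obtain ⟨s, rfl⟩ := uImg_mem.mp hg
  exact ⟨_, uu_mem_borel s, 0, by rw [pow_zero, mul_one]⟩

theorem φ_mem_yOdd : C.φ ∈ yOdd C := ⟨1, one_mem _, 1, by rw [map_one, one_mul, pow_one]⟩

theorem ι_mem_yOdd {x : PSL₂[C.F]} (hx : x ∈ borel C.F) : C.ι x ∈ yOdd C := ⟨x, hx, 0, by rw [pow_zero, mul_one]⟩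

theorem yOdd_comm {g : G} (hg : g ∈ yOdd C) : Commute g C.t := by
  obtain ⟨x, -, j, rfl⟩ := hg
  exact ((C.t_ι x).mul_right (C.t_φ.pow_right j)).symm

theorem conj_form (x y : PSL₂[C.F]) (j : ℕ) :
    (C.ι x * C.φ ^ j) * C.ι y * (C.ι x * C.φ ^ j)⁻¹ = C.ι (x * fieldAut (C.σ ^ j) y * x⁻¹) := by
  rw [map_mul, map_mul, map_inv, ← C.conj_pow j y]
  group

theorem uImg_conj {g : G} (hg : g ∈ yOdd C) {u : G} (hu : u ∈ uImg C) : g * u * g⁻¹ ∈ uImg C := by
  obtain ⟨x, hx, j, rfl⟩ := hg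
  obtain ⟨s, rfl⟩ := uImg_mem.mp hu
  rw [conj_form, fieldAut_uu]
  obtain ⟨g', rfl, h0⟩ := exists_upper hx
  rw [conj_uu_of_upper g' h0]
  exact uImg_mem.mpr ⟨_, rfl⟩

theorem Coord.unique_nat (C : Coord G) {i : ℕ} {x : PSL₂[C.F]} {j : ℕ} (h : C.t ^ i * C.ι x * C.φ ^ j = 1) :
    Even i ∧ x = 1 ∧ C.φ ^ j = 1 := by
  have e : C.t ^ i = C.t ^ (i % 2) := pow_eq_pow_mod i (by rw [pow_two, C.tt])
  rw [e] at h
  obtain ⟨h1, h2, h3⟩ := C.unique (i := ⟨i % 2, Nat.mod_lt _ two_pos⟩) h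
  exact ⟨Nat.even_iff.mpr (by simpa using congrArg Fin.val h1), h2, h3⟩

/-- Elements of the odd part fixing the unipotent group pointwise lie in it. -/
theorem mem_uImg_of_cent {g : G} (hg : g ∈ yOdd C) (h : ∀ u ∈ uImg C, g * u = u * g) : g ∈ uImg C := by
  obtain ⟨x, hx, j, rfl⟩ := hg
  have hfix : ∀ s : C.F, x * fieldAut (C.σ ^ j) (uu s) * x⁻¹ = uu s := fun s => C.ι_inj (by
    rw [← conj_form, h _ (uImg_mem.mpr ⟨s, rfl⟩), mul_inv_cancel_right])
  obtain ⟨he, hxU⟩ := trivial_of_fix_uRange hx hfix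
  have hj : C.φ ^ j = 1 := orderOf_dvd_iff_pow_eq_one.mp (C.φ_ord ▸ orderOf_dvd_of_pow_eq_one he)
  rw [hj, mul_one]
  exact ⟨x, hxU, rfl⟩

variable {n : ℕ}

theorem UData.odd_yOdd (D : UData C n) : Odd (Nat.card (yOdd C)) := by
  haveI := D.char
  by_contra hodd
  rw [Nat.not_odd_iff_even, even_iff_two_dvd] at hodd
  haveI : Fact (Nat.Prime 2) := ⟨Nat.prime_two⟩
  obtain ⟨g, hg'⟩ := exists_prime_orderOf_dvd_card' 2 hodd
  obtain ⟨x, hx, j, hgx⟩ := g.2
  have hg : orderOf (C.ι x * C.φ ^ j) = 2 := by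
    rw [← hgx, Subgroup.orderOf_coe]; exact hg'
  have h2 : C.ι x * C.φ ^ j * (C.ι x * C.φ ^ j) = 1 := by
    have := pow_orderOf_eq_one (C.ι x * C.φ ^ j)
    rwa [hg, pow_two] at this
  have h3 : C.t ^ 0 * C.ι (x * fieldAut (C.σ ^ j) x) * C.φ ^ (j + j) = 1 := by
    rw [pow_zero, one_mul, map_mul, ← C.conj_pow, pow_add]
    rw [← h2]
    group
  obtain ⟨-, h4, h5⟩ := Coord.unique_nat C h3
  have hj : C.φ ^ j = 1 := C.φ_pow_two (by rwa [← pow_add])
  rw [hj, mul_one, ← map_mul, ← map_one C.ι] at h2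
  have h6 := uRange_pow_three (involution_borel D.mod4 hx (C.ι_inj h2))
  have hx1 : x = 1 := by rw [← h6, pow_succ, pow_two, C.ι_inj h2, one_mul]
  rw [hx1, hj, map_one, mul_one, orderOf_one] at hg
  omega

/-- A subgroup of three-power order normalised by the local subgroup. -/
structure Fam (C : Coord G) (Q : Subgroup G) : Prop where
  ne : Q ≠ ⊥
  three : IsPGroup 3 Q
  y_le : yOdd C ≤ Subgroup.normalizer (Q : Set G)
  t_mem : C.t ∈ Subgroup.normalizer (Q : Set G)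

theorem fam_uImg (D : UData C n) : Fam C (uImg C) := by
  haveI := D.char
  refine ⟨?_, ?_, fun g hg => Subgroup.mem_normalizer_fintype fun u hu => uImg_conj hg hu, ?_⟩
  · intro h
    have h1 : C.ι (uu 1) = 1 := (Subgroup.mem_bot).mp (h ▸ uImg_mem.mpr ⟨1, rfl⟩)
    exact one_ne_zero (uu_injective ((C.ι_inj (h1.trans (map_one _).symm)).trans uu_zero.symm))
  · rintro ⟨g, x, hx, rfl⟩
    exact ⟨1, Subtype.ext (by
      show C.ι x ^ 3 ^ 1 = 1
      rw [pow_one, ← map_pow, uRange_pow_three hx, map_one])⟩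
  · refine Subgroup.mem_normalizer_fintype fun u hu => ?_
    obtain ⟨s, rfl⟩ := uImg_mem.mp hu
    rw [(C.t_ι _).eq, mul_inv_cancel_right]
    exact uImg_mem.mpr ⟨s, rfl⟩

/-- No involution of `C(t)` other than `t` inverts a non-trivial element of three-power order. -/
theorem UData.no_inverter (D : UData C n) {s y : G} (hs : Commute s C.t) (hs2 : s * s = 1) (hst : s ≠ C.t)
    (hy : Commute y C.t) {k : ℕ} (hy3 : y ^ 3 ^ k = 1) (hy1 : y ≠ 1) (hinv : s * y * s⁻¹ = y⁻¹) : False := by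
  haveI := D.char
  have hyodd : Odd (orderOf y) := (Odd.pow (by decide : Odd 3)).of_dvd_nat (orderOf_dvd_of_pow_eq_one hy3)
  obtain ⟨x, j, rfl⟩ := C.odd_form hy hyodd
  obtain ⟨i, v, l, rfl⟩ := C.cent s hs
  have hts : ∀ w : G, Commute C.t w → C.t ^ (i : ℕ) * w = w * C.t ^ (i : ℕ) := fun w hw => (hw.pow_left _).eq
  have htv : Commute C.t (C.ι v * C.φ ^ l) := (C.t_ι v).mul_right (C.t_φ.pow_right l)
  have htt : C.t ^ (i : ℕ) * C.t ^ (i : ℕ) = 1 := by
    rw [← pow_add, ← two_mul, pow_mul, pow_two, C.tt, one_pow]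
  have hl : C.φ ^ l = 1 := by
    have e : C.t ^ 0 * C.ι (v * fieldAut (C.σ ^ l) v) * C.φ ^ (l + l) = 1 := by
      rw [pow_zero, one_mul, map_mul, ← C.conj_pow, pow_add]
      calc C.ι v * (C.φ ^ l * C.ι v * (C.φ ^ l)⁻¹) * (C.φ ^ l * C.φ ^ l) = C.ι v * C.φ ^ l * (C.ι v * C.φ ^ l) := by
            group
        _ = C.t ^ (i : ℕ) * C.t ^ (i : ℕ) * (C.ι v * C.φ ^ l * (C.ι v * C.φ ^ l)) := by rw [htt, one_mul]
        _ = C.t ^ (i : ℕ) * (C.ι v * C.φ ^ l) * (C.t ^ (i : ℕ) * (C.ι v * C.φ ^ l)) := by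
            simp only [mul_assoc]
            rw [← mul_assoc (C.φ ^ l) (C.t ^ (i : ℕ)), ← hts _ (C.t_φ.pow_right l)]
            simp only [mul_assoc]
            rw [← mul_assoc (C.ι v) (C.t ^ (i : ℕ)), ← hts _ (C.t_ι v)]
            simp only [mul_assoc]
        _ = 1 := by simpa [mul_assoc] using hs2
    exact C.φ_pow_two (by rw [← pow_add]; exact (Coord.unique_nat C e).2.2)
  rw [hl, mul_one] at hs2 hst hinv htv
  have hv2 : v * v = 1 := C.ι_inj (by
    rw [map_mul, map_one, ← hs2]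
    conv_lhs => rw [← one_mul (C.ι v * C.ι v), ← htt]
    simp only [mul_assoc]
    rw [← mul_assoc (C.ι v) (C.t ^ (i : ℕ)), ← hts _ (C.t_ι v), mul_assoc])
  have hv1 : v ≠ 1 := by
    rintro rfl
    rw [map_one, mul_one] at hs2 hst hinv
    fin_cases i
    · simp only [pow_zero, one_mul, inv_one, mul_one] at hinv
      exact hy1 (eq_one_of_odd hyodd hinv)
    · exact hst (by simp)
  -- `t` drops out
  have hinv' : C.ι v * (C.ι x * C.φ ^ j) * (C.ι v)⁻¹ = (C.ι x * C.φ ^ j)⁻¹ := by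
    rw [← hinv]
    have h := hts (C.ι v * (C.ι x * C.φ ^ j) * (C.ι v)⁻¹)
      (((C.t_ι v).mul_right ((C.t_ι x).mul_right (C.t_φ.pow_right j))).mul_right (C.t_ι v).inv_right)
    rw [show C.t ^ (i : ℕ) * C.ι v * (C.ι x * C.φ ^ j) * (C.t ^ (i : ℕ) * C.ι v)⁻¹ =
      C.t ^ (i : ℕ) * (C.ι v * (C.ι x * C.φ ^ j) * (C.ι v)⁻¹) * (C.t ^ (i : ℕ))⁻¹ by group, h, mul_inv_cancel_right]
  have hj : C.φ ^ j = 1 := by
    have e1 : C.ι v * (C.ι x * C.φ ^ j) * (C.ι v)⁻¹ = C.ι (v * x * fieldAut (C.σ ^ j) v⁻¹) * C.φ ^ j := by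
      rw [map_mul, map_mul, ← C.conj_pow, map_inv]
      group
    have e : C.t ^ 0 * C.ι (x * fieldAut (C.σ ^ j) (v * x * fieldAut (C.σ ^ j) v⁻¹)) * C.φ ^ (j + j) = 1 := by
      rw [pow_zero, one_mul, map_mul C.ι x, ← C.conj_pow, pow_add]
      calc _ = C.ι x * C.φ ^ j * (C.ι (v * x * fieldAut (C.σ ^ j) v⁻¹) * C.φ ^ j) := by group
        _ = 1 := by rw [← e1, hinv', mul_inv_cancel]
    exact C.φ_pow_two (by rw [← pow_add]; exact (Coord.unique_nat C e).2.2)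
  rw [hj, mul_one] at hinv' hy3 hy1
  refine no_inverted D.mod4 hv2 hv1 (C.ι_inj (by rw [map_pow, hy3, map_one])) (fun e => hy1 (by rw [e, map_one]))
    (C.ι_inj (by rw [map_mul, map_mul, map_inv, map_inv, hinv']))
where
  eq_one_of_odd {z : G} (hz : Odd (orderOf z)) (h : z = z⁻¹) : z = 1 := by
    have h2 : z ^ 2 = 1 := by rw [pow_two]; exact mul_eq_one_iff_eq_inv.mpr h
    rcases (Nat.dvd_prime Nat.prime_two).mp (orderOf_dvd_of_pow_eq_one h2) with h1 | h1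
    · exact orderOf_eq_one_iff.mp h1
    · rw [h1] at hz; exact absurd hz (by decide)

/-- An automorphism of order at most two of a group of odd order without fixed points inverts every element. -/
theorem inverts_of_fpf {Q : Subgroup G} {t : G} (htt : t * t = 1)
    (hn : ∀ y ∈ Q, t * y * t⁻¹ ∈ Q) (hfpf : ∀ y ∈ Q, t * y * t⁻¹ = y → y = 1) :
    ∀ y ∈ Q, t * y * t⁻¹ = y⁻¹ := by
  have hti : t⁻¹ = t := inv_eq_of_mul_eq_one_right htt
  let f : Q → Q := fun y => ⟨(y : G)⁻¹ * (t * y * t⁻¹), mul_mem (inv_mem y.2) (hn y y.2)⟩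
  have hf : Function.Injective f := fun a b h => by
    have h' : (a : G)⁻¹ * (t * a * t⁻¹) = (b : G)⁻¹ * (t * b * t⁻¹) := congrArg Subtype.val h
    have h2 : t * ((b : G) * (a : G)⁻¹) * t⁻¹ = (b : G) * (a : G)⁻¹ := by
      calc t * ((b : G) * (a : G)⁻¹) * t⁻¹ = b * ((b : G)⁻¹ * (t * b * t⁻¹)) * (t * a * t⁻¹)⁻¹ := by group
        _ = b * ((a : G)⁻¹ * (t * a * t⁻¹)) * (t * a * t⁻¹)⁻¹ := by rw [h']
        _ = _ := by group
    exact Subtype.ext (mul_inv_eq_one.mp (hfpf _ (mul_mem b.2 (inv_mem a.2)) h2)).symm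
  intro y hy
  obtain ⟨z, hz⟩ := Finite.injective_iff_surjective.mp hf ⟨y, hy⟩
  have hz' : (z : G)⁻¹ * (t * z * t⁻¹) = y := congrArg Subtype.val hz
  rw [← hz', hti, mul_inv_rev, inv_inv, mul_inv_rev, mul_inv_rev, hti]
  simp only [mul_assoc]
  simp [htt]

/-- The centraliser of `t` in the normaliser is the local subgroup. -/
theorem Fam.cent_form (B : Base G) (D : UData C n) {Q : Subgroup G} (hQ : Fam C Q) {g : G}
    (hg : g ∈ Subgroup.normalizer (Q : Set G)) (hgt : Commute g C.t) : ∃ i : ℕ, ∃ e ∈ yOdd C, g = C.t ^ i * e := by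
  classical
  haveI := D.char
  haveI : Fact (Nat.Prime 3) := ⟨Nat.prime_three⟩
  set N := Subgroup.normalizer (Q : Set G)
  obtain ⟨i, x, j, rfl⟩ := C.cent g hgt
  have hxN : C.ι x ∈ N := by
    have h := mul_mem (mul_mem (inv_mem (pow_mem hQ.t_mem (i : ℕ))) hg) (inv_mem (pow_mem (hQ.y_le φ_mem_yOdd) j))
    rwa [show (C.t ^ (i : ℕ))⁻¹ * (C.t ^ (i : ℕ) * C.ι x * C.φ ^ j) * (C.φ ^ j)⁻¹ = C.ι x by group] at h
  by_cases hK : N.comap C.ι = ⊤
  swap
  · have hU : (uHom : Multiplicative C.F →* PSL₂[C.F]).range ≤ N.comap C.ι := fun u hu =>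
      hQ.y_le (uImg_le ⟨u, hu, rfl⟩)
    exact ⟨i, _, ⟨x, le_normalizer_of_uRange_le hU hK hxN, j, rfl⟩, mul_assoc _ _ _⟩
  exfalso
  have hall : ∀ z : PSL₂[C.F], C.ι z ∈ N := fun z => by
    have : z ∈ N.comap C.ι := hK ▸ Subgroup.mem_top z
    exact this
  have hCN : ∀ w : G, Commute w C.t → w ∈ N := fun w hw => by
    obtain ⟨i', x', j', rfl⟩ := C.cent w hw
    exact mul_mem (mul_mem (pow_mem hQ.t_mem _) (hall x')) (pow_mem (hQ.y_le φ_mem_yOdd) j')
  have hQodd : Odd (Nat.card Q) := by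
    obtain ⟨k, hk⟩ := IsPGroup.iff_card.mp hQ.three
    rw [hk]
    exact Odd.pow (by decide)
  have hn : ∀ y ∈ Q, C.t * y * C.t⁻¹ ∈ Q := fun y hy => (Subgroup.mem_normalizer_iff.mp hQ.t_mem y).mp hy
  -- `t` has no fixed points
  have hfpf : ∀ y ∈ Q, C.t * y * C.t⁻¹ = y → y = 1 := by
    intro y hy hyt
    have hyc : Commute y C.t := (mul_inv_eq_iff_eq_mul.mp hyt).symm
    obtain ⟨x', j', rfl⟩ := C.odd_form hyc (hQodd.of_dvd_nat (Subgroup.orderOf_dvd_natCard Q hy))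
    haveI : IsSimpleGroup PSL₂[C.F] := Matrix.ProjectiveSpecialLinearGroup.rank_two_simple (by
      rw [Nat.card_eq_fintype_card]; have := C.hq5; omega)
    have hW : Q.comap C.ι = ⊥ := by
      have hnor : (Q.comap C.ι).Normal := ⟨fun w hw z => by
        show C.ι (z * w * z⁻¹) ∈ Q
        rw [map_mul, map_mul, map_inv]
        exact (Subgroup.mem_normalizer_iff.mp (hall z) _).mp hw⟩
      refine hnor.eq_bot_or_eq_top.resolve_right fun htop => ?_
      obtain ⟨g, b, c, hA, -⟩ := exists_fixed_A4 (F := C.F) C.two_ne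
      have hb : C.ι b ∈ Q := by
        have : b ∈ Q.comap C.ι := htop ▸ Subgroup.mem_top b
        exact this
      have h1 := hQodd.of_dvd_nat (Subgroup.orderOf_dvd_natCard Q hb)
      rw [orderOf_eq_prime (p := 2) (by rw [pow_two, ← map_mul, hA.bb, map_one])
        (fun e => hA.b1 (C.ι_inj (e.trans (map_one _).symm)))] at h1
      exact absurd h1 (by decide)
    have hcomm : ∀ z : PSL₂[C.F], x' * fieldAut (C.σ ^ j') z * x'⁻¹ = z := by
      intro z
      have h1 : C.ι (x' * fieldAut (C.σ ^ j') z * x'⁻¹ * z⁻¹) ∈ Q := by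
        rw [map_mul, ← conj_form, map_inv, show ∀ a b : G, a * b * a⁻¹ * b⁻¹ = a * (b * a⁻¹ * b⁻¹) from
          fun a b => by group]
        exact mul_mem hy ((Subgroup.mem_normalizer_iff.mp (hall z) _).mp (inv_mem hy))
      have h2 : x' * fieldAut (C.σ ^ j') z * x'⁻¹ * z⁻¹ ∈ Q.comap C.ι := h1
      rw [hW, Subgroup.mem_bot, mul_inv_eq_one] at h2
      exact h2
    have hx'B : x' ∈ borel C.F := by
      obtain ⟨g, rfl⟩ := QuotientGroup.mk'_surjective _ x'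
      have h := hcomm (uu 1)
      rw [fieldAut_uu, map_one] at h
      exact upper_mem_normalizer g (upper_of_normalizes g ⟨_, h.symm⟩)
    obtain ⟨he, -⟩ := trivial_of_fix_uRange hx'B fun s => hcomm (uu s)
    have hj : C.φ ^ j' = 1 := orderOf_dvd_iff_pow_eq_one.mp (C.φ_ord ▸ orderOf_dvd_of_pow_eq_one he)
    rw [hj, mul_one] at hy ⊢
    have h3 : x' ∈ Q.comap C.ι := hy
    rw [hW, Subgroup.mem_bot] at h3
    rw [h3, map_one]
  have hinv := inverts_of_fpf C.tt hn hfpf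
  have hab : ∀ a ∈ Q, ∀ b ∈ Q, a * b = b * a := by
    intro a ha b hb
    have h := hinv _ (mul_mem ha hb)
    rw [show C.t * (a * b) * C.t⁻¹ = C.t * a * C.t⁻¹ * (C.t * b * C.t⁻¹) by group, hinv a ha, hinv b hb] at h
    calc a * b = (a⁻¹ * b⁻¹)⁻¹⁻¹⁻¹ * 1 * 1 := by rw [h]; group
      _ = b * a := by group
  -- some involution of the four-group has a fixed point
  obtain ⟨gA, b, c, hA, -⟩ := exists_fixed_A4 (F := C.F) C.two_ne
  have hbc2 : b * c * (b * c) = 1 := by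
    calc b * c * (b * c) = b * (c * b) * c := by group
      _ = b * (b * c) * c := by rw [hA.comm]
      _ = (b * b) * (c * c) := by group
      _ = 1 := by rw [hA.bb, hA.cc, one_mul]
  obtain ⟨e, he2, he1, y, hy, hy1, hey⟩ : ∃ e : PSL₂[C.F], e * e = 1 ∧ e ≠ 1 ∧ ∃ y ∈ Q, y ≠ 1 ∧ Commute (C.ι e) y := by
    by_contra hno
    push Not at hno
    obtain ⟨y, hy, hy1⟩ := Q.bot_or_exists_ne_one.resolve_left hQ.ne
    have hinvE : ∀ e : PSL₂[C.F], e * e = 1 → e ≠ 1 → C.ι e * y * (C.ι e)⁻¹ = y⁻¹ := by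
      intro e he he1
      set w := C.ι e with hw
      have hww : w * w = 1 := by rw [hw, ← map_mul, he, map_one]
      set y' := w * y * w⁻¹ with hy'
      have hy'Q : y' ∈ Q := (Subgroup.mem_normalizer_iff.mp (hall e) y).mp hy
      have h1 : y * y' = 1 := by
        by_contra hne
        refine hno e he he1 _ (mul_mem hy hy'Q) hne ?_
        show w * (y * y') = y * y' * w
        rw [← mul_inv_eq_iff_eq_mul, show w * (y * y') * w⁻¹ = y' * (w * w * y * (w * w)⁻¹) by rw [hy']; group, hww,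
          one_mul, inv_one, mul_one, hab _ hy'Q _ hy]
      exact eq_inv_of_mul_eq_one_right h1
    have hbc1 : b * c ≠ 1 := fun h => hA.bc ((mul_eq_one_iff_eq_inv.mp h).trans (inv_eq_of_mul_eq_one_right hA.cc))
    have h2 := hinvE (b * c) hbc2 hbc1
    rw [map_mul, show C.ι b * C.ι c * y * (C.ι b * C.ι c)⁻¹ = C.ι b * (C.ι c * y * (C.ι c)⁻¹) * (C.ι b)⁻¹ by group,
      hinvE c hA.cc hA.c1, show C.ι b * y⁻¹ * (C.ι b)⁻¹ = (C.ι b * y * (C.ι b)⁻¹)⁻¹ by group, hinvE b hA.bb hA.b1,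
      inv_inv] at h2
    exact hy1 (UData.no_inverter.eq_one_of_odd (hQodd.of_dvd_nat (Subgroup.orderOf_dvd_natCard Q hy)) h2)
  have hord : orderOf (C.ι e) = 2 := orderOf_eq_prime (by rw [pow_two, ← map_mul, he2, map_one])
    (fun h => he1 (C.ι_inj (h.trans (map_one _).symm)))
  obtain ⟨g, hg⟩ := B.all_conj hord C.t_ord
  obtain ⟨k, hk⟩ := hQ.three ⟨y, hy⟩
  refine D.no_inverter (s := g * C.t * g⁻¹) (y := g * y * g⁻¹) (k := k) ?_ ?_ ?_ ?_ ?_ ?_ ?_
  · have h := (C.t_ι e).map (MulAut.conj g).toMonoidHom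
    simp only [MulEquiv.coe_toMonoidHom, MulAut.conj_apply] at h
    rwa [hg] at h
  · rw [show g * C.t * g⁻¹ * (g * C.t * g⁻¹) = g * (C.t * C.t) * g⁻¹ by group, C.tt]
    group
  · intro h
    exact C.ι_ne_t e (mul_left_cancel (mul_right_cancel (hg.trans h.symm)))
  · have h := hey.symm.map (MulAut.conj g).toMonoidHom
    simp only [MulEquiv.coe_toMonoidHom, MulAut.conj_apply] at h
    rwa [hg] at h
  · rw [conj_pow, show y ^ 3 ^ k = 1 from congrArg Subtype.val hk]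
    group
  · exact fun h => hy1 (conj_eq_one_iff.mp h)
  · rw [show g * C.t * g⁻¹ * (g * y * g⁻¹) * (g * C.t * g⁻¹)⁻¹ = g * (C.t * y * C.t⁻¹) * g⁻¹ by group, hinv y hy]
    group

end CfsgLib.Walter.Three
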