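import Cfsg.Agent.Lib.Walter.Three.Indep
import Cfsg.Agent.Lib.Elementary

/-!
A group of prime power order normalised by `t` and `h`: invariant subgroups and the structure in the fixed-point-free case.
-/

set_option autoImplicit false
set_option linter.unusedSectionVars false
set_option linter.style.haveILetI false

namespace CfsgLib.Walter.Three

open scoped commutatorElement

universe u v

variable {Γ : Type u} {V : Type v} [Group Γ] [Finite Γ] [AddCommGroup V] [Module (ZMod 3) V] [Finite V]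

/-- In a finite group whose commutators lie in the range, an endomorphism with full "difference" subgroup only
fixes elements of the derived group. -/
theorem mem_commutator_of_fixed {G : Type u} [Group G] [Finite G] (α : G →* G)
    (htop : Subgroup.closure (Set.range fun x => α x * x⁻¹) = ⊤) {x : G} (hx : α x * x⁻¹ ∈ commutator G) :
    x ∈ commutator G := by
  set β : Abelianization G →* Abelianization G :=
    Abelianization.map α / MonoidHom.id (Abelianization G) with hβ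
  have hβof : ∀ y : G, β (Abelianization.of y) = Abelianization.of (α y * y⁻¹) := fun y => by
    simp [hβ, Abelianization.map_of, div_eq_mul_inv]
  have hsurj : Function.Surjective β := by
    rw [← MonoidHom.range_eq_top, eq_top_iff]
    intro y _
    obtain ⟨y, rfl⟩ := QuotientGroup.mk_surjective y
    have : y ∈ (β.range).comap Abelianization.of := by
      have hle : Subgroup.closure (Set.range fun x => α x * x⁻¹) ≤ (β.range).comap Abelianization.of := by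
        rw [Subgroup.closure_le]
        rintro _ ⟨z, rfl⟩
        exact ⟨Abelianization.of z, hβof z⟩
      rw [htop] at hle
      exact hle (Subgroup.mem_top y)
    exact this
  have hinj : Function.Injective β := Finite.injective_iff_surjective.mpr hsurj
  have h0 : β (Abelianization.of x) = β 1 := by
    rw [hβof, map_one]
    exact (QuotientGroup.eq_one_iff _).mpr hx
  exact (QuotientGroup.eq_one_iff _).mp (hinj h0)

theorem mem_of_sq_mem {G : Type u} [Group G] {A : Subgroup G} {l : ℕ} (hl : Odd l) {x : G} (h2 : x * x ∈ A)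
    (hxl : x ^ l ∈ A) : x ∈ A := by
  obtain ⟨k, rfl⟩ := hl
  rw [pow_succ, pow_mul, pow_two] at hxl
  exact (Subgroup.mul_mem_cancel_left A (pow_mem h2 k)).mp hxl

theorem eq_one_of_sq {G : Type u} [Group G] {x : G} (ho : Odd (orderOf x)) (h : x * x = 1) : x = 1 := by
  have hd : orderOf x ∣ 2 := orderOf_dvd_of_pow_eq_one (by rwa [pow_two])
  rcases (Nat.dvd_prime Nat.prime_two).mp hd with h1 | h1
  · exact orderOf_eq_one_iff.mp h1
  · rw [h1] at ho
    exact absurd ho (by decide)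

namespace Ctx

variable (D : Ctx Γ V)

/-- Stability under the conjugations by `t` and `h`. -/
def Inv (S : Subgroup Γ) : Prop := ∀ s ∈ S, D.t * s * D.t⁻¹ ∈ S ∧ D.h * s * D.h⁻¹ ∈ S

theorem inv_closure {s : Set Γ} (h : ∀ x ∈ s, D.t * x * D.t⁻¹ ∈ Subgroup.closure s ∧
    D.h * x * D.h⁻¹ ∈ Subgroup.closure s) : D.Inv (Subgroup.closure s) := by
  intro x hx
  have key : ∀ g : Γ, (∀ y ∈ s, g * y * g⁻¹ ∈ Subgroup.closure s) → g * x * g⁻¹ ∈ Subgroup.closure s := by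
    intro g hg
    induction hx using Subgroup.closure_induction with
    | mem y hy => exact hg y hy
    | one => simp
    | mul a b _ _ ha hb =>
      rw [show g * (a * b) * g⁻¹ = g * a * g⁻¹ * (g * b * g⁻¹) by group]
      exact mul_mem ha hb
    | inv a _ ha =>
      rw [show g * a⁻¹ * g⁻¹ = (g * a * g⁻¹)⁻¹ by group]
      exact inv_mem ha
  exact ⟨key _ fun y hy => (h y hy).1, key _ fun y hy => (h y hy).2⟩

theorem inv_sup {A B : Subgroup Γ} (hA : D.Inv A) (hB : D.Inv B) : D.Inv (A ⊔ B) := by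
  rw [← Subgroup.closure_eq A, ← Subgroup.closure_eq B, ← Subgroup.closure_union]
  refine D.inv_closure ?_
  rintro x (hx | hx)
  · exact ⟨Subgroup.subset_closure (Or.inl (hA x hx).1), Subgroup.subset_closure (Or.inl (hA x hx).2)⟩
  · exact ⟨Subgroup.subset_closure (Or.inr (hB x hx).1), Subgroup.subset_closure (Or.inr (hB x hx).2)⟩

theorem conj_h_comm (x : Γ) :
    D.t * (D.h * x * D.h⁻¹) * D.t⁻¹ = D.h * (D.t * x * D.t⁻¹) * D.h⁻¹ := by
  rw [show D.t * (D.h * x * D.h⁻¹) * D.t⁻¹ = (D.t * D.h) * x * (D.t * D.h)⁻¹ by group, D.h_comm]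
  group

/-- The subgroup generated by commutators and `l`-th powers. -/
def lowSub (Q : Subgroup Γ) (l : ℕ) : Subgroup Γ :=
  Subgroup.closure {x | (∃ a ∈ Q, ∃ b ∈ Q, a * b * a⁻¹ * b⁻¹ = x) ∨ ∃ a ∈ Q, a ^ l = x}

theorem inv_lowSub {Q : Subgroup Γ} (hQ : D.Inv Q) (l : ℕ) : D.Inv (lowSub Q l) := by
  refine D.inv_closure ?_
  have key : ∀ g : Γ, (∀ y ∈ Q, g * y * g⁻¹ ∈ Q) →
      ∀ x, ((∃ a ∈ Q, ∃ b ∈ Q, a * b * a⁻¹ * b⁻¹ = x) ∨ ∃ a ∈ Q, a ^ l = x) → g * x * g⁻¹ ∈ lowSub Q l := by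
    rintro g hg x (⟨a, ha, b, hb, rfl⟩ | ⟨a, ha, rfl⟩)
    · exact Subgroup.subset_closure (Or.inl ⟨_, hg a ha, _, hg b hb, by group⟩)
    · exact Subgroup.subset_closure (Or.inr ⟨_, hg a ha, conj_pow⟩)
  exact fun x hx => ⟨key _ (fun y hy => (hQ y hy).1) x hx, key _ (fun y hy => (hQ y hy).2) x hx⟩

theorem lowSub_lt {Q : Subgroup Γ} {l : ℕ} [Fact l.Prime] (hl : IsPGroup l Q) (hne : Q ≠ ⊥) : lowSub Q l < Q := by
  haveI : Nontrivial Q := (Subgroup.nontrivial_iff_ne_bot Q).mpr hne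
  have hlt : (frattini Q).map Q.subtype < Q := by
    obtain ⟨M, hM, -⟩ := (eq_top_or_exists_le_coatom (⊥ : Subgroup Q)).resolve_left bot_ne_top
    have hle : frattini Q ≤ M := iInf₂_le M hM
    refine lt_of_le_of_ne (Subgroup.map_subtype_le _) fun h => hM.1 (top_le_iff.mp ?_)
    refine le_trans (le_of_eq ?_) hle
    refine (Subgroup.map_injective Q.subtype_injective ?_).symm
    rw [h, ← MonoidHom.range_eq_map, Subgroup.range_subtype]
  refine lt_of_le_of_lt ?_ hlt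
  rw [lowSub, Subgroup.closure_le]
  rintro x (⟨a, ha, b, hb, rfl⟩ | ⟨a, ha, rfl⟩)
  · exact ⟨⁅(⟨a, ha⟩ : Q), (⟨b, hb⟩ : Q)⁆, CfsgLib.commutator_le_frattini_pGroup hl
      (Subgroup.commutator_mem_commutator (Subgroup.mem_top _) (Subgroup.mem_top _)), rfl⟩
  · exact ⟨(⟨a, ha⟩ : Q) ^ l, CfsgLib.pow_mem_frattini_pGroup hl _, rfl⟩

/-- The non-abelian configuration in which `h` acts without fixed points modulo the centre. -/
structure Bad (Q A : Subgroup Γ) (l : ℕ) : Prop where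
  prime : l.Prime
  five : 5 ≤ l
  le : Q ≤ D.X
  sub : A ≤ Q
  invQ : D.Inv Q
  invA : D.Inv A
  low : lowSub Q l ≤ A
  cent : ∀ a ∈ A, ∀ q ∈ Q, a * q = q * a
  center : ∀ x ∈ Q, (∀ q ∈ Q, x * q = q * x) → x ∈ A
  comm_h : ∀ a ∈ A, D.h * a = a * D.h
  gen : Subgroup.closure {x | ∃ q ∈ Q, D.h * q * D.h⁻¹ * q⁻¹ = x} = Q
  ne : ¬ Q ≤ A

variable {D} {Q A : Subgroup Γ} {l : ℕ}

theorem Bad.comm_mem (B : D.Bad Q A l) {a b : Γ} (ha : a ∈ Q) (hb : b ∈ Q) : a * b * a⁻¹ * b⁻¹ ∈ A :=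
  B.low (Subgroup.subset_closure (Or.inl ⟨a, ha, b, hb, rfl⟩))

theorem Bad.pow_mem (B : D.Bad Q A l) {a : Γ} (ha : a ∈ Q) : a ^ l ∈ A :=
  B.low (Subgroup.subset_closure (Or.inr ⟨a, ha, rfl⟩))

/-- Elements moved by `h` only inside the derived group lie in it. -/
theorem Bad.fpf (B : D.Bad Q A l) {x : Γ} (hx : x ∈ Q) (hd : D.h * x * D.h⁻¹ * x⁻¹ ∈ ⁅Q, Q⁆) : x ∈ ⁅Q, Q⁆ := by
  let α : Q →* Q :=
    { toFun := fun q => ⟨D.h * q * D.h⁻¹, (B.invQ q q.2).2⟩
      map_one' := Subtype.ext (by simp)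
      map_mul' := fun a b => Subtype.ext (by
        show D.h * (a * b : Γ) * D.h⁻¹ = D.h * a * D.h⁻¹ * (D.h * b * D.h⁻¹)
        group) }
  have htop : Subgroup.closure (Set.range fun q : Q => α q * q⁻¹) = ⊤ := by
    refine Subgroup.map_injective Q.subtype_injective ?_
    rw [MonoidHom.map_closure, ← MonoidHom.range_eq_map, Subgroup.range_subtype, ← Set.range_comp]
    conv_rhs => rw [← B.gen]
    congr 1
    ext y
    exact ⟨fun ⟨q, h⟩ => ⟨q, q.2, h⟩, fun ⟨q, hq, h⟩ => ⟨⟨q, hq⟩, h⟩⟩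
  rw [← Subgroup.map_subtype_commutator Q] at hd ⊢
  obtain ⟨d, hd1, hd2⟩ := hd
  refine ⟨⟨x, hx⟩, mem_commutator_of_fixed α htop ?_, rfl⟩
  rwa [show α ⟨x, hx⟩ * (⟨x, hx⟩ : Q)⁻¹ = d from Subtype.ext hd2.symm]

theorem Bad.derived_eq (B : D.Bad Q A l) : A = ⁅Q, Q⁆ := by
  refine le_antisymm (fun a ha => B.fpf (B.sub ha) ?_)
    (Subgroup.commutator_le.mpr fun a ha b hb => B.comm_mem ha hb)
  rw [B.comm_h a ha, mul_inv_cancel_right, mul_inv_cancel]
  exact one_mem _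

theorem Bad.eq_of_h_fixed (B : D.Bad Q A l) {x : Γ} (hx : x ∈ Q) (hd : D.h * x * D.h⁻¹ * x⁻¹ ∈ A) : x ∈ A := by
  rw [B.derived_eq] at hd ⊢
  exact B.fpf hx hd

/-- The involution fixes only elements of `A`. -/
theorem Bad.fixed_mem (B : D.Bad Q A l) {x : Γ} (hx : x ∈ Q) (ht : D.t * x * D.t⁻¹ = x) : x ∈ A := by
  have hxt : x * D.t = D.t * x := by
    conv_lhs => rw [← ht]
    rw [inv_mul_cancel_right]
  refine B.eq_of_h_fixed hx ?_
  set d := D.h * x * D.h⁻¹ * x⁻¹ with hd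
  have hdQ : d ∈ Q := mul_mem (B.invQ x hx).2 (inv_mem hx)
  refine B.eq_of_h_fixed hdQ ?_
  obtain ⟨k, hk⟩ := Subgroup.mem_zpowers_iff.mp (D.cent x (B.le hx) hxt)
  have hdz : D.h * d = d * D.h := by
    have hc : Commute D.h (x * D.h * x⁻¹) := hk ▸ (Commute.refl D.h).zpow_right k
    have : d = D.h * (x * D.h * x⁻¹)⁻¹ := by rw [hd]; group
    rw [this]
    exact ((Commute.refl D.h).mul_right hc.inv_right).eq
  rw [hdz, mul_inv_cancel_right, mul_inv_cancel]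
  exact one_mem _

/-- The involution inverts modulo `A`. -/
theorem Bad.inverts (B : D.Bad Q A l) {y : Γ} (hy : y ∈ Q) : D.t * y * D.t⁻¹ * y ∈ A := by
  set s := D.t * y * D.t⁻¹ with hs
  have hsQ : s ∈ Q := (B.invQ y hy).1
  set a := (s * y)⁻¹ * (D.t * (s * y) * D.t⁻¹) with ha
  have haA : a ∈ A := by
    have e : D.t * (s * y) * D.t⁻¹ = y * s := by
      rw [hs, t_inv, show D.t * (D.t * y * D.t * y) * D.t = (D.t * D.t) * y * (D.t * y * D.t) by group, D.t_sq,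
        one_mul]
    have h := B.comm_mem (inv_mem hy) (inv_mem hsQ)
    rwa [inv_inv, inv_inv, show y⁻¹ * s⁻¹ * y * s = a by rw [ha, e]; group] at h
  have hta : D.t * a * D.t⁻¹ = a⁻¹ := by
    rw [ha, t_inv]
    simp only [mul_inv_rev, t_inv, inv_inv, mul_assoc]
    simp [← mul_assoc D.t D.t, D.t_sq]
  have hao : Odd (orderOf a) := D.odd.of_dvd_nat (Subgroup.orderOf_dvd_natCard D.X (B.le (B.sub haA)))
  obtain ⟨k, hk⟩ := hao
  set b := a ^ (k + 1) with hb
  have hbb : b * b = a := by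
    rw [hb, ← pow_add, show k + 1 + (k + 1) = orderOf a + 1 by omega, pow_succ, pow_orderOf_eq_one, one_mul]
  have hbA : b ∈ A := _root_.pow_mem haA _
  have hfix : D.t * (s * y * b) * D.t⁻¹ = s * y * b := by
    have htb : D.t * b * D.t⁻¹ = b⁻¹ := by rw [hb, ← conj_pow, hta, inv_pow]
    rw [show D.t * (s * y * b) * D.t⁻¹ = D.t * (s * y) * D.t⁻¹ * (D.t * b * D.t⁻¹) by group, htb,
      show D.t * (s * y) * D.t⁻¹ = s * y * a by rw [ha]; group, ← hbb]
    group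
  exact (Subgroup.mul_mem_cancel_right A hbA).mp (B.fixed_mem (mul_mem (mul_mem hsQ hy) (B.sub hbA)) hfix)

/-- Commutators are fixed by the involution and have order dividing `l`. -/
theorem Bad.center_props (B : D.Bad Q A l) {a : Γ} (ha : a ∈ A) : a ^ l = 1 ∧ D.t * a * D.t⁻¹ = a := by
  rw [B.derived_eq, Subgroup.commutator_def] at ha
  have key : ∀ g ∈ {g : Γ | ∃ g₁ ∈ Q, ∃ g₂ ∈ Q, ⁅g₁, g₂⁆ = g}, g ∈ A ∧ g ^ l = 1 ∧ D.t * g * D.t⁻¹ = g := by
    rintro _ ⟨y, hy, x, hx, rfl⟩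
    rw [commutatorElement_def]
    set e := y * x * y⁻¹ * x⁻¹ with he
    have heA : e ∈ A := B.comm_mem hy hx
    have hyx : y * x * y⁻¹ = e * x := by rw [he]; group
    refine ⟨heA, ?_, ?_⟩
    · have h := conj_pow_eq hyx (B.cent e heA y hy) l
      rw [← B.cent _ (B.pow_mem hy) x hx |>.symm, mul_inv_cancel_right] at h
      exact mul_eq_right.mp h.symm
    · obtain ⟨a1, ha1, e1⟩ : ∃ a1 ∈ A, D.t * y * D.t⁻¹ = a1 * y⁻¹ :=
        ⟨_, B.inverts hy, by group⟩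
      obtain ⟨a2, ha2, e2⟩ : ∃ a2 ∈ A, D.t * x * D.t⁻¹ = a2 * x⁻¹ :=
        ⟨_, B.inverts hx, by group⟩
      rw [he, show D.t * (y * x * y⁻¹ * x⁻¹) * D.t⁻¹ = D.t * y * D.t⁻¹ * (D.t * x * D.t⁻¹) * (D.t * y * D.t⁻¹)⁻¹ *
        (D.t * x * D.t⁻¹)⁻¹ by group, e1, e2]
      have hc1 : ∀ q ∈ Q, Commute a1 q := fun q hq => B.cent a1 ha1 q hq
      have hc2 : ∀ q ∈ Q, Commute a2 q := fun q hq => B.cent a2 ha2 q hq
      have h3 : y⁻¹ * x⁻¹ * y * x = e := by
        have hcy : Commute e (x * y) := B.cent e heA _ (mul_mem hx hy)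
        have h4 : y * x = x * y * e := by
          rw [← hcy.eq, ← mul_assoc, ← hyx, inv_mul_cancel_right]
        rw [show y⁻¹ * x⁻¹ * y * x = (x * y)⁻¹ * (y * x) by group, h4, inv_mul_cancel_left]
      conv_rhs => rw [← he, ← h3]
      calc a1 * y⁻¹ * (a2 * x⁻¹) * (a1 * y⁻¹)⁻¹ * (a2 * x⁻¹)⁻¹
          = a1 * (y⁻¹ * a2) * x⁻¹ * y * a1⁻¹ * x * a2⁻¹ := by group
        _ = a1 * a2 * (y⁻¹ * x⁻¹ * y * (a1⁻¹ * x)) * a2⁻¹ := by
            rw [← (hc2 _ (inv_mem hy)).eq]; group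
        _ = a1 * (a2 * (y⁻¹ * x⁻¹ * y * x)) * a1⁻¹ * a2⁻¹ := by
            rw [(hc1 x hx).inv_left.eq]; group
        _ = y⁻¹ * x⁻¹ * y * x := by
            rw [h3, (hc2 e (B.sub heA)).eq, ← mul_assoc, (hc1 e (B.sub heA)).eq,
              mul_assoc e a1 a2, (hc1 a2 (B.sub ha2)).eq]
            group
  have : a ∈ A ∧ a ^ l = 1 ∧ D.t * a * D.t⁻¹ = a := by
    induction ha using Subgroup.closure_induction with
    | mem g hg => exact key g hg
    | one => exact ⟨one_mem _, one_pow _, by group⟩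
    | mul g1 g2 _ _ h1 h2 =>
      refine ⟨mul_mem h1.1 h2.1, ?_, ?_⟩
      · rw [(show Commute g1 g2 from B.cent g1 h1.1 g2 (B.sub h2.1)).mul_pow, h1.2.1, h2.2.1, one_mul]
      · rw [show D.t * (g1 * g2) * D.t⁻¹ = D.t * g1 * D.t⁻¹ * (D.t * g2 * D.t⁻¹) by group, h1.2.2, h2.2.2]
    | inv g1 _ h1 =>
      refine ⟨inv_mem h1.1, by rw [inv_pow, h1.2.1, inv_one], ?_⟩
      rw [show D.t * g1⁻¹ * D.t⁻¹ = (D.t * g1 * D.t⁻¹)⁻¹ by group, h1.2.2]
  exact this.2

end Ctx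

end CfsgLib.Walter.Three
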