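import Cfsg.Agent.Lib.Walter.Three.Pair

/-!
Sums over the powers of an element of prime order, as operators.
-/

set_option autoImplicit false
set_option linter.unusedSectionVars false
set_option linter.style.haveILetI false

namespace CfsgLib.Walter.Three

universe u v

variable {Γ : Type u} {V : Type v} [Group Γ] [Finite Γ] [AddCommGroup V] [Module (ZMod 3) V] [Finite V]

namespace Ctx

variable (D : Ctx Γ V) {l : ℕ}

/-- The sum of the first `l` powers. -/
noncomputable def geom (l : ℕ) (e : Γ) : Module.End (ZMod 3) V := ∑ k ∈ Finset.range l, D.ρ (e ^ k)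

theorem geom_apply (e : Γ) (v : V) : D.geom l e v = ∑ k ∈ Finset.range l, D.ρ (e ^ k) v := by
  simp [geom, LinearMap.sum_apply]

theorem geom_commute {x e : Γ} (h : Commute x e) : Commute (D.ρ x) (D.geom l e) :=
  Commute.sum_right _ _ _ fun k _ => (h.pow_right k).map D.ρ

theorem geom_of_fixed {e : Γ} {v : V} (h : D.ρ e v = v) : D.geom l e v = (l : ZMod 3) • v := by
  have hk : ∀ k : ℕ, D.ρ (e ^ k) v = v := by
    intro k
    induction k with
    | zero => simp
    | succ k ih => rw [pow_succ, ← ρ_mul, h, ih]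
  rw [geom_apply, Finset.sum_congr rfl fun k _ => hk k, Finset.sum_const, Finset.card_range, Nat.cast_smul_eq_nsmul]

theorem fixed_geom {e : Γ} (he : e ^ l = 1) (v : V) : D.ρ e (D.geom l e v) = D.geom l e v := by
  rw [geom_apply, map_sum]
  simp only [ρ_mul, ← pow_succ']
  have h1 := Finset.sum_range_succ (fun k => D.ρ (e ^ k) v) l
  have h2 := Finset.sum_range_succ' (fun k => D.ρ (e ^ k) v) l
  simp only [he, pow_zero] at h1 h2
  exact add_right_cancel (h2.symm.trans h1)

variable (l)

theorem cast_ne_zero (hl : l.Prime) (h5 : 5 ≤ l) : (l : ZMod 3) ≠ 0 := fun h => by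
  have := (Nat.prime_dvd_prime_iff_eq Nat.prime_three hl).mp ((ZMod.natCast_eq_zero_iff _ _).mp h)
  omega

variable {l}

/-- A fixed vector annihilated by the sum is zero. -/
theorem zero_of_fixed (hl : l.Prime) (h5 : 5 ≤ l) {e : Γ} {v : V} (h : D.ρ e v = v) (h0 : D.geom l e v = 0) :
    v = 0 :=
  (smul_eq_zero.mp ((D.geom_of_fixed h).symm.trans h0)).resolve_left (cast_ne_zero l hl h5)

/-- A non-trivial power moves every non-zero vector annihilated by the sum. -/
theorem zero_of_pow_fixed (hl : l.Prime) (h5 : 5 ≤ l) {c : Γ} (hc : c ^ l = 1) {k : ℕ} (hk : ¬ l ∣ k) {v : V}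
    (h : D.ρ (c ^ k) v = v) (h0 : D.geom l c v = 0) : v = 0 := by
  obtain ⟨j, -, hj⟩ := Nat.exists_mul_mod_eq_one_of_coprime ((Nat.Prime.coprime_iff_not_dvd hl).mpr hk).symm hl.one_lt
  refine D.zero_of_fixed hl h5 ?_ h0
  have hkj : c ^ (k * j) = c := by
    conv_lhs => rw [← Nat.div_add_mod (k * j) l, hj, pow_succ, pow_mul, hc, one_pow, one_mul]
  have hfix : ∀ i : ℕ, D.ρ ((c ^ k) ^ i) v = v := by
    intro i
    induction i with
    | zero => simp
    | succ i ih => rw [pow_succ, ← ρ_mul, h, ih]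
  have := hfix j
  rwa [← pow_mul, hkj] at this

theorem geom_pow_zero (hl : l.Prime) (h5 : 5 ≤ l) {c : Γ} (hc : c ^ l = 1) {k : ℕ} (hk : ¬ l ∣ k) {v : V}
    (h0 : D.geom l c v = 0) : D.geom l (c ^ k) v = 0 := by
  refine D.zero_of_pow_fixed hl h5 hc hk (D.fixed_geom (by rw [← pow_mul, mul_comm, pow_mul, hc, one_pow]) v) ?_
  have h : Commute (D.geom l c) (D.geom l (c ^ k)) :=
    Commute.sum_left _ _ _ fun i _ => D.geom_commute ((Commute.pow_pow_self c i k))
  rw [← Module.End.mul_apply, h.eq, Module.End.mul_apply, h0, map_zero]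

/-- In an elementary group of rank two some member of a coset fixes a vector. -/
theorem exists_geom_ne (hl : l.Prime) (h5 : 5 ≤ l) {c e : Γ} (hc : c ^ l = 1) (hce : Commute c e) {v : V}
    (hv : v ≠ 0) (h0 : D.geom l c v = 0) : ∃ i < l, D.geom l (c ^ i * e) v ≠ 0 := by
  by_contra hno
  push Not at hno
  refine hv ((smul_eq_zero.mp ?_).resolve_left (cast_ne_zero l hl h5))
  have hsum : ∑ i ∈ Finset.range l, D.geom l (c ^ i * e) v = 0 :=
    Finset.sum_eq_zero fun i hi => hno i (Finset.mem_range.mp hi)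
  rw [Finset.sum_congr rfl fun i _ => D.geom_apply (c ^ i * e) v, Finset.sum_comm] at hsum
  rw [Finset.sum_eq_single 0] at hsum
  · rw [Finset.sum_congr rfl fun i _ => by rw [pow_zero, map_one, Module.End.one_apply], Finset.sum_const,
      Finset.card_range] at hsum
    rwa [Nat.cast_smul_eq_nsmul]
  · intro k hk hk0
    have hnd : ¬ l ∣ k := fun h => by
      have := Nat.le_of_dvd (Nat.pos_of_ne_zero hk0) h
      have := Finset.mem_range.mp hk
      omega
    rw [Finset.sum_congr rfl fun i _ => show D.ρ ((c ^ i * e) ^ k) v = D.ρ (e ^ k) (D.ρ ((c ^ k) ^ i) v) by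
      rw [(hce.pow_left i).mul_pow, ρ_mul, ← pow_mul, ← pow_mul, mul_comm i k, (hce.pow_pow (k * i) k).eq],
      ← map_sum, ← geom_apply, D.geom_pow_zero hl h5 hc hnd h0, map_zero]
  · intro h
    exact absurd (Finset.mem_range.mpr hl.pos) h

end Ctx

end CfsgLib.Walter.Three
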