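import Cfsg.Agent.Lib.Walter.Three.Extra

/-!
Operators moved by a central element with different weights are independent.
-/

set_option autoImplicit false
set_option linter.unusedSectionVars false
set_option linter.style.haveILetI false

namespace CfsgLib.Walter.Three

universe u v w

variable {Γ : Type u} {V : Type v} [Group Γ] [Finite Γ] [AddCommGroup V] [Module (ZMod 3) V] [Finite V]

namespace Ctx

variable (D : Ctx Γ V) {l : ℕ}

theorem card_le_sq (hl : l.Prime) (h5 : 5 ≤ l) {W : Submodule (ZMod 3) V} {c : Γ} (hcl : c ^ l = 1)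
    (hW : W = LinearMap.ker (D.geom l c)) (hne : W ≠ ⊥) {ι : Type w} [Finite ι] (r : ι → Γ)
    (hr : ∀ i, Commute c (r i))
    (hsep : ∀ j k : ι, j ≠ k → ∃ (y : Γ) (K : ι → ℕ), Commute c y ∧
      (∀ i, y * r i * y⁻¹ = c ^ K i * r i) ∧ c ^ K j ≠ c ^ K k) :
    Nat.card ι ≤ Module.finrank (ZMod 3) W * Module.finrank (ZMod 3) W := by
  classical
  subst hW
  set W := LinearMap.ker (D.geom l c) with hW
  haveI := Fintype.ofFinite ι
  have hmap : ∀ x : Γ, Commute c x → ∀ v ∈ W, D.ρ x v ∈ W := fun x hx v hv => by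
    rw [hW, LinearMap.mem_ker, ← Module.End.mul_apply, ← (D.geom_commute hx.symm).eq, Module.End.mul_apply,
      LinearMap.mem_ker.mp hv, map_zero]
  obtain ⟨v0, hv0, hv00⟩ := Submodule.exists_mem_ne_zero_of_ne_bot hne
  have indep : ∀ (s : Finset ι) (g : ι → ZMod 3), (∀ v ∈ W, ∑ i ∈ s, g i • D.ρ (r i) v = 0) →
      ∀ i ∈ s, g i = 0 := by
    intro s
    induction s using Finset.strongInduction with
    | _ s ih =>
    intro g hg j hj
    by_cases hsub : ∀ k ∈ s, k = j
    · have h := hg v0 hv0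
      rw [Finset.sum_eq_single j (fun k hk hkj => absurd (hsub k hk) hkj) (fun h => absurd hj h)] at h
      refine (smul_eq_zero.mp h).resolve_right fun e => hv00 ?_
      have := congrArg (D.ρ (r j)⁻¹) e
      rwa [ρ_inv_apply, map_zero] at this
    push Not at hsub
    obtain ⟨k, hk, hkj⟩ := hsub
    obtain ⟨y, K, hy, hK, hjk⟩ := hsep j k (Ne.symm hkj)
    set M : ι → ℕ := fun i => (l - 1) * K j + K i with hM
    have hMj : l ∣ M j := ⟨K j, by
      show (l - 1) * K j + K j = l * K j
      rw [← Nat.succ_mul, Nat.succ_eq_add_one, Nat.sub_add_cancel hl.one_lt.le]⟩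
    have hMk : ¬ l ∣ M k := fun ⟨q, hq⟩ => hjk (by
      have h1 : c ^ M k = 1 := by rw [hq, pow_mul, hcl, one_pow]
      calc c ^ K j = c ^ K j * c ^ M k := by rw [h1, mul_one]
        _ = c ^ (l * K j + K k) := by
          rw [← pow_add]
          congr 1
          show K j + ((l - 1) * K j + K k) = _
          rw [← add_assoc, add_comm (K j), ← Nat.succ_mul, Nat.succ_eq_add_one, Nat.sub_add_cancel hl.one_lt.le]
        _ = c ^ K k := by rw [pow_add, pow_mul, hcl, one_pow, one_mul])
    have hn : ∀ n : ℕ, ∀ v ∈ W, ∑ i ∈ s, g i • D.ρ ((c ^ M i) ^ n) (D.ρ (r i) v) = 0 := by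
      intro n v hv
      have h := congrArg (D.ρ (c ^ ((l - 1) * K j * n) * y ^ n))
        (hg _ (hmap (y ^ n)⁻¹ (hy.pow_right n).inv_right v hv))
      rw [map_sum, map_zero] at h
      rw [← h]
      refine Finset.sum_congr rfl fun i _ => ?_
      rw [map_smul, ρ_mul, ρ_mul, ρ_mul, ← pow_mul,
        show (c ^ ((l - 1) * K j * n) * y ^ n) * r i * (y ^ n)⁻¹ =
          c ^ ((l - 1) * K j * n) * (y ^ n * r i * (y ^ n)⁻¹) by group,
        conj_pow_eq (hK i) (hy.pow_left (K i)) n, ← pow_mul, ← mul_assoc, ← pow_add]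
      congr 5
      ring
    have hsum : ∀ v ∈ W, ∑ i ∈ s.filter (fun i => l ∣ M i), (g i * (l : ZMod 3)) • D.ρ (r i) v = 0 := by
      intro v hv
      have h : ∑ i ∈ s, g i • D.geom l (c ^ M i) (D.ρ (r i) v) = 0 := by
        rw [Finset.sum_congr rfl fun i _ => by rw [geom_apply, Finset.smul_sum], Finset.sum_comm]
        exact Finset.sum_eq_zero fun n _ => hn n v hv
      rw [← h, Finset.sum_filter]
      refine Finset.sum_congr rfl fun i _ => ?_
      split_ifs with hd
      · obtain ⟨q, hq⟩ := hd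
        rw [D.geom_of_fixed (by rw [hq, pow_mul, hcl, one_pow, map_one, Module.End.one_apply]), smul_smul]
      · rw [D.geom_pow_zero hl h5 hcl hd (LinearMap.mem_ker.mp (hmap _ (hr i) v hv)), smul_zero]
    have hlt : s.filter (fun i => l ∣ M i) ⊂ s :=
      Finset.filter_ssubset.mpr ⟨k, hk, hMk⟩
    have h := ih _ hlt _ hsum j (Finset.mem_filter.mpr ⟨hj, hMj⟩)
    exact (mul_eq_zero.mp h).resolve_right (cast_ne_zero l hl h5)
  let f : ι → Module.End (ZMod 3) W := fun i => (D.ρ (r i)).restrict (hmap _ (hr i))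
  have hli : LinearIndependent (ZMod 3) f := by
    refine Fintype.linearIndependent_iff.mpr fun g hg i => indep Finset.univ g (fun v hv => ?_) i (Finset.mem_univ i)
    have := congrArg (fun F : Module.End (ZMod 3) W => ((F ⟨v, hv⟩ : W) : V)) hg
    simpa [f, LinearMap.sum_apply, LinearMap.restrict_apply] using this
  have h := hli.fintype_card_le_finrank
  rw [Module.finrank_linearMap] at h
  rwa [Nat.card_eq_fintype_card]

end Ctx

end CfsgLib.Walter.Three
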