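import Cfsg.Agent.Lib.Walter.Three.Arith

/-!
An operator without invariant subspaces over the field with three elements.
-/

set_option autoImplicit false
set_option linter.unusedSectionVars false
set_option linter.style.haveILetI false

namespace CfsgLib.Walter.Three

open Polynomial

universe u v

variable {U : Type u} [AddCommGroup U] [Module (ZMod 3) U]

/-- No proper non-zero invariant subspace. -/
def IsIrr (T : Module.End (ZMod 3) U) : Prop :=
  ∀ W : Submodule (ZMod 3) U, (∀ w ∈ W, T w ∈ W) → W = ⊥ ∨ W = ⊤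

/-- Evaluation of the polynomials in `T` at a vector. -/
noncomputable def orbitMap (T : Module.End (ZMod 3) U) (u : U) : Polynomial (ZMod 3) →ₗ[ZMod 3] U :=
  (LinearMap.applyₗ u).comp (aeval (R := ZMod 3) T).toLinearMap

theorem orbitMap_apply (T : Module.End (ZMod 3) U) (u : U) (P : Polynomial (ZMod 3)) :
    orbitMap T u P = aeval T P u := rfl

theorem orbitMap_inv (T : Module.End (ZMod 3) U) (u : U) :
    ∀ w ∈ LinearMap.range (orbitMap T u), T w ∈ LinearMap.range (orbitMap T u) := by
  rintro _ ⟨P, rfl⟩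
  exact ⟨X * P, by rw [orbitMap_apply, map_mul, aeval_X]; rfl⟩

variable {T : Module.End (ZMod 3) U} (hT : IsIrr T)
include hT

theorem IsIrr.surj {u : U} (hu : u ≠ 0) : LinearMap.range (orbitMap T u) = ⊤ := by
  refine (hT _ (orbitMap_inv T u)).resolve_left fun h => hu ?_
  have h1 : u ∈ LinearMap.range (orbitMap T u) := ⟨1, by rw [orbitMap_apply, map_one]; rfl⟩
  rw [h] at h1
  exact (Submodule.mem_bot _).mp h1

theorem IsIrr.reach {u : U} (hu : u ≠ 0) (v : U) : ∃ P : Polynomial (ZMod 3), aeval T P u = v :=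
  LinearMap.range_eq_top.mp (hT.surj hu) v

theorem IsIrr.poly_of_commute {C : Module.End (ZMod 3) U} (hC : Commute C T) :
    ∃ P : Polynomial (ZMod 3), C = aeval T P := by
  by_cases hU : ∀ u : U, u = 0
  · exact ⟨0, LinearMap.ext fun u => by rw [hU u, map_zero, map_zero]⟩
  push Not at hU
  obtain ⟨u, hu⟩ := hU
  obtain ⟨P, hP⟩ := hT.reach hu (C u)
  refine ⟨P, LinearMap.ext fun v => ?_⟩
  obtain ⟨Q, rfl⟩ := hT.reach hu v
  have h1 : C * aeval T Q = aeval T Q * C :=
    Algebra.commute_of_mem_adjoin_singleton_of_commute (aeval_mem_adjoin_singleton _ _) hC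
  calc C (aeval T Q u) = aeval T Q (C u) := DFunLike.congr_fun h1 u
    _ = aeval T Q (aeval T P u) := by rw [hP]
    _ = aeval T P (aeval T Q u) := by
      rw [← Module.End.mul_apply, ← Module.End.mul_apply, ← map_mul, ← map_mul, mul_comm]

theorem IsIrr.eq_zero_of_apply {u : U} (hu : u ≠ 0) {P : Polynomial (ZMod 3)} (h : aeval T P u = 0) :
    aeval T P = 0 := by
  refine LinearMap.ext fun v => ?_
  obtain ⟨Q, rfl⟩ := hT.reach hu v
  rw [← Module.End.mul_apply, ← map_mul, mul_comm, map_mul, Module.End.mul_apply, h, map_zero, LinearMap.zero_apply]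

theorem IsIrr.injective {P : Polynomial (ZMod 3)} (h : aeval T P ≠ 0) {v : U} (hv : v ≠ 0) :
    aeval T P v ≠ 0 := fun h' => h (hT.eq_zero_of_apply hv h')

theorem IsIrr.exists_inverse {P : Polynomial (ZMod 3)} (h : aeval T P ≠ 0) :
    ∃ Q : Polynomial (ZMod 3), aeval T (Q * P - 1) = 0 := by
  obtain ⟨u, hu⟩ : ∃ u : U, u ≠ 0 := by
    by_contra hh
    push Not at hh
    exact h (LinearMap.ext fun u => by rw [hh u, map_zero, map_zero])
  obtain ⟨Q, hQ⟩ := hT.reach (hT.injective h hu) u
  refine ⟨Q, hT.eq_zero_of_apply hu ?_⟩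
  rw [map_sub, map_mul, map_one, LinearMap.sub_apply, Module.End.mul_apply, Module.End.one_apply, hQ, sub_self]

/-- A subspace on which a second operator satisfies the relations of `T` has at least the same dimension. -/
theorem IsIrr.finrank_le {V : Type v} [AddCommGroup V] [Module (ZMod 3) V] [Finite U] [Finite V]
    (T' : Module.End (ZMod 3) V)
    (W : Submodule (ZMod 3) V) (hW : ∀ w ∈ W, T' w ∈ W) (hne : W ≠ ⊥)
    (hrel : ∀ P : Polynomial (ZMod 3), aeval T P = 0 → ∀ w ∈ W, aeval T' P w = 0) :
    Module.finrank (ZMod 3) U ≤ Module.finrank (ZMod 3) W := by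
  by_cases hU : ∀ u : U, u = 0
  · haveI : Subsingleton U := ⟨fun x y => by rw [hU x, hU y]⟩
    rw [Module.finrank_zero_of_subsingleton]
    exact Nat.zero_le _
  push Not at hU
  obtain ⟨u, hu⟩ := hU
  obtain ⟨w, hw, hw0⟩ := Submodule.exists_mem_ne_zero_of_ne_bot hne
  let f : Polynomial (ZMod 3) →ₗ[ZMod 3] V := (LinearMap.applyₗ w).comp (aeval (R := ZMod 3) T').toLinearMap
  have hfW : ∀ P, f P ∈ W := by
    intro P
    show aeval T' P w ∈ W
    induction P using Polynomial.induction_on' with
    | add p q hp hq => rw [map_add]; exact W.add_mem hp hq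
    | monomial n c =>
      rw [aeval_monomial, Module.algebraMap_end_eq_smul_id, smul_mul_assoc, LinearMap.smul_apply]
      refine W.smul_mem c ?_
      induction n with
      | zero => simpa using hw
      | succ n ih => rw [pow_succ']; exact hW _ ih
  have hker : LinearMap.ker f = LinearMap.ker (orbitMap T u) := by
    ext P
    simp only [LinearMap.mem_ker]
    show aeval T' P w = 0 ↔ aeval T P u = 0
    constructor
    · intro h
      by_contra hne'
      obtain ⟨Q, hQ⟩ := hT.exists_inverse (fun e => hne' (by rw [e, LinearMap.zero_apply]))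
      have := hrel _ hQ w hw
      rw [map_sub, map_mul, map_one, LinearMap.sub_apply, Module.End.mul_apply, h, map_zero,
        Module.End.one_apply, zero_sub, neg_eq_zero] at this
      exact hw0 this
    · intro h
      exact hrel P (hT.eq_zero_of_apply hu h) w hw
  have e1 : Module.finrank (ZMod 3) U = Module.finrank (ZMod 3) (LinearMap.range f) := by
    rw [← finrank_top (ZMod 3) U, ← hT.surj hu, ← (LinearMap.quotKerEquivRange (orbitMap T u)).finrank_eq,
      ← (LinearMap.quotKerEquivRange f).finrank_eq, hker]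
  rw [e1]
  exact Submodule.finrank_mono (by rintro _ ⟨P, rfl⟩; exact hfW P)

theorem IsIrr.finrank_adjoin [Finite U] {u : U} (hu : u ≠ 0) :
    Module.finrank (ZMod 3) (Algebra.adjoin (ZMod 3) ({T} : Set (Module.End (ZMod 3) U))) =
      Module.finrank (ZMod 3) U := by
  refine LinearEquiv.finrank_eq (LinearEquiv.ofBijective
    ((LinearMap.applyₗ u).comp (Algebra.adjoin (ZMod 3) ({T} : Set (Module.End (ZMod 3) U))).val.toLinearMap) ⟨?_, ?_⟩)
  · refine (injective_iff_map_eq_zero _).mpr fun a ha => ?_
    obtain ⟨a, ha'⟩ := a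
    rw [Algebra.adjoin_singleton_eq_range_aeval] at ha'
    obtain ⟨P, rfl⟩ := ha'
    exact Subtype.ext (hT.eq_zero_of_apply hu ha)
  · intro v
    obtain ⟨P, hP⟩ := hT.reach hu v
    exact ⟨⟨aeval T P, aeval_mem_adjoin_singleton _ _⟩, hP⟩

/-- A power outside every proper subfield is still irreducible. -/
theorem IsIrr.pow [Finite U] {m j : ℕ} (hm : 0 < m) (hdim : Module.finrank (ZMod 3) U = m)
    (hord : orderOf T = torusOrder m) (hj : NoSubfield m j) : IsIrr (T ^ j) := by
  classical
  obtain ⟨u, hu⟩ : ∃ u : U, u ≠ 0 := by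
    by_contra hh
    push Not at hh
    haveI : Subsingleton U := ⟨fun x y => by rw [hh x, hh y]⟩
    rw [Module.finrank_zero_of_subsingleton] at hdim
    omega
  set A := Algebra.adjoin (ZMod 3) ({T ^ j} : Set (Module.End (ZMod 3) U)) with hA
  set B := Algebra.adjoin (ZMod 3) ({T} : Set (Module.End (ZMod 3) U)) with hB
  have hAB : A ≤ B := Algebra.adjoin_le (by
    rintro _ rfl; exact pow_mem (Algebra.self_mem_adjoin_singleton _ _) j)
  intro W hW
  by_cases hEq : A = B
  · refine hT W fun w hw => ?_
    have hTA : T ∈ A := hEq ▸ Algebra.self_mem_adjoin_singleton _ _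
    have hstab : ∀ a ∈ A, ∀ x ∈ W, a x ∈ W := by
      intro a ha
      induction ha using Algebra.adjoin_induction with
      | mem x hx => rw [hx]; exact hW
      | algebraMap r =>
        intro x hx
        rw [Module.algebraMap_end_apply]
        exact W.smul_mem r hx
      | add a b _ _ ha hb => intro x hx; exact W.add_mem (ha x hx) (hb x hx)
      | mul a b _ _ ha hb => intro x hx; exact ha _ (hb x hx)
    exact hstab T hTA w hw
  exfalso
  haveI : IsMulCommutative A := Algebra.isMulCommutative_adjoin (ZMod 3) (by rintro a rfl b rfl; rfl)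
  letI : CommRing A := { (inferInstance : Ring A) with mul_comm := fun a b => mul_comm' a b }
  haveI : Nontrivial U := ⟨u, 0, hu⟩
  haveI : NoZeroDivisors A := ⟨fun {a b} h => by
    by_contra hne
    push Not at hne
    have hmem : ∀ c : A, ∃ P : Polynomial (ZMod 3), aeval T P = (c : Module.End (ZMod 3) U) := fun c => by
      have := hAB c.2
      rw [hB, Algebra.adjoin_singleton_eq_range_aeval] at this
      exact this
    obtain ⟨P, hP⟩ := hmem a
    obtain ⟨Q, hQ⟩ := hmem b
    have h' : (a : Module.End (ZMod 3) U) * b = 0 := congrArg Subtype.val h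
    have hb : aeval T Q u ≠ 0 := hT.injective (fun e => hne.2 (Subtype.ext (hQ ▸ e))) hu
    refine hT.injective (fun e => hne.1 (Subtype.ext (hP ▸ e))) hb ?_
    rw [hP, hQ, ← Module.End.mul_apply, h', LinearMap.zero_apply]⟩
  haveI : IsDomain A := NoZeroDivisors.to_isDomain A
  haveI : Finite (Module.End (ZMod 3) U) := Finite.of_injective _ DFunLike.coe_injective
  haveI : Finite A := inferInstance
  letI := Fintype.ofFinite A
  letI : Field A := Fintype.fieldOfDomain A
  set g := Module.finrank (ZMod 3) A with hg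
  haveI : Module.Finite A U := Module.Finite.of_finite
  have hgm : g ∣ m := hdim ▸ ⟨Module.finrank A U, (Module.finrank_mul_finrank (ZMod 3) A U).symm⟩
  have hgne : g ≠ m := fun e => hEq (Subalgebra.toSubmodule_injective
    (Submodule.eq_of_le_of_finrank_le (fun x hx => hAB hx) (by
      rw [Subalgebra.finrank_toSubmodule, Subalgebra.finrank_toSubmodule, hB, hT.finrank_adjoin hu, hdim, ← hg, e])))
  have hlt : g < m := lt_of_le_of_ne (Nat.le_of_dvd hm hgm) hgne
  refine hj g hgm hlt ?_
  rw [← hord]
  refine orderOf_dvd_of_pow_eq_one ?_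
  have hne : (⟨T ^ j, Algebra.self_mem_adjoin_singleton _ _⟩ : A) ≠ 0 := by
    intro e
    have h1 : (T ^ j) ^ torusOrder m = 1 := by rw [← pow_mul, mul_comm, pow_mul, ← hord, pow_orderOf_eq_one, one_pow]
    rw [show T ^ j = 0 from congrArg Subtype.val e, zero_pow (torus_pos hm).ne'] at h1
    exact one_ne_zero h1.symm
  have hc : Fintype.card A = 3 ^ g := by rw [Module.card_eq_pow_finrank (K := ZMod 3), ZMod.card]
  have h := congrArg Subtype.val (FiniteField.pow_card_sub_one_eq_one _ hne)
  rw [hc, SubmonoidClass.coe_pow, OneMemClass.coe_one] at h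
  rw [mul_comm, pow_mul]
  exact h

end CfsgLib.Walter.Three
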