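import Cfsg.Agent.Lib.Walter.Three.Frame

/-!
A group of prime power order normalised by `t` and `h` is abelian and centralised by `h`.
-/

set_option autoImplicit false
set_option linter.unusedSectionVars false
set_option linter.style.haveILetI false

namespace CfsgLib.Walter.Three

open scoped commutatorElement

universe u v

variable {Γ : Type u} {V : Type v} [Group Γ] [Finite Γ] [AddCommGroup V] [Module (ZMod 3) V] [Finite V]

namespace Ctx

variable {D : Ctx Γ V} {Q A : Subgroup Γ} {l : ℕ}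

theorem Bad.false (B : D.Bad Q A l) : False := by
  classical
  have hl := B.prime
  have h5 := B.five
  have hlodd : Odd l := hl.odd_of_ne_two (by omega)
  haveI := Fact.mk hl
  -- an inverted element outside the centre
  obtain ⟨y, hy, hyA⟩ := Set.not_subset.mp (fun h => B.ne h)
  set p := y⁻¹ * (D.t * y * D.t⁻¹) with hp
  have hpQ : p ∈ Q := mul_mem (inv_mem hy) (B.invQ y hy).1
  clear_value p
  have hpA : p ∉ A := fun h => hyA (by
    have h1 := B.inverts hy
    have h2 : y⁻¹ * y⁻¹ ∈ A := by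
      have e : p = D.t * y * D.t⁻¹ * y * (y⁻¹ * y⁻¹) := by
        have hc' : D.t * y * D.t⁻¹ * y * y⁻¹ = y⁻¹ * (D.t * y * D.t⁻¹ * y) := B.cent _ h1 _ (inv_mem hy)
        calc p = (y⁻¹ * (D.t * y * D.t⁻¹ * y)) * y⁻¹ := by rw [hp]; group
          _ = D.t * y * D.t⁻¹ * y * (y⁻¹ * y⁻¹) := by rw [← hc']; group
      rw [e] at h
      exact (Subgroup.mul_mem_cancel_left A h1).mp h
    have h3 := mem_of_sq_mem hlodd h2 (B.pow_mem (inv_mem hy))
    exact Subgroup.inv_mem_iff A |>.mp h3)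
  have hpt : D.t * p * D.t = p⁻¹ := by
    rw [hp, mul_inv_rev, inv_inv, mul_inv_rev, mul_inv_rev, inv_inv, t_inv]
    simp only [mul_assoc]
    simp [D.t_sq]
  have hpl : p ^ l = 1 := by
    obtain ⟨h1, h2⟩ := B.center_props (B.pow_mem hpQ)
    have h3 : D.t * p ^ l * D.t⁻¹ = (p ^ l)⁻¹ := by
      rw [← conj_pow, show D.t * p * D.t⁻¹ = p⁻¹ by rw [t_inv]; exact hpt, inv_pow]
    exact eq_one_of_sq (D.odd.of_dvd_nat (Subgroup.orderOf_dvd_natCard D.X (B.le (_root_.pow_mem hpQ l))))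
      (mul_eq_one_iff_eq_inv.mpr (h2.symm.trans h3))
  -- a central element of order `l`
  obtain ⟨y0, hy0, hc1⟩ : ∃ y0 ∈ Q, y0 * p * y0⁻¹ * p⁻¹ ≠ 1 := by
    by_contra hno
    push Not at hno
    exact hpA (B.center p hpQ fun q hq => by
      have h := hno q hq
      rw [mul_inv_eq_one, mul_inv_eq_iff_eq_mul] at h
      exact h.symm)
  set c := y0 * p * y0⁻¹ * p⁻¹ with hc
  clear_value c
  have hcA : c ∈ A := hc ▸ B.comm_mem hy0 hpQ
  obtain ⟨hcl, hct'⟩ := B.center_props hcA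
  have hcX : c ∈ D.X := B.le (B.sub hcA)
  have hct : c * D.t = D.t * c := by
    conv_lhs => rw [← hct']
    rw [inv_mul_cancel_right]
  have hch : c * D.h = D.h * c := (B.comm_h c hcA).symm
  have hcQ : ∀ q ∈ Q, Commute c q := fun q hq => B.cent c hcA q hq
  have hpow : ∀ a ∈ A, ∃ k : ℕ, c ^ k = a := by
    intro a ha
    obtain ⟨h1, h2⟩ := B.center_props ha
    have hat : a * D.t = D.t * a := by
      conv_lhs => rw [← h2]
      rw [inv_mul_cancel_right]
    have hz := D.mem_zpowers_of_comm hl h5 hcX (B.le (B.sub ha)) hct hat hch (B.comm_h a ha).symm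
      (hcQ a (B.sub ha)) hc1 hcl h1
    exact Submonoid.mem_powers_iff _ _ |>.mp (mem_powers_iff_mem_zpowers.mpr hz)
  set W := LinearMap.ker (D.geom l c) with hW
  have hUW : D.U ≤ W := fun v hv => LinearMap.mem_ker.mpr (D.geom_U hcX hct hch hc1 hcl hv)
  have hne : W ≠ ⊥ := fun h => D.U_ne_bot (le_bot_iff.mp (h ▸ hUW))
  have hyp : y0 * p * y0⁻¹ = c * p := by rw [hc]; group
  have bd := fun i => D.fix_bounds hl h5 hcl hpl (hcQ p hpQ) (hcQ y0 hy0) hyp hpt hW hne i
  set d := Module.finrank (ZMod 3) W with hd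
  -- the classes modulo the centre
  set A' := A.subgroupOf Q with hA'
  have hN : Nat.card (Q ⧸ A') ≤ d * d := by
    refine D.card_le_sq hl h5 hcl hW hne (fun q => ((q.out : Q) : Γ)) (fun q => hcQ _ (q.out).2) fun j k hjk => ?_
    have hout : (((k.out : Q) : Γ))⁻¹ * ((j.out : Q) : Γ) ∉ A := fun h => hjk (by
      have h' : (k.out : Q)⁻¹ * j.out ∈ A' := by
        exact Subgroup.mem_subgroupOf.mpr h
      have := QuotientGroup.eq.mpr h'
      rwa [QuotientGroup.out_eq', QuotientGroup.out_eq', eq_comm] at this)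
    obtain ⟨z, hz, hzne⟩ : ∃ z ∈ Q, ¬ ((k.out : Q) : Γ)⁻¹ * j.out * z = z * (((k.out : Q) : Γ)⁻¹ * j.out) := by
      by_contra hno
      push Not at hno
      exact hout (B.center _ (mul_mem (inv_mem (k.out).2) (j.out).2) hno)
    have hK : ∀ i : Q ⧸ A', ∃ n : ℕ, z * (i.out : Q) * z⁻¹ = c ^ n * (i.out : Q) := by
      intro i
      obtain ⟨n, hn⟩ := hpow _ (B.comm_mem hz (i.out).2)
      exact ⟨n, by rw [hn]; group⟩
    choose K hK using hK
    refine ⟨z, K, hcQ z hz, hK, fun he => hzne ?_⟩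
    have hj := hK j
    have hk := hK k
    rw [he] at hj
    have h2 : z * (((k.out : Q) : Γ)⁻¹ * j.out) * z⁻¹ = ((k.out : Q) : Γ)⁻¹ * j.out := by
      rw [show z * (((k.out : Q) : Γ)⁻¹ * j.out) * z⁻¹ = (z * (k.out : Q) * z⁻¹)⁻¹ * (z * (j.out : Q) * z⁻¹) by group,
        hj, hk]
      group
    conv_lhs => rw [← h2]
    rw [inv_mul_cancel_right]
  -- a small power of `h` centralises `p`
  obtain ⟨o, ho, hoN, hoA⟩ : ∃ o, 0 < o ∧ o ≤ Nat.card (Q ⧸ A') ∧ p⁻¹ * (D.h ^ o * p * (D.h ^ o)⁻¹) ∈ A := by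
    haveI := Fintype.ofFinite (Q ⧸ A')
    have hmem : ∀ k : ℕ, ∀ q ∈ Q, D.h ^ k * q * (D.h ^ k)⁻¹ ∈ Q := by
      intro k
      induction k with
      | zero => intro q hq; simpa using hq
      | succ k ih =>
        intro q hq
        rw [pow_succ', show D.h * D.h ^ k * q * (D.h * D.h ^ k)⁻¹ = D.h * (D.h ^ k * q * (D.h ^ k)⁻¹) * D.h⁻¹ by group]
        exact (B.invQ _ (ih q hq)).2
    let f : Fin (Fintype.card (Q ⧸ A') + 1) → Q ⧸ A' := fun k =>
      QuotientGroup.mk ⟨D.h ^ (k : ℕ) * p * (D.h ^ (k : ℕ))⁻¹, hmem _ p hpQ⟩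
    obtain ⟨i, j, hne', heq⟩ := Fintype.exists_ne_map_eq_of_card_lt f (by simp)
    wlog hlt : (i : ℕ) < j generalizing i j with H
    · exact H j i hne'.symm heq.symm (by
        have : (i : ℕ) ≠ j := fun e => hne' (Fin.ext e)
        omega)
    refine ⟨(j : ℕ) - i, by omega, by rw [Nat.card_eq_fintype_card]; omega, ?_⟩
    have h := QuotientGroup.eq.mp heq
    replace h := Subgroup.mem_subgroupOf.mp h
    simp only [Subgroup.coe_mul, Subgroup.coe_inv] at h
    obtain ⟨e, he⟩ : ∃ e, (j : ℕ) = (i : ℕ) + e := ⟨(j : ℕ) - i, by omega⟩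
    rw [he, pow_add] at h
    rw [he, Nat.add_sub_cancel_left]
    set a := p⁻¹ * (D.h ^ e * p * (D.h ^ e)⁻¹) with ha
    have h' : D.h ^ (i : ℕ) * a * (D.h ^ (i : ℕ))⁻¹ ∈ A := by
      rw [ha, show D.h ^ (i : ℕ) * (p⁻¹ * (D.h ^ e * p * (D.h ^ e)⁻¹)) * (D.h ^ (i : ℕ))⁻¹ =
        (D.h ^ (i : ℕ) * p * (D.h ^ (i : ℕ))⁻¹)⁻¹ *
          (D.h ^ (i : ℕ) * D.h ^ e * p * (D.h ^ (i : ℕ) * D.h ^ e)⁻¹) by group]
      exact h
    have hc' : Commute (D.h ^ (i : ℕ)) (D.h ^ (i : ℕ) * a * (D.h ^ (i : ℕ))⁻¹) :=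
      (show Commute D.h _ from B.comm_h _ h').pow_left i
    clear_value a
    have h2 : D.h ^ (i : ℕ) * a * (D.h ^ (i : ℕ))⁻¹ = a :=
      calc D.h ^ (i : ℕ) * a * (D.h ^ (i : ℕ))⁻¹
          = (D.h ^ (i : ℕ))⁻¹ * (D.h ^ (i : ℕ) * (D.h ^ (i : ℕ) * a * (D.h ^ (i : ℕ))⁻¹)) :=
            (inv_mul_cancel_left _ _).symm
        _ = (D.h ^ (i : ℕ))⁻¹ * (D.h ^ (i : ℕ) * a * (D.h ^ (i : ℕ))⁻¹ * D.h ^ (i : ℕ)) := by rw [hc'.eq]
        _ = a := by group
    rwa [h2] at h'
  have hcomm : Commute (D.h ^ o) p := by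
    set a := p⁻¹ * (D.h ^ o * p * (D.h ^ o)⁻¹) with ha
    obtain ⟨hal, hat⟩ := B.center_props hoA
    have hP : D.t * (p * a) * D.t⁻¹ = (p * a)⁻¹ := by
      rw [show p * a = D.h ^ o * p * (D.h ^ o)⁻¹ by rw [ha]; group,
        show D.t * (D.h ^ o * p * (D.h ^ o)⁻¹) * D.t⁻¹ = (D.t * D.h ^ o) * p * (D.t * D.h ^ o)⁻¹ by group,
        ← D.h_pow_comm o, show D.h ^ o * D.t * p * (D.h ^ o * D.t)⁻¹ = D.h ^ o * (D.t * p * D.t⁻¹) * (D.h ^ o)⁻¹ by group,
        t_inv, hpt]
      group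
    rw [show D.t * (p * a) * D.t⁻¹ = D.t * p * D.t⁻¹ * (D.t * a * D.t⁻¹) by group, hat, t_inv, hpt,
      mul_inv_rev] at hP
    have hap : Commute a p⁻¹ := B.cent a hoA _ (inv_mem hpQ)
    rw [← hap.eq, mul_left_inj] at hP
    have : a = 1 := eq_one_of_sq (D.odd.of_dvd_nat (Subgroup.orderOf_dvd_natCard D.X (B.le (B.sub hoA))))
      (mul_eq_one_iff_eq_inv.mpr hP)
    rw [ha, inv_mul_eq_one, eq_comm, mul_inv_eq_iff_eq_mul] at this
    exact this
  -- `h ^ o` is irreducible on the fixed space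
  obtain ⟨hd2, hlf, hfpos, -⟩ := bd 0
  rw [pow_zero, one_mul] at hlf
  have hm3 : D.m ≠ 3 := by
    intro hm
    have hl7 : l ≤ 7 := by
      have : l * 1 ≤ d := (Nat.mul_le_mul_left l hfpos).trans hlf
      omega
    haveI := Fintype.ofFinite {u : D.U // u ≠ 0}
    have hcard : Fintype.card {u : D.U // u ≠ 0} = 26 := by
      haveI := Fintype.ofFinite D.U
      have hU : Fintype.card D.U = 27 := by
        rw [← Nat.card_eq_fintype_card, Module.natCard_eq_pow_finrank (K := ZMod 3), Nat.card_zmod,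
          show Module.finrank (ZMod 3) D.U = D.m from D.dim_plus, hm]
        norm_num
      rw [Fintype.card_subtype_compl, Fintype.card_subtype_eq, hU]
    have hcU : ∀ (k : ℕ), ∀ u ∈ D.U, D.ρ (c ^ k) u ∈ D.U := fun k => D.map_U (Commute.pow_left hct k).eq
    let σ : Equiv.Perm {u : D.U // u ≠ 0} :=
      { toFun := fun u => ⟨⟨D.ρ c u.1, D.map_U hct _ u.1.2⟩, fun h => u.2 (Subtype.ext (by
          have := congrArg (fun w : D.U => D.ρ c⁻¹ (w : V)) h
          simpa [ρ_inv_apply] using this))⟩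
        invFun := fun u => ⟨⟨D.ρ c⁻¹ u.1, D.map_U (Commute.inv_left hct).eq _ u.1.2⟩, fun h => u.2 (Subtype.ext (by
          have := congrArg (fun w : D.U => D.ρ c (w : V)) h
          simpa [ρ_apply_inv] using this))⟩
        left_inv := fun u => Subtype.ext (Subtype.ext (D.ρ_inv_apply c _))
        right_inv := fun u => Subtype.ext (Subtype.ext (D.ρ_apply_inv c _)) }
    have hσ : ∀ (k : ℕ) (u : {u : D.U // u ≠ 0}), (((σ ^ k) u).1 : V) = D.ρ (c ^ k) (u.1 : V) := by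
      intro k
      induction k with
      | zero => intro u; simp
      | succ k ih =>
        intro u
        rw [pow_succ', Equiv.Perm.mul_apply, pow_succ', ← ρ_mul, ← ih u]
        rfl
    have hσl : σ ^ l ^ 1 = 1 := Equiv.ext fun u => Subtype.ext (Subtype.ext (by
      rw [pow_one, hσ, hcl, map_one]
      rfl))
    have hnd : ¬ l ∣ Fintype.card {u : D.U // u ≠ 0} := by
      rw [hcard]
      intro hdv
      interval_cases l <;> omega
    obtain ⟨u, hu⟩ := Equiv.Perm.exists_fixed_point_of_prime hnd hσl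
    refine hc1 (D.eq_one_of_fixed hcX hct hch u.1.2 (fun h => u.2 (Subtype.ext h)) ?_)
    exact congrArg (fun w : {u : D.U // u ≠ 0} => (w.1 : V)) hu
  have hno : NoSubfield D.m o := by
    refine noSubfield_square D.m_odd D.three_dvd hm3 ho ?_
    have h := hoN.trans hN
    have := Nat.mul_le_mul hd2 hd2
    linarith
  -- contradiction on the part looking like the fixed space
  obtain ⟨v, hv, hv0⟩ := D.exists_U
  obtain ⟨i, -, hi⟩ := D.exists_geom_ne hl h5 hcl (hcQ p hpQ) hv0 (LinearMap.mem_ker.mp (hUW hv))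
  set e := c ^ i * p with he
  have hel : e ^ l = 1 := by
    rw [he, ((hcQ p hpQ).pow_left i).mul_pow, hpl, mul_one, ← pow_mul, mul_comm, pow_mul, hcl, one_pow]
  have hce : Commute c e := ((Commute.refl c).pow_right i).mul_right (hcQ p hpQ)
  have hoe : Commute (D.h ^ o) e :=
    (((show Commute D.h c from hch.symm).pow_left o).pow_right i).mul_right hcomm
  have hoc : Commute (D.h ^ o) c := (show Commute D.h c from hch.symm).pow_left o
  obtain ⟨-, -, -, hf⟩ := bd i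
  set S := D.isoSpace o ⊓ (W ⊓ plusSpace (D.ρ e)) with hS
  have hinv : ∀ w ∈ S, D.ρ (D.h ^ o) w ∈ S := by
    rintro w ⟨hw1, hw2, hw3⟩
    refine ⟨D.map_isoSpace (Commute.refl _) w hw1, ?_, mem_plusSpace.mpr ?_⟩
    · show D.ρ (D.h ^ o) w ∈ W
      rw [hW, LinearMap.mem_ker, ← Module.End.mul_apply, ← (D.geom_commute hoc).eq, Module.End.mul_apply,
        LinearMap.mem_ker.mp hw2, map_zero]
    · rw [ρ_mul, ← hoe.eq, ← ρ_mul, mem_plusSpace.mp hw3]
  have hSne : S ≠ ⊥ := by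
    intro h
    refine hi ((Submodule.mem_bot (ZMod 3)).mp ?_)
    rw [← h]
    refine ⟨D.map_isoSpace (D.geom_commute (e := e) hoe).symm v (D.U_le_isoSpace o hv), ?_,
      mem_plusSpace.mpr (D.fixed_geom hel v)⟩
    show D.geom l e v ∈ W
    rw [geom_apply]
    refine sum_mem fun j _ => ?_
    rw [hW, LinearMap.mem_ker, ← Module.End.mul_apply, ← (D.geom_commute (hce.pow_right j).symm).eq,
      Module.End.mul_apply, D.geom_U hcX hct hch hc1 hcl hv, map_zero]
  have h1 : D.m ≤ Module.finrank (ZMod 3) S := D.le_finrank_isoSpace hno inf_le_left hinv hSne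
  rw [← he] at hf
  have h2 : Module.finrank (ZMod 3) S ≤ Module.finrank (ZMod 3) ↥(W ⊓ plusSpace (D.ρ e)) :=
    Submodule.finrank_mono inf_le_right
  have := D.m_pos
  omega

variable (D)

/-- The theorem on groups of prime power order. -/
theorem lgroup_abelian (hl : l.Prime) (h5 : 5 ≤ l) (Q : Subgroup Γ) (hQX : Q ≤ D.X) (hlQ : IsPGroup l Q)
    (hQ : D.Inv Q) : ∀ a ∈ Q, ∀ b ∈ Q, a * b = b * a := by
  classical
  induction hn : Nat.card Q using Nat.strong_induction_on generalizing Q with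
  | _ n IH =>
  subst hn
  haveI := Fact.mk hl
  by_cases hbot : Q = ⊥
  · subst hbot
    intro a ha b hb
    rw [Subgroup.mem_bot.mp ha, Subgroup.mem_bot.mp hb]
  have hlow := lowSub_lt hlQ hbot
  set P : Set (Subgroup Γ) := {A | lowSub Q l ≤ A ∧ A < Q ∧ D.Inv A} with hP
  obtain ⟨A, ⟨hAlow, hAQ, hAinv⟩, hAmax⟩ := (Set.toFinite P).exists_maximal ⟨_, le_rfl, hlow, D.inv_lowSub hQ l⟩
  have hmax : ∀ C : Subgroup Γ, A ≤ C → C ≤ Q → D.Inv C → ¬ C ≤ A → C = Q := by
    intro C hAC hCQ hC hnot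
    by_contra hne
    exact hnot (hAmax ⟨hAlow.trans hAC, lt_of_le_of_ne hCQ hne, hC⟩ hAC)
  have hsub : ∀ C : Subgroup Γ, C < Q → D.Inv C → ∀ a ∈ C, ∀ b ∈ C, a * b = b * a := fun C hC hCi =>
    IH _ (Set.ncard_lt_ncard (SetLike.coe_ssubset_coe.mpr hC) (Set.toFinite _) |> fun h => by
      rwa [← Nat.card_coe_set_eq, ← Nat.card_coe_set_eq] at h) C (hC.le.trans hQX) (hlQ.to_le hC.le) hCi rfl
  have hAab := hsub A hAQ hAinv
  have hAh : ∀ a ∈ A, D.h * a = a * D.h := by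
    intro a ha
    refine D.abelian_centralized A (hAQ.le.trans hQX) hAab ?_ (fun b hb => (hAinv b hb).1)
      (fun b hb => (hAinv b hb).2) ha
    obtain ⟨k, hk⟩ := IsPGroup.iff_card.mp (hlQ.to_le hAQ.le)
    rw [hk]
    intro h3
    have := (Nat.prime_dvd_prime_iff_eq Nat.prime_three hl).mp (Nat.prime_three.dvd_of_dvd_pow h3)
    omega
  have hcomm : ∀ a ∈ Q, ∀ b ∈ Q, a * b * a⁻¹ * b⁻¹ ∈ A := fun a ha b hb =>
    hAlow (Subgroup.subset_closure (Or.inl ⟨a, ha, b, hb, rfl⟩))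
  have hpow : ∀ a ∈ Q, a ^ l ∈ A := fun a ha => hAlow (Subgroup.subset_closure (Or.inr ⟨a, ha, rfl⟩))
  have hnorm : ∀ q ∈ Q, ∀ a ∈ A, q * a * q⁻¹ ∈ A := fun q hq a ha => by
    have := mul_mem (hcomm q hq a (hAQ.le ha)) ha
    rwa [inv_mul_cancel_right] at this
  have glue : ∀ C : Subgroup Γ, A ⊔ C = Q → (∀ a ∈ C, ∀ b ∈ C, a * b = b * a) →
      (∀ a ∈ A, ∀ b ∈ C, a * b = b * a) → ∀ a ∈ Q, ∀ b ∈ Q, a * b = b * a := by
    intro C hAC hCC hACc
    have h1 : ∀ g : Γ, (∀ x ∈ A, g * x = x * g) → (∀ x ∈ C, g * x = x * g) → ∀ x ∈ Q, g * x = x * g := by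
      intro g hA hC x hx
      rw [← hAC] at hx
      have : A ⊔ C ≤ Subgroup.centralizer ({g} : Set Γ) :=
        sup_le (fun x hx => Subgroup.mem_centralizer_singleton_iff.mpr (hA x hx).symm)
          (fun x hx => Subgroup.mem_centralizer_singleton_iff.mpr (hC x hx).symm)
      exact (Subgroup.mem_centralizer_singleton_iff.mp (this hx)).symm
    intro a ha b hb
    refine h1 a (fun x hx => ?_) (fun x hx => ?_) b hb
    · exact (h1 x (fun z hz => hAab x hx z hz) (fun z hz => hACc x hx z hz) a ha).symm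
    · exact (h1 x (fun z hz => (hACc z hz x hx).symm) (fun z hz => hCC x hx z hz) a ha).symm
  by_cases hd : ∀ x ∈ Q, D.h * x * D.h⁻¹ * x⁻¹ ∈ A
  · -- `h` is trivial modulo `A`
    obtain ⟨y, hy, hyA⟩ := Set.not_subset.mp (fun h : (Q : Set Γ) ⊆ A => hAQ.not_ge h)
    obtain ⟨x, hxQ, hxA, hxt⟩ : ∃ x ∈ Q, x ∉ A ∧ (D.t * x * D.t = x ∨ D.t * x * D.t = x⁻¹) := by
      set a := y⁻¹ * (D.t * y * D.t) with ha
      have haQ : a ∈ Q := mul_mem (inv_mem hy) (by have := (hQ y hy).1; rwa [t_inv] at this)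
      have hta : D.t * a * D.t = a⁻¹ := by
        rw [ha, mul_inv_rev, inv_inv, mul_inv_rev, mul_inv_rev, t_inv]
        simp only [mul_assoc]
        simp [D.t_sq]
      by_cases haA : a ∈ A
      · obtain ⟨k, hk⟩ : Odd (orderOf a) := D.odd.of_dvd_nat (Subgroup.orderOf_dvd_natCard D.X (hQX haQ))
        set b := a ^ (k + 1) with hb
        have hbb : b * b = a := by
          rw [hb, ← pow_add, show k + 1 + (k + 1) = orderOf a + 1 by omega, pow_succ, pow_orderOf_eq_one, one_mul]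
        have hbA : b ∈ A := pow_mem haA _
        refine ⟨y * b, mul_mem hy (hAQ.le hbA), fun h => hyA ((Subgroup.mul_mem_cancel_right A hbA).mp h),
          Or.inl ?_⟩
        have htb : D.t * b * D.t = b⁻¹ := by
          have := conj_pow (a := D.t) (b := a) (i := k + 1)
          rw [t_inv, hta, inv_pow] at this
          rw [hb, ← this]
        calc D.t * (y * b) * D.t = D.t * y * D.t * (D.t * b * D.t) := by simp [mul_assoc, ← mul_assoc D.t D.t, D.t_sq]
          _ = y * a * b⁻¹ := by rw [htb, ha]; group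
          _ = y * b := by rw [← hbb]; group
      · exact ⟨a, haQ, haA, Or.inr hta⟩
    have hxh : x * D.h * x⁻¹ * D.h⁻¹ ∈ A := by
      have := inv_mem (hd x hxQ)
      rwa [show (D.h * x * D.h⁻¹ * x⁻¹)⁻¹ = x * D.h * x⁻¹ * D.h⁻¹ by group] at this
    obtain ⟨hxh1, hxA1⟩ := D.pair_comm l hl h5 A (hAQ.le.trans hQX) hAab (hlQ.to_le hAQ.le)
      (fun a ha => (hAinv a ha).1) hAh (hQX hxQ) (hnorm x hxQ)
      (fun a ha => by simpa using hnorm x⁻¹ (inv_mem hxQ) a ha) (hpow x hxQ) hxh hxt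
    have hinv : D.Inv (Subgroup.zpowers x) := by
      rw [Subgroup.zpowers_eq_closure]
      refine D.inv_closure ?_
      rintro _ rfl
      refine ⟨?_, ?_⟩
      · rw [t_inv]
        rcases hxt with h | h <;> rw [h]
        · exact Subgroup.subset_closure rfl
        · exact inv_mem (Subgroup.subset_closure rfl)
      · rw [← hxh1, mul_inv_cancel_right]
        exact Subgroup.subset_closure rfl
    have hQeq := hmax (A ⊔ Subgroup.zpowers x) le_sup_left
      (sup_le hAQ.le (Subgroup.zpowers_le.mpr hxQ)) (D.inv_sup hAinv hinv)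
      (fun h => hxA (h ((le_sup_right : Subgroup.zpowers x ≤ A ⊔ Subgroup.zpowers x) (Subgroup.mem_zpowers x))))
    refine glue _ hQeq ?_ ?_
    · intro a ha b hb
      obtain ⟨i, rfl⟩ := Subgroup.mem_zpowers_iff.mp ha
      obtain ⟨j, rfl⟩ := Subgroup.mem_zpowers_iff.mp hb
      exact ((Commute.refl x).zpow_zpow i j).eq
    · intro a ha b hb
      obtain ⟨j, rfl⟩ := Subgroup.mem_zpowers_iff.mp hb
      exact ((show Commute a x from (hxA1 a ha).symm).zpow_right j).eq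
  -- otherwise
  push Not at hd
  obtain ⟨x, hxQ, hxA⟩ := hd
  set G0 : Set Γ := {z | ∃ q ∈ Q, D.h * q * D.h⁻¹ * q⁻¹ = z} with hG0
  set K := Subgroup.closure G0 with hK
  have hKQ : K ≤ Q := by
    rw [hK, Subgroup.closure_le]
    rintro _ ⟨q, hq, rfl⟩
    exact mul_mem (hQ q hq).2 (inv_mem hq)
  have hKinv : D.Inv K := by
    refine D.inv_closure ?_
    rintro _ ⟨q, hq, rfl⟩
    refine ⟨Subgroup.subset_closure ⟨_, (hQ q hq).1, ?_⟩, Subgroup.subset_closure ⟨_, (hQ q hq).2, by group⟩⟩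
    rw [← D.conj_h_comm]
    group
  have hsupQ : A ⊔ K = Q := hmax _ le_sup_left (sup_le hAQ.le hKQ) (D.inv_sup hAinv hKinv) fun h =>
    hxA (h ((le_sup_right : K ≤ A ⊔ K) (Subgroup.subset_closure ⟨x, hxQ, rfl⟩)))
  have hAK : ∀ a ∈ A, ∀ b ∈ K, a * b = b * a := by
    intro a ha b hb
    have hle : K ≤ Subgroup.centralizer ({a} : Set Γ) := by
      rw [hK, Subgroup.closure_le]
      rintro _ ⟨q, hq, rfl⟩
      refine Subgroup.mem_centralizer_singleton_iff.mpr ?_
      set a' := q⁻¹ * a * q with ha'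
      have ha'A : a' ∈ A := by simpa [ha'] using hnorm q⁻¹ (inv_mem hq) a ha
      have h1 := hAh _ ha
      have h2 : D.h * q * D.h⁻¹ * a' * (D.h * q * D.h⁻¹)⁻¹ = a := by
        have hc : D.h⁻¹ * a' * D.h = a' := by rw [mul_assoc, ← hAh a' ha'A, inv_mul_cancel_left]
        rw [show D.h * q * D.h⁻¹ * a' * (D.h * q * D.h⁻¹)⁻¹ = D.h * (q * (D.h⁻¹ * a' * D.h) * q⁻¹) * D.h⁻¹ by group,
          hc, show q * a' * q⁻¹ = a by rw [ha']; group, h1, mul_inv_cancel_right]
      conv_rhs => rw [← h2]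
      rw [ha']
      group
    exact (Subgroup.mem_centralizer_singleton_iff.mp (hle hb)).symm
  by_cases hKeq : K = Q
  · by_contra hnab
    refine (Bad.false (D := D) (Q := Q) (A := A) (l := l)
      ⟨hl, h5, hQX, hAQ.le, hQ, hAinv, hAlow, ?_, ?_, hAh, hKeq, hAQ.not_ge⟩)
    · exact fun a ha q hq => hAK a ha q (hKeq.symm ▸ hq)
    · intro z hz hzc
      by_contra hzA
      apply hnab
      set Z := Q ⊓ Subgroup.centralizer (Q : Set Γ) with hZ
      have hZinv : D.Inv Z := by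
        intro s hs
        have key : ∀ g : Γ, (∀ u ∈ Q, g * u * g⁻¹ ∈ Q) → g * s * g⁻¹ ∈ Z := by
          intro g hg
          refine ⟨hg s hs.1, Subgroup.mem_centralizer_iff.mpr fun u hu => ?_⟩
          have hsurj : ∃ w ∈ Q, g * w * g⁻¹ = u := by
            let f : Q → Q := fun w => ⟨g * w * g⁻¹, hg w w.2⟩
            have hf : Function.Injective f := fun a b hab => by
              have := congrArg Subtype.val hab
              exact Subtype.ext (mul_left_cancel (mul_right_cancel this))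
            obtain ⟨w, hw⟩ := Finite.injective_iff_surjective.mp hf ⟨u, hu⟩
            exact ⟨w, w.2, congrArg Subtype.val hw⟩
          obtain ⟨w, hw, rfl⟩ := hsurj
          have h := Subgroup.mem_centralizer_iff.mp hs.2 w hw
          rw [show g * w * g⁻¹ * (g * s * g⁻¹) = g * (w * s) * g⁻¹ by group, h]
          group
        exact ⟨key _ fun u hu => (hQ u hu).1, key _ fun u hu => (hQ u hu).2⟩
      have hZQ : Z = Q := by
        refine hmax Z (fun a ha => ⟨hAQ.le ha, Subgroup.mem_centralizer_iff.mpr fun u hu =>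
          (hAK a ha u (hKeq.symm ▸ hu)).symm⟩) inf_le_left hZinv fun h => hzA (h ⟨hz, ?_⟩)
        exact Subgroup.mem_centralizer_iff.mpr fun u hu => (hzc u hu).symm
      intro a ha b hb
      exact (Subgroup.mem_centralizer_iff.mp (hZQ.symm.le ha).2 b hb).symm
  · exact glue K hsupQ (hsub K (lt_of_le_of_ne hKQ hKeq) hKinv) hAK

/-- Consequence: such a group is centralised by `h`. -/
theorem lgroup_centralized (hl : l.Prime) (h5 : 5 ≤ l) (Q : Subgroup Γ) (hQX : Q ≤ D.X) (hlQ : IsPGroup l Q)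
    (hQ : D.Inv Q) {a : Γ} (ha : a ∈ Q) : D.h * a = a * D.h := by
  refine D.abelian_centralized Q hQX (D.lgroup_abelian hl h5 Q hQX hlQ hQ) ?_ (fun b hb => (hQ b hb).1)
    (fun b hb => (hQ b hb).2) ha
  haveI := Fact.mk hl
  obtain ⟨k, hk⟩ := IsPGroup.iff_card.mp hlQ
  rw [hk]
  intro h3
  have := (Nat.prime_dvd_prime_iff_eq Nat.prime_three hl).mp (Nat.prime_three.dvd_of_dvd_pow h3)
  omega

end Ctx

end CfsgLib.Walter.Three
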