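import Cfsg.Agent.Lib.Walter.Three.Torsion

/-!
The main result on the abstract setting: a field automorphism of `3`-power order lies outside the derived group.
-/

set_option autoImplicit false
set_option linter.unusedSectionVars false
set_option linter.style.haveILetI false

namespace CfsgLib.Walter.Three

open Cfsg

universe u v

variable {Γ : Type u} {V : Type v} [Group Γ] [Finite Γ] [AddCommGroup V] [Module (ZMod 3) V] [Finite V]

/-- A representation of dimension at most two has scalar commutators of trivial square. -/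
theorem not_mem_commutator_of_rep {G : Type u} [Group G] {s : ℕ} [Fact s.Prime] {M : Type v} [AddCommGroup M]
    [Module (ZMod s) M] [Finite M] [Nontrivial M] (A : G → M →+ M) (hA1 : ∀ x, A 1 x = x)
    (hA : ∀ g g' x, A (g * g') x = A g (A g' x)) {c e : M}
    (hgen : ∀ x : M, ∃ i j : ℕ, x = i • c + j • e) {φ : G} {n : ℕ} (hφ : ∀ x, A φ x = n • x)
    (hn1 : (n : ZMod s) ≠ 1) (hn2 : (n : ZMod s) ^ 2 ≠ 1) : φ ∉ commutator G := by
  intro hmem
  let L : G → Module.End (ZMod s) M := fun g => (A g).toZModLinearMap s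
  let T : G →* Module.End (ZMod s) M :=
    { toFun := L
      map_one' := LinearMap.ext fun x => hA1 x
      map_mul' := fun g g' => LinearMap.ext fun x => hA g g' x }
  haveI : Module.Finite (ZMod s) M := Module.Finite.of_finite
  let χ : G →* (ZMod s)ˣ := (LinearMap.det.comp T).toHomUnits
  have h1 : χ φ = 1 := Abelianization.commutator_subset_ker χ hmem
  have hT : T φ = (n : ZMod s) • (1 : Module.End (ZMod s) M) := LinearMap.ext fun x => by
    rw [LinearMap.smul_apply, Module.End.one_apply, Nat.cast_smul_eq_nsmul]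
    exact hφ x
  set d := Module.finrank (ZMod s) M with hd
  have hdet : (n : ZMod s) ^ d = 1 := by
    have h' : LinearMap.det (T φ) = 1 := congrArg Units.val h1
    rwa [hT, LinearMap.det_smul, map_one, mul_one] at h'
  have hdpos : 0 < d := Module.finrank_pos
  have hd2 : d ≤ 2 := by
    let f : (ZMod s × ZMod s) →ₗ[ZMod s] M :=
      (LinearMap.toSpanSingleton (ZMod s) M c).coprod (LinearMap.toSpanSingleton (ZMod s) M e)
    have hsurj : LinearMap.range f = ⊤ := by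
      rw [LinearMap.range_eq_top]
      intro x
      obtain ⟨i, j, hij⟩ := hgen x
      exact ⟨((i : ZMod s), (j : ZMod s)), by
        simp [f, LinearMap.coprod_apply, LinearMap.toSpanSingleton_apply, Nat.cast_smul_eq_nsmul, hij]⟩
    have h := LinearMap.finrank_range_le f
    rw [hsurj, finrank_top, Module.finrank_prod, Module.finrank_self] at h
    omega
  interval_cases d
  · exact hn1 (by rwa [pow_one] at hdet)
  · exact hn2 hdet

open scoped IsMulCommutative in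
/-- The determinant of the action on a normal elementary abelian subgroup of rank at most two kills commutators. -/
theorem not_mem_commutator_of_det {G : Type u} [Group G] {s : ℕ} [Fact s.Prime] (R : Subgroup G) [Finite R]
    (hN : ∀ g : G, ∀ x ∈ R, g * x * g⁻¹ ∈ R) (hcomm : ∀ x ∈ R, ∀ y ∈ R, x * y = y * x)
    (hexp : ∀ x ∈ R, x ^ s = 1) (hne : R ≠ ⊥) {c e : G} (hc : c ∈ R) (he : e ∈ R)
    (hgen : ∀ x ∈ R, ∃ i j : ℕ, x = c ^ i * e ^ j) {φ : G} {n : ℕ} (hφ : ∀ x ∈ R, φ * x * φ⁻¹ = x ^ n)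
    (hn1 : (n : ZMod s) ≠ 1) (hn2 : (n : ZMod s) ^ 2 ≠ 1) : φ ∉ commutator G := by
  haveI : IsMulCommutative R := ⟨⟨fun a b => Subtype.ext (hcomm a a.2 b b.2)⟩⟩
  haveI : R.Normal := ⟨fun x hx g => hN g x hx⟩
  haveI : Nontrivial R := (Subgroup.nontrivial_iff_ne_bot R).mpr hne
  letI : Module (ZMod s) (Additive R) := AddCommGroup.zmodModule (n := s) fun x => by
    apply Additive.toMul.injective
    rw [toMul_nsmul, toMul_zero]
    exact Subtype.ext (by rw [Subgroup.coe_pow]; exact hexp _ x.toMul.2)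
  refine not_mem_commutator_of_rep (M := Additive R) (s := s)
    (fun g => MonoidHom.toAdditive (MulAut.conjNormal g : MulAut R).toMonoidHom)
    (fun x => Additive.toMul.injective (Subtype.ext (by simp)))
    (fun a b x => Additive.toMul.injective (Subtype.ext (by simp [map_mul])))
    (c := Additive.ofMul (⟨c, hc⟩ : R)) (e := Additive.ofMul (⟨e, he⟩ : R)) (fun x => ?_)
    (n := n) (fun x => ?_) hn1 hn2
  · obtain ⟨i, j, hij⟩ := hgen _ x.toMul.2
    refine ⟨i, j, Additive.toMul.injective ?_⟩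
    rw [toMul_add, toMul_nsmul, toMul_nsmul]
    exact Subtype.ext (by simpa using hij)
  · apply Additive.toMul.injective
    rw [toMul_nsmul]
    exact Subtype.ext (by simpa using hφ _ x.toMul.2)

namespace Ctx

variable {D : Ctx Γ V} {S : Set Γ}

theorem inv_mem_alg {x : Γ} (hx : D.ρ x ∈ D.alg S) : D.ρ x⁻¹ ∈ D.alg S := by
  have e : x⁻¹ = x ^ (orderOf x - 1) := by
    refine inv_eq_of_mul_eq_one_right ?_
    rw [← pow_succ', Nat.sub_add_cancel (orderOf_pos x), pow_orderOf_eq_one]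
  rw [e, map_pow]
  exact pow_mem hx _

variable (D)

/-- In an elementary abelian group of `X` the elements inverted by `t` form a cyclic group. -/
theorem inverted_cyclic (hTS : D.TorusSet S) (hhS : D.h ∈ S) (htS : ∀ x ∈ S, D.ρ (D.t * x * D.t⁻¹) ∈ D.alg S)
    {s : ℕ} (hs : s.Prime) (h5 : 5 ≤ s) {e r : Γ} (heS : e ∈ S) (hrS : r ∈ S) (heX : e ∈ D.X) (hrX : r ∈ D.X)
    (hes : e ^ s = 1) (hrs : r ^ s = 1) (het : D.t * e * D.t⁻¹ = e⁻¹) (hrt : D.t * r * D.t⁻¹ = r⁻¹) (he1 : e ≠ 1) :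
    r ∈ Subgroup.zpowers e := by
  classical
  obtain ⟨π, B⟩ := D.exists_block hTS htS
  have hU : ∀ v ∈ D.U, D.eps π v = v := by
    refine B.eps_apply (j := 1) D.noSubfield_one ?_
    rw [pow_one]
    exact hTS.comm (D.ρ_mem_alg hhS) B.eps_mem
  -- an inverted element trivial on the block is trivial
  have triv : ∀ x : Γ, D.ρ x ∈ D.alg S → x ∈ D.X → D.t * x * D.t⁻¹ = x⁻¹ → D.ρ x * π = π → x = 1 := by
    intro x hx hxX hxt h
    have h' : D.ρ x⁻¹ * D.cj D.t π = D.cj D.t π := by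
      have := congrArg (D.cj D.t) h
      rwa [cj_mul, cj_ρ, hxt] at this
    refine B.eq_one hU hxX (hTS.comm hx B.eps_mem) h ?_
    calc D.ρ x * D.cj D.t π = D.ρ x * (D.ρ x⁻¹ * D.cj D.t π) := by rw [h']
      _ = D.cj D.t π := by rw [← mul_assoc, ρ_mul_inv, one_mul]
  have hem : D.ρ e ∈ D.alg S := D.ρ_mem_alg heS
  have hrm : D.ρ r ∈ D.alg S := D.ρ_mem_alg hrS
  have hgm : ∀ x : Γ, D.ρ x ∈ D.alg S → D.geom s x ∈ D.alg S := fun x hx => by
    rw [geom]
    exact sum_mem fun k _ => by rw [map_pow]; exact pow_mem hx k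
  have hkill : ∀ x : Γ, x ^ s = 1 → (D.ρ x - 1) * D.geom s x = 0 := fun x hx =>
    LinearMap.ext fun v => by
      rw [Module.End.mul_apply, LinearMap.sub_apply, Module.End.one_apply, D.fixed_geom hx v, sub_self,
        LinearMap.zero_apply]
  have hgeom0 : D.geom s e * π = 0 := by
    rcases B.domain (sub_mem hem (one_mem _)) (hgm e hem) (by rw [hkill e hes, zero_mul]) with h | h
    · rw [sub_mul, one_mul, sub_eq_zero] at h
      exact absurd (triv e hem heX het h) he1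
    · exact h
  obtain ⟨v, -, hv⟩ := B.ne
  have hce : Commute e r := hTS.1 e heS r hrS
  obtain ⟨i, -, hi⟩ := D.exists_geom_ne hs h5 hes hce hv (by rw [← Module.End.mul_apply, hgeom0, LinearMap.zero_apply])
  set x := e ^ i * r with hx
  have hxm : D.ρ x ∈ D.alg S := by rw [hx, map_mul, map_pow]; exact mul_mem (pow_mem hem i) hrm
  have hxs : x ^ s = 1 := by
    rw [hx, (hce.pow_left i).mul_pow, hrs, mul_one, ← pow_mul, mul_comm, pow_mul, hes, one_pow]
  have hxπ : D.ρ x * π = π := by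
    rcases B.domain (sub_mem hxm (one_mem _)) (hgm x hxm) (by rw [hkill x hxs, zero_mul]) with h | h
    · rwa [sub_mul, one_mul, sub_eq_zero] at h
    · exact absurd (by rw [← Module.End.mul_apply, h, LinearMap.zero_apply]) hi
  have hxt : D.t * x * D.t⁻¹ = x⁻¹ := by
    rw [hx, show D.t * (e ^ i * r) * D.t⁻¹ = D.t * e ^ i * D.t⁻¹ * (D.t * r * D.t⁻¹) by group, ← conj_pow, het, hrt,
      (hce.pow_left i).eq, mul_inv_rev, inv_pow]
  have h1 := triv x hxm (mul_mem (pow_mem heX i) hrX) hxt hxπ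
  rw [hx] at h1
  rw [eq_inv_of_mul_eq_one_right h1]
  exact inv_mem (pow_mem (Subgroup.mem_zpowers e) i)

/-- An element acting on `h` as a power of the Frobenius map acts on the commuting torsion in the same way. -/
theorem multiplier (hTS : D.TorusSet S) (hhS : D.h ∈ S) (htS : ∀ x ∈ S, D.ρ (D.t * x * D.t⁻¹) ∈ D.alg S)
    {φ : Γ} (hφX : φ ∈ D.X) (hφt : φ * D.t = D.t * φ) (hφS : ∀ x ∈ S, D.ρ (φ * x * φ⁻¹) ∈ D.alg S)
    (hφS' : ∀ x ∈ S, D.ρ (φ⁻¹ * x * φ⁻¹⁻¹) ∈ D.alg S) {a : ℕ} (hφh : φ * D.h * φ⁻¹ = D.h ^ 3 ^ a)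
    {r : Γ} (hrS : r ∈ S) (hrX : r ∈ D.X) {s : ℕ} (hrs : r ^ s = 1) (hsz : s ∣ torusOrder D.m) :
    φ * r * φ⁻¹ = r ^ 3 ^ a := by
  classical
  obtain ⟨π, B⟩ := D.exists_block hTS htS
  have hU : ∀ v ∈ D.U, D.eps π v = v := by
    refine B.eps_apply (j := 1) D.noSubfield_one ?_
    rw [pow_one]
    exact hTS.comm (D.ρ_mem_alg hhS) B.eps_mem
  have hodd : Odd (orderOf φ) := D.odd.of_dvd_nat (Subgroup.orderOf_dvd_natCard D.X hφX)
  have hhm := D.ρ_mem_alg hhS
  have hrm := D.ρ_mem_alg hrS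
  have hone : ∀ p : Module.End (ZMod 3) V, D.IsBlock S p → (∀ v ∈ D.U, D.eps p v = v) →
      D.ρ (φ * r * φ⁻¹ * (r ^ 3 ^ a)⁻¹) * p = p := by
    intro p P hP
    have hfix := (P.fixed_of_cover hP hφt hodd hφS hφS').2
    obtain ⟨g, hg⟩ := P.exists_frob hφS hfix
    have hh := hg _ hhm
    rw [cj_ρ, hφh, ← map_pow] at hh
    -- compare the two exponents
    have key : ∀ i j : ℕ, i ≤ j → D.ρ (D.h ^ i) * p = D.ρ (D.h ^ j) * p → torusOrder D.m ∣ j - i := by
      intro i j hij h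
      rw [← D.ord]
      refine orderOf_dvd_of_pow_eq_one (P.pow_h_eq_one hP ?_)
      have hp' : p = D.ρ (D.h ^ i)⁻¹ * (D.ρ (D.h ^ i) * p) := by rw [← mul_assoc, ρ_inv_mul, one_mul]
      conv_rhs => rw [hp', h, ← mul_assoc, ← map_mul]
      rw [show (D.h ^ i)⁻¹ * D.h ^ j = D.h ^ (j - i) by
        conv_lhs => rw [← Nat.add_sub_cancel' hij, pow_add, inv_mul_cancel_left]]
    have hmod : r ^ 3 ^ g = r ^ 3 ^ a := by
      rcases le_total (3 ^ a) (3 ^ g) with hle | hle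
      · obtain ⟨q, hq⟩ := hsz.trans (key _ _ hle hh)
        rw [← Nat.add_sub_cancel' hle, hq, pow_add, pow_mul, hrs, one_pow, mul_one]
      · obtain ⟨q, hq⟩ := hsz.trans (key _ _ hle hh.symm)
        rw [← Nat.add_sub_cancel' hle, hq, pow_add, pow_mul, hrs, one_pow, mul_one]
    have hr := hg _ hrm
    rw [cj_ρ, ← map_pow, hmod] at hr
    have hinv : D.ρ (r ^ 3 ^ a)⁻¹ ∈ D.alg S := inv_mem_alg (by rw [map_pow]; exact pow_mem hrm _)
    rw [map_mul, mul_assoc, hTS.comm hinv P.mem, ← mul_assoc, hr, mul_assoc,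
      ← hTS.comm hinv P.mem, ← mul_assoc, ρ_mul_inv, one_mul]
  have h1 : φ * r * φ⁻¹ * (r ^ 3 ^ a)⁻¹ = 1 := by
    refine B.eq_one hU (mul_mem (mul_mem (mul_mem hφX hrX) (inv_mem hφX)) (inv_mem (pow_mem hrX _))) ?_
      (hone π B hU) (hone _ B.swap (fun v hv => by rw [B.eps_swap]; exact hU v hv))
    rw [map_mul]
    exact hTS.comm (mul_mem (hφS r hrS) (inv_mem_alg (by rw [map_pow]; exact pow_mem hrm _))) B.eps_mem
  exact mul_inv_eq_one.mp h1

/-- The theorem of the local module: `φ` is outside the derived group. -/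
theorem not_mem_commutator
    (h3 : ∀ N : Subgroup Γ, N ≤ D.X → IsPGroup 3 N → (∀ x ∈ D.X, ∀ n ∈ N, x * n * x⁻¹ ∈ N) → N = ⊥)
    (hcover : ∀ g : Γ, g ∈ D.X ∨ g * D.t ∈ D.X) {φ : Γ} (hφX : φ ∈ D.X) (hφt : φ * D.t = D.t * φ)
    {a k : ℕ} (hφh : φ * D.h * φ⁻¹ = D.h ^ 3 ^ a) (hk : 3 ^ (k + 1) ∣ D.m) (hak : ¬ 3 ^ (k + 1) ∣ a) :
    φ ∉ commutator Γ := by
  classical
  haveI := D.X_normal hcover
  obtain ⟨s, hs, h5, hord⟩ := exists_prime k
  haveI := Fact.mk hs
  have hsodd : Odd s := hs.odd_of_ne_two (by omega)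
  have hsz : s ∣ torusOrder D.m := by
    have h1 : (3 : ZMod s) ^ D.m = 1 := orderOf_dvd_iff_pow_eq_one.mp (hord.symm ▸ hk)
    have h2 : s ∣ 3 ^ D.m - 1 := by
      rw [← ZMod.natCast_eq_zero_iff, Nat.cast_sub (Nat.one_le_pow _ _ (by norm_num))]
      push_cast
      rw [h1, sub_self]
    rw [← two_mul_torus] at h2
    exact ((Nat.coprime_primes hs Nat.prime_two).mpr (by omega)).dvd_of_dvd_mul_left h2
  have hhF := D.h_mem_fitCenter h3
  set c := D.h ^ (torusOrder D.m / s) with hc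
  have hcord : orderOf c = s := by
    rw [hc, orderOf_pow' _ (Nat.div_pos (Nat.le_of_dvd (torus_pos D.m_pos) hsz) hs.pos).ne', D.ord,
      Nat.gcd_eq_right (Nat.div_dvd_of_dvd hsz), Nat.div_div_self hsz (torus_pos D.m_pos).ne']
  have hcR : c ∈ D.torsion s := ⟨pow_mem hhF _, hcord ▸ pow_orderOf_eq_one c⟩
  have hc1 : c ≠ 1 := fun e => by rw [e, orderOf_one] at hcord; omega
  set S : Set Γ := (D.torsion s : Set Γ) ∪ {D.h} with hS
  have hhS : D.h ∈ S := Or.inr rfl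
  have hTS : D.TorusSet S := by
    refine ⟨?_, ?_⟩
    · rintro x (hx | rfl) y (hy | rfl)
      exacts [D.torsion_comm hx hy, D.fitCenter_comm hx.1 hhF, D.fitCenter_comm hhF hy.1, rfl]
    · rintro x (hx | rfl)
      · intro hd
        have h1 : orderOf x ∣ s := orderOf_dvd_of_pow_eq_one hx.2
        have := (Nat.prime_dvd_prime_iff_eq Nat.prime_three hs).mp (hd.trans h1)
        omega
      · exact fun hd => torus_not_three D.m_pos (D.ord ▸ hd)
  have hconjS : ∀ g : Γ, (∃ j : ℕ, g * D.h * g⁻¹ = D.h ^ j) → ∀ x ∈ S, D.ρ (g * x * g⁻¹) ∈ D.alg S := by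
    rintro g ⟨j, hj⟩ x (hx | rfl)
    · exact D.ρ_mem_alg (Or.inl (D.torsion_conj g hx))
    · rw [hj, map_pow]; exact pow_mem (D.ρ_mem_alg hhS) j
  have htS := hconjS D.t ⟨1, by rw [D.h_comm, mul_inv_cancel_right, pow_one]⟩
  have hφS := hconjS φ ⟨_, hφh⟩
  have hφS' := hconjS φ⁻¹ (by
    obtain ⟨j, hj⟩ := mem_powers_iff_mem_zpowers.mpr
      (D.cent φ⁻¹ (inv_mem hφX) (Commute.inv_left hφt).eq)
    exact ⟨j, hj.symm⟩)
  have hmul : ∀ r ∈ D.torsion s, φ * r * φ⁻¹ = r ^ 3 ^ a := fun r hr =>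
    D.multiplier hTS hhS htS hφX hφt hφS hφS' hφh (Or.inl hr) (D.fitCenter_le hr.1) hr.2 hsz
  -- two generators
  have hplus : ∀ r ∈ D.torsion s, D.t * r * D.t⁻¹ = r → r ∈ Subgroup.zpowers c := by
    intro r hr hrt
    refine D.mem_zpowers_of_comm hs h5 (D.fitCenter_le hcR.1) (D.fitCenter_le hr.1) (D.h_pow_comm _) ?_
      ((Commute.refl D.h).pow_left _).eq (D.fitCenter_comm hr.1 hhF) (D.torsion_comm hcR hr) hc1 hcR.2 hr.2
    conv_lhs => rw [← hrt]
    rw [inv_mul_cancel_right]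
  obtain ⟨e, heR, het, hminus⟩ : ∃ e ∈ D.torsion s, D.t * e * D.t⁻¹ = e⁻¹ ∧
      ∀ r ∈ D.torsion s, D.t * r * D.t⁻¹ = r⁻¹ → r ∈ Subgroup.zpowers e := by
    by_cases h : ∃ e ∈ D.torsion s, D.t * e * D.t⁻¹ = e⁻¹ ∧ e ≠ 1
    · obtain ⟨e, he, het, he1⟩ := h
      exact ⟨e, he, het, fun r hr hrt => D.inverted_cyclic hTS hhS htS hs h5 (Or.inl he) (Or.inl hr)
        (D.fitCenter_le he.1) (D.fitCenter_le hr.1) he.2 hr.2 het hrt he1⟩
    · push Not at h
      exact ⟨1, one_mem _, by group, fun r hr hrt => by rw [h r hr hrt]; exact one_mem _⟩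
  have hgen : ∀ x ∈ D.torsion s, ∃ i j : ℕ, x = c ^ i * e ^ j := by
    intro x hx
    obtain ⟨q, hq⟩ := hsodd
    set y := D.t * x * D.t⁻¹ with hy
    have hyR : y ∈ D.torsion s := D.torsion_conj D.t hx
    have hty : D.t * y * D.t⁻¹ = x := by rw [hy, t_inv]; simp [← mul_assoc, D.t_sq, mul_assoc x]
    obtain ⟨i, hi⟩ := mem_powers_iff_mem_zpowers.mpr (hplus _ (mul_mem hx hyR) (by
      rw [show D.t * (x * y) * D.t⁻¹ = D.t * x * D.t⁻¹ * (D.t * y * D.t⁻¹) by group, hty, ← hy]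
      exact D.torsion_comm hyR hx))
    obtain ⟨j, hj⟩ := mem_powers_iff_mem_zpowers.mpr (hminus _ (mul_mem hx (inv_mem hyR)) (by
      rw [show D.t * (x * y⁻¹) * D.t⁻¹ = D.t * x * D.t⁻¹ * (D.t * y * D.t⁻¹)⁻¹ by group, hty, ← hy]
      group))
    refine ⟨i * (q + 1), j * (q + 1), ?_⟩
    have hi' : c ^ i = x * y := hi
    have hj' : e ^ j = x * y⁻¹ := hj
    have hxy : Commute x y := D.torsion_comm hx hyR
    rw [pow_mul, pow_mul, hi', hj', ← (show Commute (x * y) (x * y⁻¹) from D.torsion_comm (mul_mem hx hyR) (mul_mem hx (inv_mem hyR))).mul_pow,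
      show x * y * (x * y⁻¹) = x * (y * x) * y⁻¹ by group, ← hxy.eq,
      show x * (x * y) * y⁻¹ = x ^ 2 by rw [pow_two]; group, ← pow_mul, show 2 * (q + 1) = s + 1 by omega, pow_succ, hx.2, one_mul]
  -- the multiplier
  have hord3 : orderOf (((3 ^ a : ℕ) : ZMod s)) ≠ 1 ∧ ((3 ^ a : ℕ) : ZMod s) ^ 2 ≠ 1 := by
    push_cast
    have h1 : ¬ orderOf (3 : ZMod s) ∣ a := hord.symm ▸ hak
    refine ⟨fun h => h1 (orderOf_dvd_iff_pow_eq_one.mpr (orderOf_eq_one_iff.mp h)), fun h => hak ?_⟩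
    rw [← pow_mul, ← orderOf_dvd_iff_pow_eq_one, hord] at h
    exact (Nat.Coprime.pow_left _ (by norm_num : Nat.Coprime 3 2)).dvd_of_dvd_mul_right h
  refine not_mem_commutator_of_det (D.torsion s) (fun g x hx => D.torsion_conj g hx)
    (fun x hx y hy => D.torsion_comm hx hy) (fun x hx => hx.2) (fun h => hc1 ?_) hcR heR hgen hmul
    (fun h => hord3.1 (by rw [h, orderOf_one])) hord3.2
  exact Subgroup.mem_bot.mp (h ▸ hcR)

end Ctx

end CfsgLib.Walter.Three
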