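import Cfsg.Agent.Lib.Walter.Three.Abelian

/-!
An element acting on an abelian group centralised by `h` and moving `h` only inside it centralises both.
-/

set_option autoImplicit false
set_option linter.unusedSectionVars false
set_option linter.style.haveILetI false

namespace CfsgLib.Walter.Three

open Polynomial

universe u v

variable {Γ : Type u} {V : Type v} [Group Γ] [Finite Γ] [AddCommGroup V] [Module (ZMod 3) V] [Finite V]

theorem three_values {l : ℕ} (hl : 5 ≤ l) {a b c : ℕ} (ha : a = 1 ∨ a = 2) (hb : b = 2 ∨ b = 4) (hc : c = 3 ∨ c = 6)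
    (hab : a ≤ b → l ∣ b - a) (hac : a ≤ c → l ∣ c - a) :
    False := by
  have key : ∀ x y : ℕ, (x ≤ y → l ∣ y - x) → x < y → y < x + 5 → False := fun x y h h1 h2 => by
    have := Nat.le_of_dvd (by omega) (h h1.le)
    omega
  rcases ha with rfl | rfl <;> rcases hb with rfl | rfl <;> rcases hc with rfl | rfl
  all_goals first
    | (refine key _ _ hab ?_ ?_ <;> omega)
    | (refine key _ _ hac ?_ ?_ <;> omega)

namespace Ctx

variable {D : Ctx Γ V} {S : Set Γ} {π : Module.End (ZMod 3) V}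

theorem IsBlock.aeval_congr (B : D.IsBlock S π) {y y' : Module.End (ZMod 3) V} (hy : y ∈ D.alg S)
    (h : y * π = y' * π) (P : Polynomial (ZMod 3)) : aeval y P * π = aeval y' P * π := by
  have hpow : ∀ n : ℕ, y ^ n * π = y' ^ n * π := by
    intro n
    induction n with
    | zero => simp
    | succ n ih =>
      calc y ^ (n + 1) * π = y ^ n * π * (y * π) := by
            rw [pow_succ, mul_assoc (y ^ n) π, ← mul_assoc π y, ← B.torus.comm hy B.mem, mul_assoc y π, B.idem,
              ← mul_assoc]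
        _ = y' ^ n * (π * (y * π)) := by rw [ih, mul_assoc]
        _ = y' ^ n * (y * π) := by
            rw [← mul_assoc π y, ← B.torus.comm hy B.mem, mul_assoc y π, B.idem]
        _ = _ := by rw [h, ← mul_assoc, ← pow_succ]
  induction P using Polynomial.induction_on' with
  | add p q hp hq => rw [map_add, map_add, add_mul, add_mul, hp, hq]
  | monomial n c => rw [aeval_monomial, aeval_monomial, mul_assoc, mul_assoc, hpow]

theorem cj_aeval (x : Γ) (y : Module.End (ZMod 3) V) (P : Polynomial (ZMod 3)) :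
    D.cj x (aeval y P) = aeval (D.cj x y) P := by
  induction P using Polynomial.induction_on' with
  | add p q hp hq => rw [map_add, map_add, cj_add, hp, hq]
  | monomial n c => rw [aeval_monomial, aeval_monomial, cj_mul, cj_algebraMap, cj_pow]

theorem IsBlock.pow_h_eq_one (B : D.IsBlock S π) (hU : ∀ v ∈ D.U, D.eps π v = v) {k : ℕ}
    (h : D.ρ (D.h ^ k) * π = π) : D.h ^ k = 1 := by
  have h2 : D.ρ (D.h ^ k) * D.cj D.t π = D.cj D.t π := by
    have := congrArg (D.cj D.t) h
    rwa [cj_mul, cj_ρ, ← D.h_pow_comm k, mul_inv_cancel_right] at this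
  refine D.faithful _ (D.h_pow_mem k) (D.h_pow_comm k) fun v hv => ?_
  have he : D.ρ (D.h ^ k) * D.eps π = D.eps π := by rw [eps, mul_sub, mul_add, ← mul_assoc, h, h2]
  conv_lhs => rw [← hU v (D.mem_U.mpr hv)]
  rw [← Module.End.mul_apply, he, hU v (D.mem_U.mpr hv)]

variable (D)

/-- The main step: `x` normalises `A`, moves `h` by elements of `A` only, and is fixed or inverted by `t`. -/
theorem pair_comm (l : ℕ) (hl : l.Prime) (h5 : 5 ≤ l) (A : Subgroup Γ) (hAX : A ≤ D.X)
    (hab : ∀ a ∈ A, ∀ b ∈ A, a * b = b * a) (hlA : IsPGroup l A) (ht : ∀ a ∈ A, D.t * a * D.t⁻¹ ∈ A)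
    (hhA : ∀ a ∈ A, D.h * a = a * D.h) {x : Γ} (hxX : x ∈ D.X) (hxA : ∀ a ∈ A, x * a * x⁻¹ ∈ A)
    (hxA' : ∀ a ∈ A, x⁻¹ * a * x ∈ A) (hxl : x ^ l ∈ A) (hxh : x * D.h * x⁻¹ * D.h⁻¹ ∈ A)
    (hxt : D.t * x * D.t = x ∨ D.t * x * D.t = x⁻¹) :
    x * D.h = D.h * x ∧ ∀ a ∈ A, x * a = a * x := by
  classical
  haveI := Fact.mk hl
  set S : Set Γ := (A : Set Γ) ∪ {D.h} with hS
  have hhS : D.h ∈ S := Or.inr rfl
  have h3A : ∀ a ∈ A, ¬ 3 ∣ orderOf a := fun a ha h => by
    obtain ⟨k, hk⟩ := hlA ⟨a, ha⟩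
    have h1 : orderOf a ∣ l ^ k := orderOf_dvd_of_pow_eq_one (congrArg Subtype.val hk)
    have := Nat.prime_three.dvd_of_dvd_pow (h.trans h1)
    have := (Nat.prime_dvd_prime_iff_eq Nat.prime_three hl).mp this
    omega
  have hTS : D.TorusSet S := by
    refine ⟨?_, ?_⟩
    · rintro a (ha | rfl) b (hb | rfl)
      exacts [hab a ha b hb, (hhA a ha).symm, hhA b hb, rfl]
    · rintro a (ha | rfl)
      exacts [h3A a ha, fun h => torus_not_three D.m_pos (D.ord ▸ h)]
  have hAm : ∀ a ∈ A, D.ρ a ∈ D.alg S := fun a ha => D.ρ_mem_alg (Or.inl ha)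
  have hhm : D.ρ D.h ∈ D.alg S := D.ρ_mem_alg hhS
  have htS : ∀ s ∈ S, D.ρ (D.t * s * D.t⁻¹) ∈ D.alg S := by
    rintro s (hs | rfl)
    · exact hAm _ (ht s hs)
    · rw [D.h_comm, mul_inv_cancel_right]; exact hhm
  have hxS : ∀ s ∈ S, D.ρ (x * s * x⁻¹) ∈ D.alg S := by
    rintro s (hs | rfl)
    · exact hAm _ (hxA s hs)
    · rw [show x * D.h * x⁻¹ = x * D.h * x⁻¹ * D.h⁻¹ * D.h by group, map_mul]
      exact mul_mem (hAm _ hxh) hhm
  have hxh' : x⁻¹ * D.h * x * D.h⁻¹ ∈ A := by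
    have h := inv_mem (hxA' _ hxh)
    rw [show (x⁻¹ * (x * D.h * x⁻¹ * D.h⁻¹) * x)⁻¹ = x⁻¹ * D.h * x * D.h⁻¹ by group] at h
    exact h
  have hxS' : ∀ s ∈ S, D.ρ (x⁻¹ * s * x⁻¹⁻¹) ∈ D.alg S := by
    rintro s (hs | rfl)
    · rw [inv_inv]; exact hAm _ (hxA' s hs)
    · rw [inv_inv, show x⁻¹ * D.h * x = x⁻¹ * D.h * x * D.h⁻¹ * D.h by group, map_mul]
      exact mul_mem (hAm _ hxh') hhm
  have hxodd : Odd (orderOf x) := D.odd.of_dvd_nat (Subgroup.orderOf_dvd_natCard D.X hxX)
  obtain ⟨π, B⟩ := D.exists_block hTS htS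
  have hU : ∀ v ∈ D.U, D.eps π v = v := by
    refine B.eps_apply (j := 1) D.noSubfield_one ?_
    rw [pow_one]
    exact hTS.comm hhm B.eps_mem
  -- `x` fixes the block
  have fix : ∀ p : Module.End (ZMod 3) V, D.IsBlock S p → (∀ v ∈ D.U, D.eps p v = v) → D.cj x p = p := by
    intro p P hP
    rcases hxt with hc | hi
    · refine (P.fixed_of_cover hP ?_ hxodd hxS hxS').2
      calc x * D.t = D.t * x * D.t * D.t := by rw [hc]
        _ = D.t * x := by rw [mul_assoc, D.t_sq, mul_one]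
    by_contra hne
    set q : ℕ → Module.End (ZMod 3) V := fun i => D.cj (x ^ i) p with hq
    have hql : q l = p := D.cj_of_commute (hTS.comm (hAm _ hxl) P.mem)
    have hqmul : ∀ i k : ℕ, q i = p → q (k * i) = p := by
      intro i k h
      induction k with
      | zero => simp [hq, cj_of_one]
      | succ k ih =>
        show D.cj (x ^ ((k + 1) * i)) p = p
        rw [Nat.add_mul, one_mul, pow_add, ← cj_cj]
        simp only [hq] at h ih
        rw [h, ih]
    have hdiv : ∀ i : ℕ, q i = p → l ∣ i := by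
      intro i hi'
      by_contra hdvd
      obtain ⟨k, -, hk⟩ := Nat.exists_mul_mod_eq_one_of_coprime ((Nat.Prime.coprime_iff_not_dvd hl).mpr hdvd).symm hl.one_lt
      have h1 := hqmul i k hi'
      have h2 := hqmul l ((k * i) / l) hql
      apply hne
      simp only [hq] at h1 h2
      have hk' : k * i = l * (k * i / l) + 1 := by
        have := Nat.div_add_mod (k * i) l
        have hk2 : k * i % l = 1 := by rw [Nat.mul_comm]; exact hk
        rw [hk2] at this
        exact this.symm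
      have h3 : D.cj (x ^ (k * i / l * l)) p = p := hqmul l (k * i / l) hql
      rw [hk', Nat.mul_comm l, pow_succ', ← cj_cj, h3] at h1
      exact h1
    have hdiff : ∀ i j : ℕ, q i = D.cj D.t p → q j = D.cj D.t p → i ≤ j → l ∣ j - i := by
      intro i j h1 h2 hij
      refine hdiv _ (D.cj_inj (x ^ i) ?_)
      rw [cj_cj, ← pow_add, Nat.add_sub_cancel' hij]
      exact h2.trans h1.symm
    obtain ⟨i, hi0, hi1, hi2⟩ : ∃ i : ℕ, (i = 1 ∨ i = 2 ∨ i = 3) ∧ q i ≠ D.cj D.t p ∧ q (2 * i) ≠ D.cj D.t p := by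
      by_contra hno
      push Not at hno
      have pick : ∀ i, (i = 1 ∨ i = 2 ∨ i = 3) → ∃ a, (a = i ∨ a = 2 * i) ∧ q a = D.cj D.t p := fun i hi' => by
        by_cases h : q i = D.cj D.t p
        · exact ⟨i, Or.inl rfl, h⟩
        · exact ⟨2 * i, Or.inr rfl, hno i hi' h⟩
      obtain ⟨a, ha, hqa⟩ := pick 1 (Or.inl rfl)
      obtain ⟨b, hb, hqb⟩ := pick 2 (Or.inr (Or.inl rfl))
      obtain ⟨c, hc, hqc⟩ := pick 3 (Or.inr (Or.inr rfl))
      exact three_values h5 ha hb hc (hdiff a b hqa hqb) (hdiff a c hqa hqc)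
    have hne1 : ∀ d : ℕ, d = i ∨ d = 2 * i → q d ≠ p := by
      intro d hd hqd
      have := hdiv d hqd
      rcases hd with rfl | rfl
      · have := Nat.le_of_dvd (by omega) this
        omega
      · rcases (Nat.Prime.dvd_mul hl).mp this with h | h
        · have := Nat.le_of_dvd (by norm_num) h
          omega
        · have := Nat.le_of_dvd (by omega) h
          omega
    have hnorm : ∀ n : ℕ, (∀ s ∈ S, D.ρ (x ^ n * s * (x ^ n)⁻¹) ∈ D.alg S) ∧
        ∀ s ∈ S, D.ρ ((x ^ n)⁻¹ * s * (x ^ n)⁻¹⁻¹) ∈ D.alg S := by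
      have gen : ∀ y : Γ, (∀ s ∈ S, D.ρ (y * s * y⁻¹) ∈ D.alg S) → ∀ n : ℕ, ∀ s ∈ S,
          D.ρ (y ^ n * s * (y ^ n)⁻¹) ∈ D.alg S := by
        intro y hy n
        induction n with
        | zero => intro s hs; simpa using D.ρ_mem_alg hs
        | succ n ih =>
          intro s hs
          rw [← cj_ρ, pow_succ', ← cj_cj]
          exact D.cj_mem hy (by rw [cj_ρ]; exact ih s hs)
      exact fun n => ⟨gen x hxS n, fun s hs => by simpa [inv_pow] using gen x⁻¹ hxS' n s hs⟩
    have hzero : ∀ d : ℕ, (d = i ∨ d = 2 * i) → q d * D.eps p = 0 := by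
      intro d hd
      have hA := P.atom_cj (hnorm d).1 (hnorm d).2
      have o1 : p * q d = 0 := (P.eq_or_orth hA).resolve_right fun e => hne1 d hd e.symm
      have o2 : D.cj D.t p * q d = 0 := (P.swap.eq_or_orth hA).resolve_right fun e => by
        rcases hd with rfl | rfl
        exacts [hi1 e.symm, hi2 e.symm]
      rw [P.torus.comm P.mem hA.mem] at o1
      rw [P.torus.comm P.swap.mem hA.mem] at o2
      rw [eps, mul_sub, mul_add, ← mul_assoc, o1, o2]
      simp
    obtain ⟨v, hv, hpv⟩ := P.ne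
    have htx : ∀ k : ℕ, D.t * x ^ k * D.t = (x ^ k)⁻¹ := by
      intro k
      induction k with
      | zero => simp [D.t_sq]
      | succ k ih =>
        calc D.t * x ^ (k + 1) * D.t = (D.t * x * D.t) * (D.t * x ^ k * D.t) := by
              rw [pow_succ']; simp only [mul_assoc]; rw [← mul_assoc D.t D.t, D.t_sq, one_mul]
          _ = _ := by rw [hi, ih, pow_succ, mul_inv_rev]
    have hw : D.ρ (x ^ i) v + D.ρ (x ^ i)⁻¹ v ∈ D.U := by
      have h := D.add_mem_U (D.ρ (x ^ i) v)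
      have e : D.ρ D.t (D.ρ (x ^ i) v) = D.ρ (x ^ i)⁻¹ v := by
        conv_lhs => rw [← D.mem_U.mp hv]
        rw [ρ_mul, ρ_mul, ← htx i, mul_assoc]
      rwa [e] at h
    have h1 : q i (D.ρ (x ^ i) v + D.ρ (x ^ i)⁻¹ v) = 0 := by
      conv_lhs => rw [← hP _ hw]
      rw [← Module.End.mul_apply, hzero i (Or.inl rfl), LinearMap.zero_apply]
    have h2 : q i (D.ρ (x ^ i)⁻¹ v) = 0 := by
      have e : q i = D.cj (x ^ i)⁻¹ (q (2 * i)) := by
        simp only [hq]
        rw [cj_cj, two_mul, pow_add, inv_mul_cancel_left]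
      rw [e, D.cj_apply_U]
      have h0 : q (2 * i) v = 0 := by
        conv_lhs => rw [← hP v hv]
        rw [← Module.End.mul_apply, hzero (2 * i) (Or.inr rfl), LinearMap.zero_apply]
      rw [h0, map_zero]
    rw [map_add, h2, add_zero] at h1
    simp only [hq] at h1
    rw [D.cj_apply_U] at h1
    apply hpv
    have := congrArg (D.ρ (x ^ i)⁻¹) h1
    rwa [ρ_inv_apply, map_zero] at this
  -- on the block `x` is trivial
  have main : ∀ p : Module.End (ZMod 3) V, D.IsBlock S p → (∀ v ∈ D.U, D.eps p v = v) →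
      ∀ b ∈ D.alg S, D.cj x b * p = b * p := by
    intro p P hP
    have hfix := fix p P hP
    obtain ⟨g, hg⟩ := P.exists_frob hxS hfix
    set a' := x * D.h * x⁻¹ * D.h⁻¹ with ha'
    have hxh2 : x * D.h * x⁻¹ = a' * D.h := by rw [ha']; group
    have h1 : D.ρ a' * D.ρ D.h * p = D.ρ (D.h ^ 3 ^ g) * p := by
      rw [← map_mul, ← hxh2, ← cj_ρ, hg _ hhm, map_pow]
    -- the `l`-part
    obtain ⟨e, he⟩ := hlA ⟨a', hxh⟩
    have hae : a' ^ l ^ e = 1 := congrArg Subtype.val he
    have h2 : D.h ^ ((3 ^ g - 1) * l ^ e) = 1 := by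
      refine P.pow_h_eq_one hP ?_
      have h3 : D.ρ a' * p = D.ρ (D.h ^ (3 ^ g - 1)) * p := by
        calc D.ρ a' * p = D.ρ a' * D.ρ D.h * p * D.ρ D.h⁻¹ := by
              rw [mul_assoc (D.ρ a'), mul_assoc (D.ρ a'), hTS.comm hhm P.mem, mul_assoc p, ρ_mul_inv, mul_one]
          _ = D.ρ (D.h ^ 3 ^ g) * (p * D.ρ D.h⁻¹) := by rw [h1, mul_assoc]
          _ = D.ρ (D.h ^ (3 ^ g - 1)) * p := by
              have hmem : D.ρ D.h⁻¹ ∈ D.alg S := by
                have : D.h⁻¹ = D.h ^ (orderOf D.h - 1) := by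
                  refine inv_eq_of_mul_eq_one_right ?_
                  rw [← pow_succ', Nat.sub_add_cancel (orderOf_pos D.h), pow_orderOf_eq_one]
                rw [this, map_pow]
                exact pow_mem hhm _
              rw [← hTS.comm hmem P.mem, ← mul_assoc, ← map_mul]
              congr 2
              rw [pow_sub _ (Nat.one_le_pow _ _ (by norm_num)), pow_one]
      have hpow : ∀ k : ℕ, D.ρ (a' ^ k) * p = D.ρ ((D.h ^ (3 ^ g - 1)) ^ k) * p := by
        intro k
        have := P.aeval_congr (hAm _ hxh) h3 ((Polynomial.X : Polynomial (ZMod 3)) ^ k)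
        simpa [map_pow] using this
      rw [pow_mul, ← hpow, hae, map_one, one_mul]
    have hdiv : torusOrder D.m ∣ (3 ^ g - 1) * l ^ e := D.ord ▸ orderOf_dvd_of_pow_eq_one h2
    -- `x ^ l` centralises `h`
    have hiter : ∀ n : ℕ, D.ρ (x ^ n * D.h * (x ^ n)⁻¹) * p = D.ρ (D.h ^ 3 ^ (g * n)) * p := by
      intro n
      induction n with
      | zero => simp
      | succ n ih =>
        have hfix' : D.cj x p = p := hfix
        calc D.ρ (x ^ (n + 1) * D.h * (x ^ (n + 1))⁻¹) * p = D.cj x (D.ρ (x ^ n * D.h * (x ^ n)⁻¹) * p) := by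
              rw [cj_mul, hfix', cj_ρ]
              congr 2
              rw [pow_succ']; group
          _ = _ := by
              rw [ih, cj_mul, hfix', map_pow, cj_pow]
              have := P.aeval_congr (D.cj_mem hxS hhm) (hg _ hhm) ((Polynomial.X : Polynomial (ZMod 3)) ^ 3 ^ (g * n))
              simp only [map_pow, aeval_X] at this
              rw [this, ← pow_mul, ← pow_add, ← map_pow, show g + g * n = g * (n + 1) by ring]
    have h4 : D.h ^ (3 ^ (g * l) - 1) = 1 := by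
      refine P.pow_h_eq_one hP ?_
      have h := hiter l
      rw [show x ^ l * D.h * (x ^ l)⁻¹ = D.h by rw [← hhA _ hxl, mul_inv_cancel_right]] at h
      rw [show D.h ^ (3 ^ (g * l) - 1) = D.h ^ 3 ^ (g * l) * D.h⁻¹ by
        rw [pow_sub _ (Nat.one_le_pow _ _ (by norm_num)), pow_one], map_mul]
      have hmem : D.ρ D.h⁻¹ ∈ D.alg S := by
        have : D.h⁻¹ = D.h ^ (orderOf D.h - 1) := by
          refine inv_eq_of_mul_eq_one_right ?_
          rw [← pow_succ', Nat.sub_add_cancel (orderOf_pos D.h), pow_orderOf_eq_one]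
        rw [this, map_pow]
        exact pow_mem hhm _
      rw [mul_assoc, hTS.comm hmem P.mem, ← mul_assoc, ← h, mul_assoc, ← hTS.comm hmem P.mem, ← mul_assoc,
        ρ_mul_inv, one_mul]
    have hgl : D.m ∣ g * l := by
      have hd : torusOrder D.m ∣ 3 ^ Nat.gcd (g * l) D.m - 1 :=
        dvd_three_pow_gcd (D.ord ▸ orderOf_dvd_of_pow_eq_one h4) (Dvd.intro_left _ (two_mul_torus D.m))
      by_contra hn
      have hlt : Nat.gcd (g * l) D.m < D.m :=
        lt_of_le_of_ne (Nat.le_of_dvd D.m_pos (Nat.gcd_dvd_right _ _)) fun e => hn (e ▸ Nat.gcd_dvd_left _ _)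
      exact D.noSubfield_one _ (Nat.gcd_dvd_right _ _) hlt (by rwa [mul_one])
    set g0 := Nat.gcd g D.m with hg0
    have hdiv0 : torusOrder D.m ∣ (3 ^ g0 - 1) * l ^ e := by
      rw [hg0, ← Nat.pow_sub_one_gcd_pow_sub_one, ← Nat.gcd_mul_right]
      exact Nat.dvd_gcd hdiv (Dvd.dvd.mul_right (Dvd.intro_left _ (two_mul_torus D.m)) _)
    obtain ⟨r, hr⟩ : g0 ∣ D.m := Nat.gcd_dvd_right _ _
    have hrl : r ∣ l := by
      have h0 : D.m ∣ g0 * l := by
        rw [hg0, ← Nat.gcd_mul_right]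
        exact Nat.dvd_gcd hgl (dvd_mul_right _ _)
      rw [hr] at h0
      have hg0pos : 0 < g0 := Nat.pos_of_ne_zero fun e0 => by
        have := D.m_pos
        rw [hr, e0, zero_mul] at this
        omega
      exact (Nat.mul_dvd_mul_iff_left hg0pos).mp h0
    have hr1 : r = 1 := by
      refine (hl.eq_one_or_self_of_dvd r hrl).resolve_right fun e' => ?_
      subst e'
      rw [hr] at hdiv0
      exact not_power hl h5 (hr ▸ D.m_odd) hdiv0
    subst hr1
    rw [mul_one] at hr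
    have hgm : D.m ∣ g := hr ▸ Nat.gcd_dvd_left _ _
    have hσh : D.cj x (D.ρ D.h) * p = D.ρ D.h * p := by
      rw [hg _ hhm, ← map_pow]
      congr 2
      have h : torusOrder D.m ∣ 3 ^ g - 1 :=
        (Dvd.intro_left _ (two_mul_torus D.m)).trans (Nat.pow_sub_one_dvd_pow_sub_one 3 hgm)
      conv_lhs => rw [← Nat.sub_add_cancel (Nat.one_le_pow g 3 (by norm_num)), pow_add, pow_one,
        orderOf_dvd_iff_pow_eq_one.mp (D.ord.symm ▸ h), one_mul]
    have hsym : ∀ s ∈ D.alg S, D.cj D.t s = s → D.cj x s * p = s * p := by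
      intro s hs hst
      have hsU : ∀ v ∈ D.U, s v ∈ D.U := fun v hv => by
        rw [mem_U]
        have h := D.cj_apply_U (x := D.t) (b := s) v
        rw [hst, D.mem_U.mp hv] at h
        exact h.symm
      obtain ⟨P0, hP0⟩ := D.hU_irr.poly_of_commute (C := s.restrict hsU) (LinearMap.ext fun v => Subtype.ext
        (DFunLike.congr_fun (hTS.comm hs hhm) (v : V)))
      have hmem : aeval (D.ρ D.h) P0 ∈ D.alg S := Algebra.adjoin_le (by rintro _ rfl; exact hhm)
        (aeval_mem_adjoin_singleton (ZMod 3) (D.ρ D.h))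
      have hk := P.kill (sub_mem hs hmem) fun v hv => by
        have h := D.aeval_hU 1 P0 ⟨v, hv⟩
        rw [pow_one, pow_one, ← hP0] at h
        rw [LinearMap.sub_apply, sub_eq_zero]
        exact h
      rw [sub_mul, sub_eq_zero] at hk
      calc D.cj x s * p = D.cj x (s * p) := by rw [cj_mul, hfix]
        _ = aeval (D.cj x (D.ρ D.h)) P0 * p := by rw [hk, cj_mul, hfix, cj_aeval]
        _ = aeval (D.ρ D.h) P0 * p := P.aeval_congr (D.cj_mem hxS hhm) hσh P0
        _ = s * p := hk.symm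
    intro b hb
    have hb' : D.cj D.t b ∈ D.alg S := P.cj_t_mem hb
    refine P.quadratic hxS hfix hxodd hb hb' (hsym _ (add_mem hb hb') ?_) (hsym _ (mul_mem hb hb') ?_)
    · rw [cj_add, cj_cj, D.t_sq, cj_of_one, add_comm]
    · rw [cj_mul, cj_cj, D.t_sq, cj_of_one, P.torus.comm hb' hb]
  have htriv : ∀ y ∈ S, x * y * x⁻¹ * y⁻¹ ∈ A → x * y = y * x := by
    intro y hy hcA
    set c := x * y * x⁻¹ * y⁻¹ with hc
    have hone : ∀ p : Module.End (ZMod 3) V, D.IsBlock S p → (∀ v ∈ D.U, D.eps p v = v) → D.ρ c * p = p := by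
      intro p P hP
      have hyinv : D.ρ y⁻¹ ∈ D.alg S := by
        have e : y⁻¹ = y ^ (orderOf y - 1) := by
          refine inv_eq_of_mul_eq_one_right ?_
          rw [← pow_succ', Nat.sub_add_cancel (orderOf_pos y), pow_orderOf_eq_one]
        rw [e, map_pow]
        exact pow_mem (D.ρ_mem_alg hy) _
      have h := main p P hP (D.ρ y) (D.ρ_mem_alg hy)
      rw [cj_ρ] at h
      rw [hc, map_mul, mul_assoc, hTS.comm hyinv P.mem, ← mul_assoc, h, hTS.comm (D.ρ_mem_alg hy) P.mem, mul_assoc,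
        ρ_mul_inv, mul_one]
    have h1 := B.eq_one hU (c := c) (hAX hcA) (hTS.comm (hAm _ hcA) B.eps_mem) (hone π B hU)
      (hone _ B.swap (fun v hv => by rw [B.eps_swap]; exact hU v hv))
    rw [hc, mul_inv_eq_one, mul_inv_eq_iff_eq_mul] at h1
    exact h1
  refine ⟨htriv _ hhS hxh, fun a ha => htriv a (Or.inl ha) ?_⟩
  exact mul_mem (hxA a ha) (inv_mem ha)

end Ctx

end CfsgLib.Walter.Three
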