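import Cfsg.Agent.Lib.Walter.Three.LGroup
import Cfsg.Agent.Lib.PSolvable
import Cfsg.Agent.S0205

/-!
The centre of the Fitting subgroup of the odd part, and its elements of a chosen prime order.
-/

set_option autoImplicit false
set_option linter.unusedSectionVars false
set_option linter.style.haveILetI false

namespace CfsgLib.Walter.Three

open Cfsg

universe u v

variable {Γ : Type u} {V : Type v} [Group Γ] [Finite Γ] [AddCommGroup V] [Module (ZMod 3) V] [Finite V]

/-- Automorphisms map the Fitting subgroup into itself. -/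
theorem fitting_map_mem {G : Type u} [Group G] (τ : G ≃* G) {x : G} (hx : x ∈ fittingSubgroup G) :
    τ x ∈ fittingSubgroup G := by
  have h : (fittingSubgroup G).map τ.toMonoidHom ≤ fittingSubgroup G := by
    rw [Subgroup.map_le_iff_le_comap]
    refine sSup_le fun N hN => Subgroup.map_le_iff_le_comap.mp (le_sSup ⟨hN.1.map _ τ.surjective, ?_⟩)
    haveI := hN.2
    exact Group.isNilpotent_congr (N.equivMapOfInjective τ.toMonoidHom τ.injective) |>.mp inferInstance
  exact h ⟨x, hx, rfl⟩

namespace Ctx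

variable (D : Ctx Γ V)

/-- The centre of the Fitting subgroup of `X`, in `Γ`. -/
noncomputable def fitCenter : Subgroup Γ :=
  (fittingSubgroup D.X ⊓ Subgroup.centralizer (fittingSubgroup D.X : Set D.X)).map D.X.subtype

theorem fitCenter_le : D.fitCenter ≤ D.X := Subgroup.map_subtype_le _

theorem fitCenter_comm {x y : Γ} (hx : x ∈ D.fitCenter) (hy : y ∈ D.fitCenter) : x * y = y * x := by
  obtain ⟨a, ha, rfl⟩ := hx
  obtain ⟨b, hb, rfl⟩ := hy
  exact congrArg Subtype.val (Subgroup.mem_centralizer_iff.mp hb.2 a ha.1)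

theorem X_normal (hcover : ∀ g : Γ, g ∈ D.X ∨ g * D.t ∈ D.X) : D.X.Normal := by
  refine ⟨fun x hx g => ?_⟩
  rcases hcover g with hg | hg
  · exact mul_mem (mul_mem hg hx) (inv_mem hg)
  · rw [show g * x * g⁻¹ = g * D.t * (D.t⁻¹ * x * D.t) * (g * D.t)⁻¹ by group]
    refine mul_mem (mul_mem hg ?_) (inv_mem hg)
    rw [t_inv]
    exact D.norm x hx

theorem fitCenter_conj [D.X.Normal] (g : Γ) {x : Γ} (hx : x ∈ D.fitCenter) : g * x * g⁻¹ ∈ D.fitCenter := by
  obtain ⟨a, ⟨ha1, ha2⟩, rfl⟩ := hx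
  let τ : MulAut D.X := MulAut.conjNormal g
  refine ⟨τ a, ⟨fitting_map_mem τ ha1, Subgroup.mem_centralizer_iff.mpr fun z hz => ?_⟩,
    MulAut.conjNormal_apply g a⟩
  have h := congrArg τ (Subgroup.mem_centralizer_iff.mp ha2 (τ.symm z) (fitting_map_mem τ.symm hz))
  rwa [map_mul, map_mul, MulEquiv.apply_symm_apply] at h

/-- The torus element lies in the centre of the Fitting subgroup. -/
theorem h_mem_fitCenter [D.X.Normal]
    (h3 : ∀ N : Subgroup Γ, N ≤ D.X → IsPGroup 3 N → (∀ x ∈ D.X, ∀ n ∈ N, x * n * x⁻¹ ∈ N) → N = ⊥) :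
    D.h ∈ D.fitCenter := by
  classical
  haveI : Group.IsSolvable D.X := Cfsg.Agent.S0205.result D.odd
  set h' : D.X := ⟨D.h, D.h_mem⟩ with hh'
  have hP : ∀ p : Nat.Primes, pCore (p : ℕ) D.X ≤ Subgroup.centralizer ({h'} : Set D.X) := by
    rintro ⟨p, hp⟩
    haveI := Fact.mk hp
    set N := (pCore p D.X).map D.X.subtype with hN
    have hNp : IsPGroup p N := (CfsgLib.isPGroup_pCore (G := D.X) p).map _
    have hconj : ∀ g : Γ, ∀ n ∈ N, g * n * g⁻¹ ∈ N := by
      rintro g _ ⟨n, hn, rfl⟩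
      let τ : MulAut D.X := MulAut.conjNormal g
      refine ⟨τ n, ?_, MulAut.conjNormal_apply g n⟩
      have h := Subgroup.characteristic_iff_map_eq.mp (inferInstance : (pCore p D.X).Characteristic) τ
      rw [← h]
      exact ⟨n, hn, rfl⟩
    intro n hn
    refine Subgroup.mem_centralizer_singleton_iff.mpr ?_
    have hnN : (n : Γ) ∈ N := ⟨n, hn, rfl⟩
    rcases lt_or_ge p 5 with hlt | h5
    · have hbot : N = ⊥ := by
        have h2 := hp.two_le
        interval_cases p
        · obtain ⟨k, hk⟩ := IsPGroup.iff_card.mp hNp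
          rw [Subgroup.eq_bot_iff_card, hk]
          rcases k with _ | k
          · rfl
          · have := D.odd.of_dvd_nat (Subgroup.card_dvd_of_le (Subgroup.map_subtype_le (pCore 2 D.X)))
            rw [← hN, hk, pow_succ'] at this
            exact absurd ((Nat.odd_mul.mp this).1) (by decide)
        · exact h3 N (Subgroup.map_subtype_le _) hNp fun x _ m hm => hconj x m hm
        · exact absurd hp (by norm_num)
      rw [hbot, Subgroup.mem_bot] at hnN
      rw [show n = 1 from Subtype.ext hnN, one_mul, mul_one]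
    · exact Subtype.ext (D.lgroup_centralized hp h5 N (Subgroup.map_subtype_le _) hNp
        (fun m hm => ⟨hconj D.t m hm, hconj D.h m hm⟩) hnN).symm
  have hF : fittingSubgroup D.X ≤ Subgroup.centralizer ({h'} : Set D.X) := by
    rw [CfsgLib.fittingSubgroup_eq_iSup_pCore]
    exact iSup_le hP
  have hc : h' ∈ Subgroup.centralizer (fittingSubgroup D.X : Set D.X) :=
    Subgroup.mem_centralizer_iff.mpr fun z hz => Subgroup.mem_centralizer_singleton_iff.mp (hF hz)
  exact ⟨h', ⟨CfsgLib.centralizer_fitting_le hc, hc⟩, rfl⟩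

/-- The elements of order dividing `s` of that centre. -/
noncomputable def torsion (s : ℕ) : Subgroup Γ where
  carrier := {x | x ∈ D.fitCenter ∧ x ^ s = 1}
  one_mem' := ⟨one_mem _, one_pow s⟩
  mul_mem' := fun {a b} ha hb => ⟨mul_mem ha.1 hb.1, by
    rw [(show Commute a b from D.fitCenter_comm ha.1 hb.1).mul_pow, ha.2, hb.2, one_mul]⟩
  inv_mem' := fun {a} ha => ⟨inv_mem ha.1, by rw [inv_pow, ha.2, inv_one]⟩

theorem torsion_comm {s : ℕ} {x y : Γ} (hx : x ∈ D.torsion s) (hy : y ∈ D.torsion s) : x * y = y * x :=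
  D.fitCenter_comm hx.1 hy.1

theorem torsion_conj [D.X.Normal] {s : ℕ} (g : Γ) {x : Γ} (hx : x ∈ D.torsion s) : g * x * g⁻¹ ∈ D.torsion s :=
  ⟨D.fitCenter_conj g hx.1, by rw [conj_pow, hx.2, mul_one, mul_inv_cancel]⟩

end Ctx

end CfsgLib.Walter.Three
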